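import Cfsg.Agent.TwoPointAltFour.Local

/-!
# Degree six
-/

set_option autoImplicit false
set_option linter.unusedSectionVars false
set_option linter.style.haveILetI false

namespace CfsgLib.TwoPointAltFour

open MulAction Subgroup

variable {G : Type*} [Group G] [Finite G] {Ω : Type*} [Finite Ω] [MulAction G Ω] [FaithfulSMul G Ω]

theorem Hyp.equiv_alt_six (h : Hyp G Ω) {x y : Ω} (hxy : x ≠ y) (hn : Nat.card Ω = 6) :
    Nonempty (G ≃* alternatingGroup (Fin 6)) := by
  classical
  obtain ⟨e⟩ : Nonempty (Ω ≃ Fin 6) := Finite.card_eq.1 (by rw [hn, Nat.card_fin])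
  let φ : G →* Equiv.Perm (Fin 6) := e.permCongrHom.toMonoidHom.comp (MulAction.toPermHom G Ω)
  have hφ : Function.Injective φ := e.permCongrHom.injective.comp toPerm_injective
  have hr : φ.range = alternatingGroup (Fin 6) := by
    refine Equiv.Perm.eq_alternatingGroup_of_index_eq_two ?_
    have h1 := φ.range.card_mul_index
    rw [← Nat.card_congr (MonoidHom.ofInjective hφ).toEquiv, h.card_group hxy, hn,
      Nat.card_eq_fintype_card, Fintype.card_perm, Fintype.card_fin,
      show Nat.factorial 6 = 720 by decide] at h1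
    omega
  exact ⟨(MonoidHom.ofInjective hφ).trans (MulEquiv.subgroupCongr hr)⟩

end CfsgLib.TwoPointAltFour
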