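import Mathlib

/-!
# Small lemmas: cosets of odd subgroups fixed by involutions, and four-groups which are Sylow
-/

set_option autoImplicit false
set_option linter.unusedSectionVars false
set_option linter.style.haveILetI false

namespace CfsgLib.TwoPointAltFour

open Subgroup

variable {G : Type*} [Group G] [Finite G]

/-- An involution fixing the coset of a normalised odd subgroup centralises one of its members. -/
theorem exists_commute_coset {O : Subgroup G} (hO : Odd (Nat.card O)) {v g : G} (hv : v * v = 1)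
    (hvO : ∀ o ∈ O, v * o * v⁻¹ ∈ O) (hg : g⁻¹ * (v * g * v⁻¹) ∈ O) :
    ∃ o ∈ O, g * o * v = v * (g * o) := by
  classical
  haveI := Fintype.ofFinite O
  let f : O → O := fun o => ⟨g⁻¹ * (v * (g * o) * v⁻¹), by
    rw [show g⁻¹ * (v * (g * (o : G)) * v⁻¹) = g⁻¹ * (v * g * v⁻¹) * (v * o * v⁻¹) by group]
    exact mul_mem hg (hvO o o.2)⟩
  have hf : ∀ o, f (f o) = o := fun o => Subtype.ext (by
    show g⁻¹ * (v * (g * (g⁻¹ * (v * (g * (o : G)) * v⁻¹))) * v⁻¹) = o
    have hvi : v⁻¹ = v := inv_eq_of_mul_eq_one_right hv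
    calc g⁻¹ * (v * (g * (g⁻¹ * (v * (g * (o : G)) * v⁻¹))) * v⁻¹)
        = g⁻¹ * ((v * v) * (g * o) * (v⁻¹ * v⁻¹)) := by group
      _ = o := by rw [hvi, hv]; group)
  obtain ⟨o, ho⟩ : ∃ o, f o = o := by
    let e : Equiv.Perm O := ⟨f, f, hf, hf⟩
    have he : e ^ (2 : ℕ) ^ (1 : ℕ) = 1 := Equiv.ext fun o => hf o
    have hcard : ¬ 2 ∣ Fintype.card O := by
      rw [← Nat.card_eq_fintype_card]; exact hO.not_two_dvd_nat
    haveI : Fact (Nat.Prime 2) := ⟨Nat.prime_two⟩
    exact Equiv.Perm.exists_fixed_point_of_prime hcard he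
  refine ⟨o, o.2, ?_⟩
  have h' : g⁻¹ * (v * (g * (o : G)) * v⁻¹) = o := congrArg Subtype.val ho
  calc g * o * v = g * (g⁻¹ * (v * (g * (o : G)) * v⁻¹)) * v := by rw [h']
    _ = v * (g * o) := by group

/-- The order of an image. -/
theorem card_map_mul {H : Type*} [Group H] (f : G →* H) (A : Subgroup G) :
    Nat.card (A.map f) * Nat.card (A ⊓ f.ker : Subgroup G) = Nat.card A := by
  have h := (f.subgroupMap A).ker.card_mul_index
  rw [index_ker, MonoidHom.range_eq_top.2 (f.subgroupMap_surjective A), card_top] at h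
  rw [← h, mul_comm]
  congr 1
  exact Nat.card_congr
    { toFun := fun a => ⟨⟨a.1, a.2.1⟩, Subtype.ext a.2.2⟩
      invFun := fun a => ⟨a.1.1, a.1.2, congrArg Subtype.val (MonoidHom.mem_ker.1 a.2)⟩
      left_inv := fun _ => rfl
      right_inv := fun _ => rfl }

/-- If the 2-subgroups have order at most four, an element normalising a four-group and
centralising one of its involutions centralises it. -/
theorem centralizes_of_fix (h4 : ∀ P : Subgroup G, IsPGroup 2 P → Nat.card P ≤ 4) {V : Subgroup G}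
    (hV : Nat.card V = 4) (hVsq : ∀ v ∈ V, v * v = 1) {g t : G} (ht : t ∈ V) (ht1 : t ≠ 1)
    (hgV : ∀ v ∈ V, g * v * g⁻¹ ∈ V) (hgt : g * t = t * g) :
    ∀ v ∈ V, g * v = v * g := by
  classical
  haveI : Fact (Nat.Prime 2) := ⟨Nat.prime_two⟩
  have hcomm : ∀ p ∈ V, ∀ q ∈ V, p * q = q * p := fun p hp q hq => by
    calc p * q = (p * q)⁻¹ := (inv_eq_of_mul_eq_one_right (hVsq _ (mul_mem hp hq))).symm
      _ = q⁻¹ * p⁻¹ := mul_inv_rev p q
      _ = q * p := by
        rw [inv_eq_of_mul_eq_one_right (hVsq q hq), inv_eq_of_mul_eq_one_right (hVsq p hp)]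
  -- the square of `g` centralises `V`
  have hg2 : ∀ v ∈ V, g ^ 2 * v * (g ^ 2)⁻¹ = v := by
    intro v hv
    rw [show g ^ 2 * v * (g ^ 2)⁻¹ = g * (g * v * g⁻¹) * g⁻¹ by rw [pow_two, mul_inv_rev]; group]
    by_cases hv1 : v = 1
    · rw [hv1]; group
    by_cases hvt : v = t
    · have e : g * t * g⁻¹ = t := by rw [hgt]; group
      rw [hvt, e, e]
    have hmem : ∀ u ∈ V, u = 1 ∨ u = t ∨ u = v ∨ u = v * t := by
      intro u hu
      by_contra hc
      push Not at hc
      have h5 : ({u, 1, t, v, v * t} : Finset G).card = 5 := by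
        have e1 : v * t ≠ t := fun e => hv1 (by simpa using e)
        have e2 : v * t ≠ 1 := fun e => hvt (by
          rw [eq_inv_of_mul_eq_one_left e, inv_eq_of_mul_eq_one_right (hVsq t ht)])
        have e3 : v * t ≠ v := fun e => ht1 (by simpa using e)
        rw [Finset.card_insert_of_notMem, Finset.card_insert_of_notMem,
          Finset.card_insert_of_notMem, Finset.card_pair e3.symm]
        · simp [Ne.symm hvt, e1.symm]
        · simp [ht1.symm, Ne.symm hv1, e2.symm]
        · simp [hc.1, hc.2.1, hc.2.2.1, hc.2.2.2]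
      have hsub : ((({u, 1, t, v, v * t} : Finset G)) : Set G) ⊆ (V : Set G) := by
        intro w hw
        simp only [Finset.coe_insert, Finset.coe_singleton, Set.mem_insert_iff,
          Set.mem_singleton_iff] at hw
        rcases hw with rfl | rfl | rfl | rfl | rfl
        exacts [hu, one_mem _, ht, hv, mul_mem hv ht]
      have h' := Set.ncard_le_ncard hsub (Set.toFinite _)
      rw [Set.ncard_coe_finset, h5, ← Nat.card_coe_set_eq] at h'
      rw [show Nat.card ((V : Set G) : Type _) = 4 from hV] at h'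
      omega
    have hgt' : g * t * g⁻¹ = t := by rw [hgt]; group
    rcases hmem _ (hgV v hv) with e | e | e | e
    · exact absurd (by calc v = g⁻¹ * (g * v * g⁻¹) * g := by group
        _ = 1 := by rw [e]; group) hv1
    · exact absurd (by calc v = g⁻¹ * (g * v * g⁻¹) * g := by group
        _ = g⁻¹ * (g * t * g⁻¹) * g := by rw [e, hgt']
        _ = t := by group) hvt
    · rw [e, e]
    · rw [e, show g * (v * t) * g⁻¹ = (g * v * g⁻¹) * (g * t * g⁻¹) by group, e, hgt', mul_assoc,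
        hVsq t ht, mul_one]
  -- split off the odd part
  obtain ⟨a, m, hm, hom⟩ := Nat.exists_eq_pow_mul_and_not_dvd (orderOf_pos g).ne' 2 (by norm_num)
  obtain ⟨j, hj⟩ : Odd m := Nat.odd_iff.2 (by omega)
  have hgm : ∀ v ∈ V, g ^ m * v * (g ^ m)⁻¹ = g * v * g⁻¹ := by
    intro v hv
    have : ∀ i : ℕ, (g ^ 2) ^ i * v * ((g ^ 2) ^ i)⁻¹ = v := fun i => by
      induction i with
      | zero => simp
      | succ i ih =>
        rw [pow_succ', mul_inv_rev, show g ^ 2 * (g ^ 2) ^ i * v * (((g ^ 2) ^ i)⁻¹ * (g ^ 2)⁻¹) =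
          g ^ 2 * ((g ^ 2) ^ i * v * ((g ^ 2) ^ i)⁻¹) * (g ^ 2)⁻¹ by group, ih, hg2 v hv]
    rw [hj, pow_succ', pow_mul, mul_inv_rev,
      show g * (g ^ 2) ^ j * v * (((g ^ 2) ^ j)⁻¹ * g⁻¹) =
        g * ((g ^ 2) ^ j * v * ((g ^ 2) ^ j)⁻¹) * g⁻¹ by group, this j]
  have hnorm : g ^ m ∈ normalizer (V : Set G) := mem_normalizer_iff.2 fun v => by
    constructor
    · intro hv
      show g ^ m * v * (g ^ m)⁻¹ ∈ V
      rw [hgm v hv]; exact hgV v hv
    · intro hv
      have hv' : g ^ m * v * (g ^ m)⁻¹ ∈ V := hv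
      have h2 := hgV _ hv'
      rw [← hgm _ hv'] at h2
      have h3 : g ^ (m + m) * v * (g ^ (m + m))⁻¹ ∈ V := by
        rw [pow_add, mul_inv_rev]
        simpa [mul_assoc] using h2
      have h4 := hg2 _ h3
      have : ∀ i : ℕ, ∀ w ∈ V, (g ^ 2) ^ i * w * ((g ^ 2) ^ i)⁻¹ = w := fun i => by
        induction i with
        | zero => simp
        | succ i ih =>
          intro w hw
          rw [pow_succ', mul_inv_rev, show g ^ 2 * (g ^ 2) ^ i * w * (((g ^ 2) ^ i)⁻¹ * (g ^ 2)⁻¹) =
            g ^ 2 * ((g ^ 2) ^ i * w * ((g ^ 2) ^ i)⁻¹) * (g ^ 2)⁻¹ by group, ih w hw, hg2 w hw]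
      have h5 := this m _ h3
      rw [← pow_mul, show 2 * m = m + m by omega] at h5
      have : g ^ (m + m) * v * (g ^ (m + m))⁻¹ = v := mul_left_cancel (a := g ^ (m + m))
        (mul_right_cancel (b := (g ^ (m + m))⁻¹) h5)
      rwa [this] at h3
  set P := V ⊔ zpowers (g ^ m) with hP
  have hPp : IsPGroup 2 P := by
    have h1 : IsPGroup 2 V := IsPGroup.of_card (n := 2) (by rw [hV]; norm_num)
    have h2 : IsPGroup 2 (zpowers (g ^ m)) := by
      refine IsPGroup.of_card (n := a) ?_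
      rw [Nat.card_zpowers, orderOf_pow, hom, Nat.gcd_mul_left_left, Nat.mul_div_cancel]
      omega
    exact h1.to_sup_of_normal_left' h2 (zpowers_le.2 hnorm)
  have hPV : V = P := eq_of_le_of_card_ge le_sup_left (by rw [hV]; exact h4 P hPp)
  have hgmV : g ^ m ∈ V := by
    rw [hPV]; exact mem_sup_right (mem_zpowers _)
  intro v hv
  have e := hgm v hv
  rw [hcomm _ hgmV _ hv, mul_inv_cancel_right] at e
  rw [eq_comm, mul_inv_eq_iff_eq_mul] at e
  exact e

end CfsgLib.TwoPointAltFour
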