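import Cfsg.Agent.TwoPointAltFour.Odd
import Cfsg.Agent.ZStar.Theorem
import Cfsg.Agent.ExtremelyClosed.Reduction
import Cfsg.Agent.TwoPointAltFour.Coprime

/-!
# Odd degree, a central exchanging involution: isolated involutions and the first contradiction
-/

set_option autoImplicit false
set_option linter.unusedSectionVars false
set_option linter.style.haveILetI false

universe u v

namespace CfsgLib.TwoPointAltFour

open MulAction Subgroup

variable {G : Type u} [Group G] [Finite G] {Ω : Type v} [Finite Ω] [MulAction G Ω] [FaithfulSMul G Ω]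

/-- The involutions with at most one fixed point. -/
def NonT (G : Type u) [Group G] (Ω : Type v) [MulAction G Ω] : Set G :=
  {c | c * c = 1 ∧ c ≠ 1 ∧ ¬ IsT Ω c}

namespace Hyp

variable (h : Hyp G Ω) (hn : Odd (Nat.card Ω))
include h hn

theorem nonT_one_fixed {c : G} (hc : c ∈ NonT G Ω) :
    {z | z ∈ (Set.univ : Set Ω) ∧ c • z = z}.ncard = 1 := by
  have hle : {z | z ∈ (Set.univ : Set Ω) ∧ c • z = z}.ncard ≤ 1 := by
    by_contra hlt
    obtain ⟨p, ⟨-, hp⟩, q, ⟨-, hq⟩, hpq⟩ := (Set.one_lt_ncard (Set.toFinite _)).1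
      (by omega : 1 < {z | z ∈ (Set.univ : Set Ω) ∧ c • z = z}.ncard)
    exact hc.2.2 ⟨hc.1, hc.2.1, p, q, hpq, hp, hq⟩
  obtain ⟨z, -, hz⟩ := exists_fixed_of_odd hc.1 (F := (Set.univ : Set Ω)) (fun _ _ => trivial)
    (by rw [Set.ncard_univ]; exact hn)
  have : 0 < {z | z ∈ (Set.univ : Set Ω) ∧ c • z = z}.ncard :=
    (Set.ncard_pos (Set.toFinite _)).2 ⟨z, trivial, hz⟩
  omega

theorem nonT_conj {c : G} (hc : c ∈ NonT G Ω) (g : G) : g * c * g⁻¹ ∈ NonT G Ω := by
  refine ⟨?_, fun e => hc.2.1 ?_, fun hT => hc.2.2 ?_⟩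
  · rw [show g * c * g⁻¹ * (g * c * g⁻¹) = g * (c * c) * g⁻¹ by group, hc.1]; group
  · calc c = g⁻¹ * (g * c * g⁻¹) * g := by group
      _ = 1 := by rw [e]; group
  · have := h.isT_conj hT g⁻¹
    simpa [mul_assoc] using this

theorem ncard_nonT_point {x y : Ω} (hxy : x ≠ y) :
    {c ∈ NonT G Ω | c • x = x}.ncard = {c ∈ Swap G x y | ¬ IsT Ω c}.ncard := by
  rw [count_one_fixed h.pairTrans_top (C := NonT G Ω) (fun g _ c hc => h.nonT_conj hn hc g)
    (fun _ _ => trivial) (fun c hc z _ => by rw [← mul_smul, hc.1, one_smul])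
    (fun c hc => h.nonT_one_fixed hn hc) (Set.mem_univ x) (Set.mem_univ y) hxy]
  congr 1
  ext c
  exact ⟨fun hc => ⟨⟨hc.2.1, hc.2.2, hc.1.1⟩, hc.1.2.2⟩, fun hc =>
    ⟨⟨hc.1.2.2, fun e => hxy (by have := hc.1.1; rwa [e, one_smul] at this), hc.2⟩, hc.1.1, hc.1.2.1⟩⟩

/-- Three exchanging involutions with fixed points: an isolated involution. -/
theorem central_three {x y : Ω} (hxy : x ≠ y) {z : G} (hz : z ∈ Swap G x y)
    (hset : Swap G x y = (z * ·) '' (four G x y : Set G)) (hzT : ¬ IsT Ω z)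
    (hzv : ∀ v ∈ four G x y, v ≠ 1 → IsT Ω (z * v)) :
    ∃ J : G, orderOf J = 2 ∧ centralizer ({J} : Set G) ⊔ Cfsg.oddCore G = ⊤ := by
  classical
  haveI : Fact (Nat.Prime 2) := ⟨Nat.prime_two⟩
  have hone : ∀ p : Ω, {c ∈ NonT G Ω | c • p = p}.ncard = 1 := by
    intro p
    obtain ⟨q, hq⟩ : ∃ q, p ≠ q := by
      by_cases hp : p = x
      · exact ⟨y, hp ▸ hxy⟩
      · exact ⟨x, hp⟩
    obtain ⟨g, e1, e2⟩ := h.exists_smul hxy hq
    have hsw : {c ∈ Swap G x y | ¬ IsT Ω c} = {z} := by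
      ext c
      constructor
      · rintro ⟨hc, hcT⟩
        rw [hset] at hc
        obtain ⟨v, hv, rfl⟩ := hc
        by_cases hv1 : v = 1
        · simp [hv1]
        · exact absurd (hzv v hv hv1) hcT
      · rintro rfl; exact ⟨hz, hzT⟩
    have htr : {c ∈ NonT G Ω | c • x = x}.ncard = {c ∈ NonT G Ω | c • p = p}.ncard :=
      ncard_congr_conj (A := (⊤ : Subgroup G)) (fun k _ c hc => h.nonT_conj hn hc k) (mem_top g)
        (fun c => c • x = x) (fun c => c • p = p) (fun c => by rw [← e1]; exact fix_conj_iff g c x)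
    rw [← htr, h.ncard_nonT_point hn hxy, hsw, Set.ncard_singleton]
  obtain ⟨u, hu⟩ := Set.ncard_eq_one.1 (hone x)
  have hu' : u ∈ NonT G Ω ∧ u • x = x := (Set.ext_iff.1 hu u).2 rfl
  have hord : orderOf u = 2 := orderOf_eq_prime (by rw [pow_two]; exact hu'.1.1) hu'.1.2.1
  obtain ⟨P, hP⟩ := (IsPGroup.of_card (p := 2) (n := 1) (G := zpowers u) (by
    rw [Nat.card_zpowers, hord, pow_one])).exists_le_sylow
  have huP : u ∈ P := hP (mem_zpowers u)
  obtain ⟨p, -, hfix⟩ := exists_common_fixed_of_odd P.isPGroup' (F := (Set.univ : Set Ω))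
    (fun _ _ _ _ => trivial) (by rw [Set.ncard_univ]; exact hn)
  obtain ⟨N, hNn, hNodd, hN⟩ := ZStar.exists_oddNormal_of_sylow P hord huP fun g hg => by
    obtain ⟨w, hw⟩ := Set.ncard_eq_one.1 (hone p)
    have h1 : u = w := (Set.ext_iff.1 hw u).1 ⟨hu'.1, hfix u huP⟩
    have h2 : g * u * g⁻¹ = w := (Set.ext_iff.1 hw _).1 ⟨h.nonT_conj hn hu'.1 g, hfix _ hg⟩
    rw [h2, h1]
  refine ⟨u, hord, eq_top_iff.2 fun g _ => ?_⟩
  obtain ⟨o, ho, hgo⟩ := exists_commute_coset hNodd hu'.1.1 (fun o ho => hNn.conj_mem o ho u) (g := g) (by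
    have := hNn.conj_mem _ (hN g) g⁻¹
    rwa [inv_inv, show g⁻¹ * (u * g * u⁻¹ * g⁻¹) * g = g⁻¹ * (u * g * u⁻¹) by group] at this)
  rw [show g = g * o * o⁻¹ by group]
  exact mul_mem (mem_sup_left (mem_centralizer_singleton_iff.2 hgo))
    (mem_sup_right (ExtremelyClosed.le_oddCore_of_odd hNn hNodd (inv_mem ho)))

/-- One exchanging involution with fixed points is impossible. -/
theorem central_one {x y : Ω} (hxy : x ≠ y) {z : G}
    (hzc : ∀ g : G, g • x = x → g • y = y → z * g = g * z) (hz : z ∈ Swap G x y)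
    (hset : Swap G x y = (z * ·) '' (four G x y : Set G)) (hzT : IsT Ω z)
    (hzv : ∀ v ∈ four G x y, v ≠ 1 → ¬ IsT Ω (z * v))
    {t : G} (ht : t ∈ four G x y) (ht1 : t ≠ 1) (hk : fxFour G x y = (fx t : Set Ω))
    (hi : Odd (fx t : Set Ω).ncard) : False := by
  classical
  have ht' := (h.mem_four hxy).1 ht
  have hzV : ∀ v ∈ four G x y, z * v = v * z := fun v hv =>
    hzc v ((h.mem_four hxy).1 hv).1 ((h.mem_four hxy).1 hv).2.1
  have hswap : ∀ v ∈ four G x y, z * v ∈ Swap G x y := fun v hv => by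
    rw [hset]; exact ⟨v, hv, rfl⟩
  have hU : ∀ v ∈ four G x y, v ≠ 1 → z * v ∈ NonT G Ω := fun v hv hv1 =>
    ⟨(hswap v hv).2.2, fun e => hxy (by have := (hswap v hv).1; rwa [e, one_smul] at this),
      hzv v hv hv1⟩
  have huniq : ∀ v ∈ four G x y, v ≠ 1 → ∀ p q : Ω, (z * v) • p = p → (z * v) • q = q → p = q := by
    intro v hv hv1 p q hp hq
    by_contra hpq
    exact hzv v hv hv1 ⟨(hU v hv hv1).1, (hU v hv hv1).2.1, p, q, hpq, hp, hq⟩
  have hcomm : ∀ v ∈ four G x y, ∀ v' ∈ four G x y, (z * v) * (z * v') = (z * v') * (z * v) := by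
    intro v hv v' hv'
    have a := (h.mem_four hxy).1 hv
    have b := (h.mem_four hxy).1 hv'
    have hc := h.mul_self_comm hxy a.1 a.2.1 b.1 b.2.1 a.2.2 b.2.2
    calc (z * v) * (z * v') = z * (v * z) * v' := by group
      _ = z * (z * v) * v' := by rw [hzV v hv]
      _ = z * z * (v * v') := by group
      _ = z * z * (v' * v) := by rw [hc]
      _ = z * (z * v') * v := by group
      _ = z * (v' * z) * v := by rw [hzV v' hv']
      _ = (z * v') * (z * v) := by group
  obtain ⟨a, ha, hta⟩ := exists_fixed_of_odd (hswap t ht).2.2 (F := (fx t : Set Ω))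
    (fun p hp => smul_mem_fx (by rw [mul_assoc, ← mul_assoc t z, ← hzV t ht, mul_assoc]) hp) hi
  have hall : ∀ v ∈ four G x y, v ≠ 1 → (z * v) • a = a := fun v hv hv1 =>
    huniq t ht ht1 _ _ (by rw [← mul_smul, hcomm t ht v hv, mul_smul, hta]) hta
  have hax : a ≠ x := fun e => hxy (by
    have := hta
    rw [e, (hswap t ht).1] at this
    exact this.symm)
  -- the three are all such involutions at `a`
  have himg : ((z * ·) '' ((four G x y : Set G) \ {1})).ncard = 3 := by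
    rw [Set.ncard_image_of_injective _ (mul_right_injective z), Set.ncard_sdiff (by simp [one_mem]),
      Set.ncard_singleton, ← Nat.card_coe_set_eq, SetLike.coe_sort_coe, h.card_four hxy]
  have hUa : {c ∈ NonT G Ω | c • a = a} = (z * ·) '' ((four G x y : Set G) \ {1}) := by
    refine (Set.eq_of_subset_of_ncard_le ?_ ?_ (Set.toFinite _)).symm
    · rintro _ ⟨v, ⟨hv, hv1⟩, rfl⟩
      exact ⟨hU v hv hv1, hall v hv hv1⟩
    · rw [himg]
      obtain ⟨g, e1, e2⟩ := h.exists_smul hxy hax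
      have htr : {c ∈ NonT G Ω | c • x = x}.ncard = {c ∈ NonT G Ω | c • a = a}.ncard :=
        ncard_congr_conj (A := (⊤ : Subgroup G)) (fun k _ c hc => h.nonT_conj hn hc k) (mem_top g)
          (fun c => c • x = x) (fun c => c • a = a) (fun c => by rw [← e1]; exact fix_conj_iff g c x)
      rw [← htr, h.ncard_nonT_point hn hxy]
      refine le_of_eq (Eq.trans (congrArg Set.ncard (Set.ext fun c => ?_)) himg)
      constructor
      · rintro ⟨hc, hcT⟩
        rw [hset] at hc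
        obtain ⟨v, hv, rfl⟩ := hc
        exact ⟨v, ⟨hv, fun e => hcT (by simpa [Set.mem_singleton_iff.1 e] using hzT)⟩, rfl⟩
      · rintro ⟨v, ⟨hv, hv1⟩, rfl⟩
        exact ⟨hswap v hv, hzv v hv hv1⟩
  -- the stabiliser of `a` preserves the fixed points of the four-group
  have hinv : ∀ g : G, g • a = a → ∀ v ∈ four G x y, g * v * g⁻¹ ∈ four G x y := by
    intro g hg v hv
    have hgU : ∀ w ∈ four G x y, w ≠ 1 → ∃ w' ∈ four G x y, g * (z * w) * g⁻¹ = z * w' := by
      intro w hw hw1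
      have h1 : g * (z * w) * g⁻¹ ∈ {c ∈ NonT G Ω | c • a = a} := by
        refine ⟨h.nonT_conj hn (hU w hw hw1) g, ?_⟩
        have := (fix_conj_iff g (z * w) a).1 (hall w hw hw1)
        rwa [hg] at this
      rw [hUa] at h1
      obtain ⟨w', ⟨hw', -⟩, e⟩ := h1
      exact ⟨w', hw', e.symm⟩
    have hprod : ∀ w ∈ four G x y, ∀ w' ∈ four G x y, w ≠ 1 → w' ≠ 1 →
        g * (w * w') * g⁻¹ ∈ four G x y := by
      intro w hw w' hw' hw1 hw1'
      obtain ⟨p, hp, e⟩ := hgU w hw hw1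
      obtain ⟨q, hq, e'⟩ := hgU w' hw' hw1'
      have hzz : ∀ p ∈ four G x y, ∀ q : G, (z * p) * (z * q) = p * q := fun p hp q => by
        calc (z * p) * (z * q) = z * (p * z) * q := by group
          _ = z * (z * p) * q := by rw [hzV p hp]
          _ = z * z * (p * q) := by group
          _ = p * q := by rw [hz.2.2, one_mul]
      rw [← hzz w hw w', show g * (z * w * (z * w')) * g⁻¹ = (g * (z * w) * g⁻¹) * (g * (z * w') * g⁻¹)
        by group, e, e', hzz p hp q]
      exact mul_mem hp hq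
    by_cases hv1 : v = 1
    · rw [hv1, mul_one, mul_inv_cancel]; exact one_mem _
    obtain ⟨t1, h1, h11, h1v⟩ := h.exists_third hxy hv hv1
    have hv' := (h.mem_four hxy).1 hv
    have := hprod (t1) h1 (t1 * v) (mul_mem h1 hv) h11 (fun e => h1v (by
      rw [eq_inv_of_mul_eq_one_left e, inv_eq_of_mul_eq_one_right hv'.2.2]))
    rwa [← mul_assoc t1, ((h.mem_four hxy).1 h1).2.2, one_mul] at this
  obtain ⟨w, hw⟩ : ∃ w, w ∉ fxFour G x y := by
    by_contra hc
    push Not at hc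
    have hlt := h.ncard_fx_lt (h.isT_of_mem hxy ht ht1)
    rw [← hk, Set.eq_univ_iff_forall.2 hc, Set.ncard_univ] at hlt
    omega
  have haw : a ≠ w := fun e => hw (by rw [← e, hk]; exact ha)
  obtain ⟨g, hga, hgx⟩ := h.exists_smul hax haw
  refine hw fun v hv => ?_
  have h1 := hinv g⁻¹ (by rw [inv_smul_eq_iff, hga]) v hv
  rw [inv_inv] at h1
  have h2 := ((h.mem_four hxy).1 h1).1
  rw [mul_smul, mul_smul, hgx, inv_smul_eq_iff, hgx] at h2
  exact h2

end Hyp

end CfsgLib.TwoPointAltFour
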