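import Cfsg.Agent.TwoPointAltFour.Count

/-!
# Two-transitive groups with two-point stabiliser `A₄`: pairs, four-groups, fixed sets
-/

set_option autoImplicit false
set_option linter.unusedSectionVars false
set_option linter.style.haveILetI false

namespace CfsgLib.TwoPointAltFour

open MulAction Subgroup

variable {G : Type*} [Group G] {Ω : Type*} [MulAction G Ω]

/-- The hypothesis, stated for all pairs. -/
structure Hyp (G Ω : Type*) [Group G] [MulAction G Ω] : Prop where
  trans : IsMultiplyPretransitive G Ω 2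
  iso : ∀ x y : Ω, x ≠ y →
    Nonempty (↥(stabilizer G x ⊓ stabilizer G y) ≃* ↥(alternatingGroup (Fin 4)))

/-- The hypothesis follows from its instance at one pair. -/
theorem hyp_of_pair (h2 : IsMultiplyPretransitive G Ω 2) {a b : Ω} (hab : a ≠ b)
    (e : ↥(stabilizer G a ⊓ stabilizer G b) ≃* ↥(alternatingGroup (Fin 4))) : Hyp G Ω := by
  refine ⟨h2, fun x y hxy => ?_⟩
  obtain ⟨g, rfl, rfl⟩ := is_two_pretransitive_iff.1 h2 hab hxy
  refine ⟨(MulEquiv.subgroupCongr ?_).trans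
    ((equivMapOfInjective (stabilizer G a ⊓ stabilizer G b) (MulAut.conj g).toMonoidHom
      (MulAut.conj g).injective).symm.trans e)⟩
  rw [stabilizer_smul_eq_stabilizer_map_conj, stabilizer_smul_eq_stabilizer_map_conj,
    map_inf _ _ _ (MulAut.conj g).injective]

/-- Fixed points. -/
def fx (g : G) : Set Ω := {z | g • z = z}

theorem mem_fx {g : G} {z : Ω} : z ∈ fx g ↔ g • z = z := Iff.rfl

theorem fx_conj (g t : G) : fx (g * t * g⁻¹) = (g • ·) '' (fx t : Set Ω) := by
  ext z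
  constructor
  · intro h
    refine ⟨g⁻¹ • z, ?_, smul_inv_smul g z⟩
    rw [mem_fx, fix_conj_iff g t, smul_inv_smul]
    exact h
  · rintro ⟨w, hw, rfl⟩
    exact (fix_conj_iff g t w).1 hw

theorem ncard_fx_conj (g t : G) : (fx (g * t * g⁻¹) : Set Ω).ncard = (fx t : Set Ω).ncard := by
  rw [fx_conj, Set.ncard_image_of_injective _ (MulAction.injective g)]

theorem smul_mem_fx {g t : G} (h : g * t = t * g) {z : Ω} (hz : z ∈ fx t) : g • z ∈ fx t := by
  rw [mem_fx, ← mul_smul, ← h, mul_smul, hz]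

/-- An involution fixing at least two points. -/
def IsT (Ω : Type*) [MulAction G Ω] (g : G) : Prop :=
  g * g = 1 ∧ g ≠ 1 ∧ ∃ x y : Ω, x ≠ y ∧ g • x = x ∧ g • y = y

/-- The four-group of a pair. -/
def four (G : Type*) [Group G] {Ω : Type*} [MulAction G Ω] (x y : Ω) : Subgroup G :=
  closure {g | g • x = x ∧ g • y = y ∧ g * g = 1}

/-- The common fixed points of the four-group of a pair. -/
def fxFour (G : Type*) [Group G] {Ω : Type*} [MulAction G Ω] (x y : Ω) : Set Ω :=
  {z | ∀ g ∈ four G x y, g • z = z}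

theorem alt_four_card : Nat.card (alternatingGroup (Fin 4)) = 12 := by
  rw [Nat.card_eq_fintype_card]; decide

theorem alt_four_comm : ∀ p q : alternatingGroup (Fin 4), p * p = 1 → q * q = 1 →
    p * q = q * p := by decide

theorem alt_four_count : (Finset.univ.filter fun p : alternatingGroup (Fin 4) => p * p = 1).card = 4 := by
  decide

theorem alt_four_exp : ∀ p : alternatingGroup (Fin 4), p * p = 1 ∨ p ^ 3 = 1 := by decide

set_option synthInstance.maxSize 2000 in
theorem alt_four_trans : ∀ p q : alternatingGroup (Fin 4), p * p = 1 → q * q = 1 → p ≠ 1 → q ≠ 1 →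
    ∃ r : alternatingGroup (Fin 4), r ^ 3 = 1 ∧ r * p * r⁻¹ = q := by decide

set_option synthInstance.maxSize 2000 in
theorem alt_four_cent : ∀ p q : alternatingGroup (Fin 4), p * p = 1 → p ≠ 1 → p * q = q * p →
    q * q = 1 := by decide

theorem alt_four_three : ∃ r : alternatingGroup (Fin 4), r ^ 3 = 1 ∧ r ≠ 1 := by decide

namespace Hyp

variable (h : Hyp G Ω)
include h

theorem exists_smul {x y x' y' : Ω} (hxy : x ≠ y) (hxy' : x' ≠ y') :
    ∃ g : G, g • x = x' ∧ g • y = y' :=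
  is_two_pretransitive_iff.1 h.trans hxy hxy'

/-- Transfer of a universal fact from `A₄` to a pair stabiliser. -/
theorem transfer {x y : Ω} (hxy : x ≠ y) {g : G} (hx : g • x = x) (hy : g • y = y) :
    ∃ (e : ↥(stabilizer G x ⊓ stabilizer G y) ≃* ↥(alternatingGroup (Fin 4)))
      (p : alternatingGroup (Fin 4)), (e.symm p : G) = g := by
  obtain ⟨e⟩ := h.iso x y hxy
  exact ⟨e, e ⟨g, hx, hy⟩, by rw [e.symm_apply_apply]⟩

variable {x y : Ω} (hxy : x ≠ y)
include hxy

theorem card_pair : Nat.card ↥(stabilizer G x ⊓ stabilizer G y) = 12 := by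
  obtain ⟨e⟩ := h.iso x y hxy
  rw [Nat.card_congr e.toEquiv, alt_four_card]

theorem mul_self_comm {g g' : G} (hx : g • x = x) (hy : g • y = y) (hx' : g' • x = x)
    (hy' : g' • y = y) (hg : g * g = 1) (hg' : g' * g' = 1) : g * g' = g' * g := by
  obtain ⟨e⟩ := h.iso x y hxy
  have := alt_four_comm (e ⟨g, hx, hy⟩) (e ⟨g', hx', hy'⟩)
    (by rw [← map_mul, ← map_one e]; exact congrArg e (Subtype.ext hg))
    (by rw [← map_mul, ← map_one e]; exact congrArg e (Subtype.ext hg'))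
  rw [← map_mul, ← map_mul] at this
  exact congrArg Subtype.val (e.injective this)

theorem exp_two_or_three {g : G} (hx : g • x = x) (hy : g • y = y) : g * g = 1 ∨ g ^ 3 = 1 := by
  obtain ⟨e⟩ := h.iso x y hxy
  rcases alt_four_exp (e ⟨g, hx, hy⟩) with hp | hp
  · exact Or.inl (congrArg Subtype.val (e.injective (by rw [map_mul, map_one]; exact hp) :
      (⟨g, hx, hy⟩ : ↥(stabilizer G x ⊓ stabilizer G y)) * ⟨g, hx, hy⟩ = 1))
  · exact Or.inr (congrArg Subtype.val (e.injective (by rw [map_pow, map_one]; exact hp) :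
      (⟨g, hx, hy⟩ : ↥(stabilizer G x ⊓ stabilizer G y)) ^ 3 = 1))

theorem sq_of_comm {g g' : G} (hx : g • x = x) (hy : g • y = y) (hx' : g' • x = x)
    (hy' : g' • y = y) (hg : g * g = 1) (hg1 : g ≠ 1) (hc : g * g' = g' * g) : g' * g' = 1 := by
  obtain ⟨e⟩ := h.iso x y hxy
  have := alt_four_cent (e ⟨g, hx, hy⟩) (e ⟨g', hx', hy'⟩)
    (by rw [← map_mul, ← map_one e]; exact congrArg e (Subtype.ext hg))
    (fun hp => hg1 (congrArg Subtype.val (e.injective (hp.trans (map_one e).symm))))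
    (by rw [← map_mul, ← map_mul]; exact congrArg e (Subtype.ext hc))
  rw [← map_mul] at this
  exact congrArg Subtype.val (e.injective (this.trans (map_one e).symm))

theorem exists_conj {t t' : G} (hx : t • x = x) (hy : t • y = y) (hx' : t' • x = x)
    (hy' : t' • y = y) (ht : t * t = 1) (ht1 : t ≠ 1) (ht' : t' * t' = 1) (ht1' : t' ≠ 1) :
    ∃ r : G, r • x = x ∧ r • y = y ∧ r ^ 3 = 1 ∧ r * t * r⁻¹ = t' := by
  obtain ⟨e⟩ := h.iso x y hxy
  obtain ⟨r, hr3, hr⟩ := alt_four_trans (e ⟨t, hx, hy⟩) (e ⟨t', hx', hy'⟩)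
    (by rw [← map_mul, ← map_one e]; exact congrArg e (Subtype.ext ht))
    (by rw [← map_mul, ← map_one e]; exact congrArg e (Subtype.ext ht'))
    (fun hp => ht1 (congrArg Subtype.val (e.injective (hp.trans (map_one e).symm))))
    (fun hp => ht1' (congrArg Subtype.val (e.injective (hp.trans (map_one e).symm))))
  refine ⟨(e.symm r : G), (e.symm r).2.1, (e.symm r).2.2, ?_, ?_⟩
  · have := congrArg (fun q => ((e.symm q : _) : G)) hr3
    simpa using this
  · have := congrArg (fun q => ((e.symm q : _) : G)) hr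
    simpa using this

theorem exists_three : ∃ r : G, r • x = x ∧ r • y = y ∧ r ^ 3 = 1 ∧ r ≠ 1 := by
  obtain ⟨e⟩ := h.iso x y hxy
  obtain ⟨r, hr3, hr⟩ := alt_four_three
  refine ⟨(e.symm r : G), (e.symm r).2.1, (e.symm r).2.2, ?_, fun he => hr ?_⟩
  · have := congrArg (fun q => ((e.symm q : _) : G)) hr3
    simpa using this
  · have : e.symm r = 1 := Subtype.ext he
    rw [← e.apply_symm_apply r, this, map_one]

theorem mem_four {g : G} : g ∈ four G x y ↔ g • x = x ∧ g • y = y ∧ g * g = 1 := by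
  refine ⟨fun hg => ?_, fun hg => subset_closure hg⟩
  induction hg using closure_induction with
  | mem g hg => exact hg
  | one => simp
  | mul p q _ _ hp hq =>
    refine ⟨by rw [mul_smul, hq.1, hp.1], by rw [mul_smul, hq.2.1, hp.2.1], ?_⟩
    rw [mul_assoc, ← mul_assoc q, h.mul_self_comm hxy hq.1 hq.2.1 hp.1 hp.2.1 hq.2.2 hp.2.2,
      mul_assoc p, hq.2.2, mul_one, hp.2.2]
  | inv p _ hp => rw [inv_eq_of_mul_eq_one_right hp.2.2]; exact hp

theorem four_le : four G x y ≤ stabilizer G x ⊓ stabilizer G y := fun _ hg =>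
  ⟨((h.mem_four hxy).1 hg).1, ((h.mem_four hxy).1 hg).2.1⟩

theorem card_four : Nat.card (four G x y) = 4 := by
  obtain ⟨e⟩ := h.iso x y hxy
  rw [← alt_four_count, ← Fintype.card_subtype, ← Nat.card_eq_fintype_card]
  refine Nat.card_congr
    { toFun := fun g => ⟨e ⟨g, h.four_le hxy g.2⟩, by
        rw [← map_mul, ← map_one e]
        exact congrArg e (Subtype.ext ((h.mem_four hxy).1 g.2).2.2)⟩
      invFun := fun p => ⟨(e.symm p : G), (h.mem_four hxy).2 ⟨(e.symm p.1).2.1, (e.symm p.1).2.2, by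
        have := congrArg (fun q => ((e.symm q : _) : G)) p.2
        simpa using this⟩⟩
      left_inv := fun g => Subtype.ext (by simp)
      right_inv := fun p => Subtype.ext (by simp) }

theorem left_mem_fxFour : x ∈ fxFour G x y := fun _ hg => ((h.mem_four hxy).1 hg).1

theorem right_mem_fxFour : y ∈ fxFour G x y := fun _ hg => ((h.mem_four hxy).1 hg).2.1

theorem exists_ne_one : ∃ t ∈ four G x y, t ≠ 1 := by
  by_contra hc
  push Not at hc
  have := card_four h hxy
  rw [(Subgroup.eq_bot_iff_forall _).2 hc, card_bot] at this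
  omega

theorem isT_of_mem {t : G} (ht : t ∈ four G x y) (ht1 : t ≠ 1) : IsT Ω t :=
  ⟨((h.mem_four hxy).1 ht).2.2, ht1, x, y, hxy, ((h.mem_four hxy).1 ht).1,
    ((h.mem_four hxy).1 ht).2.1⟩

theorem four_eq_of_mem [Finite G] {x' y' : Ω} (hxy' : x' ≠ y') (hx' : x' ∈ fxFour G x y)
    (hy' : y' ∈ fxFour G x y) : four G x' y' = four G x y :=
  (eq_of_le_of_card_ge (fun g hg =>
    (h.mem_four hxy').2 ⟨hx' g hg, hy' g hg, ((h.mem_four hxy).1 hg).2.2⟩)
    (by rw [h.card_four hxy', h.card_four hxy])).symm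

theorem map_four {g : G} {g₀ : G} : g₀ ∈ four G (g • x) (g • y) ↔ g⁻¹ * g₀ * g ∈ four G x y := by
  rw [h.mem_four hxy, h.mem_four (fun e => hxy (smul_left_cancel g e))]
  refine and_congr ?_ (and_congr ?_ ?_)
  · rw [mul_smul, mul_smul, inv_smul_eq_iff]
  · rw [mul_smul, mul_smul, inv_smul_eq_iff]
  · rw [show g⁻¹ * g₀ * g * (g⁻¹ * g₀ * g) = g⁻¹ * (g₀ * g₀) * g by group]
    constructor
    · intro e; rw [e]; group
    · intro e
      calc g₀ * g₀ = g * (g⁻¹ * (g₀ * g₀) * g) * g⁻¹ := by group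
        _ = 1 := by rw [e]; group

theorem fxFour_smul (g : G) : fxFour G (g • x) (g • y) = (g • ·) '' fxFour G x y := by
  ext z
  constructor
  · intro hz
    refine ⟨g⁻¹ • z, fun v hv => ?_, smul_inv_smul g z⟩
    have := hz (g * v * g⁻¹) ((h.map_four hxy).2 (by simpa [mul_assoc] using hv))
    rw [mul_smul, mul_smul] at this
    exact eq_inv_smul_iff.2 this
  · rintro ⟨w, hw, rfl⟩ v hv
    have := hw _ ((h.map_four hxy).1 hv)
    rw [mul_smul, mul_smul, inv_smul_eq_iff] at this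
    exact this

theorem ncard_fxFour_eq {x' y' : Ω} (hxy' : x' ≠ y') :
    (fxFour G x' y').ncard = (fxFour G x y).ncard := by
  obtain ⟨g, rfl, rfl⟩ := h.exists_smul hxy hxy'
  rw [h.fxFour_smul hxy, Set.ncard_image_of_injective _ (MulAction.injective g)]

theorem two_le_ncard_fxFour [Finite Ω] : 2 ≤ (fxFour G x y).ncard := by
  rw [← Set.ncard_pair hxy]
  refine Set.ncard_le_ncard ?_ (Set.toFinite _)
  rintro z (rfl | rfl)
  exacts [h.left_mem_fxFour hxy, h.right_mem_fxFour hxy]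

/-- The normaliser of the four-group of a pair is transitive on pairs of its fixed set. -/
theorem pairTrans_normalizer [Finite G] :
    PairTrans (normalizer (four G x y : Set G)) (fxFour G x y) := by
  refine ⟨fun g hg z hz v hv => ?_, fun p hp q hq hpq p' hp' q' hq' hpq' => ?_⟩
  · have hv' : g⁻¹ * v * g ∈ four G x y := by
      have := (mem_normalizer_iff.1 (inv_mem hg) v).1 hv
      rwa [inv_inv] at this
    have := hz _ hv'
    rw [mul_smul, mul_smul, inv_smul_eq_iff] at this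
    exact this
  · obtain ⟨g, rfl, rfl⟩ := h.exists_smul hpq hpq'
    refine ⟨g, mem_normalizer_iff.2 fun v => ?_, rfl, rfl⟩
    have h1 := h.four_eq_of_mem hxy hpq hp hq
    have h2 := h.four_eq_of_mem hxy hpq' hp' hq'
    constructor
    · intro hv
      show g * v * g⁻¹ ∈ four G x y
      rw [← h2, h.map_four hpq]
      simpa [mul_assoc, h1] using hv
    · intro hv
      have hv' : g * v * g⁻¹ ∈ four G x y := hv
      rw [← h2, h.map_four hpq] at hv'
      simpa [mul_assoc, h1] using hv'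

theorem card_normalizer [Finite G] [Finite Ω] :
    Nat.card (normalizer (four G x y : Set G)) =
      (fxFour G x y).ncard * ((fxFour G x y).ncard - 1) * 12 := by
  rw [(h.pairTrans_normalizer hxy).card_eq (h.left_mem_fxFour hxy) (h.right_mem_fxFour hxy) hxy]
  congr 1
  rw [← h.card_pair hxy]
  refine congrArg (fun K : Subgroup G => Nat.card K) (inf_eq_right.2 fun g hg => ?_)
  refine mem_normalizer_iff.2 fun v => ?_
  show v ∈ four G x y ↔ g * v * g⁻¹ ∈ four G x y
  conv_rhs => rw [show four G x y = four G (g • x) (g • y) by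
    rw [mem_stabilizer_iff.1 hg.1, mem_stabilizer_iff.1 hg.2]]
  rw [h.map_four hxy]
  simp [mul_assoc]

omit hxy

theorem isT_conj {t : G} (ht : IsT Ω t) (g : G) : IsT Ω (g * t * g⁻¹) := by
  obtain ⟨h2, h1, p, q, hpq, hp, hq⟩ := ht
  refine ⟨?_, fun e => h1 ?_, g • p, g • q, fun e => hpq (smul_left_cancel g e),
    (fix_conj_iff g t p).1 hp, (fix_conj_iff g t q).1 hq⟩
  · calc g * t * g⁻¹ * (g * t * g⁻¹) = g * (t * t) * g⁻¹ := by group
      _ = 1 := by rw [h2]; group
  · calc t = g⁻¹ * (g * t * g⁻¹) * g := by group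
      _ = 1 := by rw [e]; group

/-- Two involutions, each fixing a given pair, are conjugate by an element mapping the pairs. -/
theorem exists_conj_pair {t t' : G} {p q p' q' : Ω} (hpq : p ≠ q) (hpq' : p' ≠ q')
    (ht : t ∈ four G p q) (ht1 : t ≠ 1) (ht' : t' ∈ four G p' q') (ht1' : t' ≠ 1) :
    ∃ g : G, g • p = p' ∧ g • q = q' ∧ g * t * g⁻¹ = t' := by
  obtain ⟨g, rfl, rfl⟩ := h.exists_smul hpq hpq'
  have h1 := ((h.mem_four hpq).1 ((h.map_four hpq).1 ht'))
  obtain ⟨r, hrp, hrq, -, hr⟩ := h.exists_conj hpq ((h.mem_four hpq).1 ht).1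
    ((h.mem_four hpq).1 ht).2.1 h1.1 h1.2.1 ((h.mem_four hpq).1 ht).2.2 ht1 h1.2.2 (fun e => ht1'
      (by calc t' = g * (g⁻¹ * t' * g) * g⁻¹ := by group
            _ = 1 := by rw [e]; group))
  refine ⟨g * r, by rw [mul_smul, hrp], by rw [mul_smul, hrq], ?_⟩
  calc g * r * t * (g * r)⁻¹ = g * (r * t * r⁻¹) * g⁻¹ := by group
    _ = t' := by rw [hr]; group

theorem exists_conj_isT {t t' : G} (ht : IsT Ω t) (ht' : IsT Ω t') :
    ∃ g : G, g * t * g⁻¹ = t' := by
  obtain ⟨h2, h1, p, q, hpq, hp, hq⟩ := ht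
  obtain ⟨h2', h1', p', q', hpq', hp', hq'⟩ := ht'
  obtain ⟨g, -, -, hg⟩ := h.exists_conj_pair hpq hpq' ((h.mem_four hpq).2 ⟨hp, hq, h2⟩) h1
    ((h.mem_four hpq').2 ⟨hp', hq', h2'⟩) h1'
  exact ⟨g, hg⟩

theorem ncard_fx_eq {t t' : G} (ht : IsT Ω t) (ht' : IsT Ω t') :
    (fx t' : Set Ω).ncard = (fx t : Set Ω).ncard := by
  obtain ⟨g, rfl⟩ := h.exists_conj_isT ht ht'
  exact ncard_fx_conj g t

theorem pairTrans_centralizer {t : G} (ht : IsT Ω t) :
    PairTrans (centralizer ({t} : Set G)) (fx t : Set Ω) := by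
  refine ⟨fun g hg z hz => smul_mem_fx (mem_centralizer_singleton_iff.1 hg) hz,
    fun p hp q hq hpq p' hp' q' hq' hpq' => ?_⟩
  obtain ⟨g, h1, h2, h3⟩ := h.exists_conj_pair hpq hpq' ((h.mem_four hpq).2 ⟨hp, hq, ht.1⟩) ht.2.1
    ((h.mem_four hpq').2 ⟨hp', hq', ht.1⟩) ht.2.1
  exact ⟨g, mem_centralizer_singleton_iff.2 (mul_inv_eq_iff_eq_mul.1 h3), h1, h2⟩

theorem centralizer_inf_pair {t : G} (ht : IsT Ω t) {p q : Ω} (hpq : p ≠ q) (hp : t • p = p)
    (hq : t • q = q) :
    centralizer ({t} : Set G) ⊓ (stabilizer G p ⊓ stabilizer G q) = four G p q := by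
  ext g
  rw [mem_inf, mem_inf, mem_centralizer_singleton_iff, h.mem_four hpq]
  constructor
  · rintro ⟨hc, hgp, hgq⟩
    exact ⟨hgp, hgq, h.sq_of_comm hpq hp hq hgp hgq ht.1 ht.2.1 hc.symm⟩
  · rintro ⟨hgp, hgq, hg⟩
    exact ⟨(h.mul_self_comm hpq hp hq hgp hgq ht.1 hg).symm, hgp, hgq⟩

theorem card_centralizer [Finite G] [Finite Ω] {t : G} (ht : IsT Ω t) :
    Nat.card (centralizer ({t} : Set G)) =
      (fx t : Set Ω).ncard * ((fx t : Set Ω).ncard - 1) * 4 := by
  obtain ⟨h2, h1, p, q, hpq, hp, hq⟩ := ht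
  rw [(h.pairTrans_centralizer ⟨h2, h1, p, q, hpq, hp, hq⟩).card_eq hp hq hpq,
    h.centralizer_inf_pair ⟨h2, h1, p, q, hpq, hp, hq⟩ hpq hp hq, h.card_four hpq]

theorem pairTrans_top : PairTrans (⊤ : Subgroup G) (Set.univ : Set Ω) :=
  ⟨fun _ _ _ _ => trivial, fun _ _ _ _ hxy _ _ _ _ hxy' => by
    obtain ⟨g, h1, h2⟩ := h.exists_smul hxy hxy'
    exact ⟨g, trivial, h1, h2⟩⟩

theorem card_group [Finite G] [Finite Ω] {a b : Ω} (hab : a ≠ b) :
    Nat.card G = Nat.card Ω * (Nat.card Ω - 1) * 12 := by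
  rw [← card_top (G := G), h.pairTrans_top.card_eq (Set.mem_univ a) (Set.mem_univ b) hab,
    top_inf_eq, h.card_pair hab, Set.ncard_univ]

theorem card_stabilizer [Finite G] [Finite Ω] {a b : Ω} (hab : a ≠ b) :
    Nat.card (stabilizer G a) = (Nat.card Ω - 1) * 12 := by
  have h1 := h.pairTrans_top.card_point (Set.mem_univ a)
  rw [card_top, top_inf_eq, h.card_group hab, Set.ncard_univ, mul_assoc] at h1
  exact (Nat.eq_of_mul_eq_mul_left (Nat.card_pos_iff.2 ⟨⟨a⟩, inferInstance⟩) h1).symm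

/-- The number of involutions with two fixed points. -/
theorem card_isT [Finite G] [Finite Ω] {t : G} (ht : IsT Ω t) :
    {g : G | IsT Ω g}.ncard * ((fx t : Set Ω).ncard * ((fx t : Set Ω).ncard - 1)) =
      Nat.card Ω * (Nat.card Ω - 1) * 3 := by
  obtain ⟨-, -, p, q, hpq, -, -⟩ := id ht
  rw [← Set.ncard_univ Ω]
  refine count_fix h.pairTrans_top (C := {g : G | IsT Ω g}) (fun g _ c hc => h.isT_conj hc g)
    (fun c hc => ?_) (Set.mem_univ p) (Set.mem_univ q) hpq ?_
  · rw [← h.ncard_fx_eq ht hc]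
    congr 1
    ext z
    simp [fx]
  · have h4 : {c ∈ {g : G | IsT Ω g} | c • p = p ∧ c • q = q} =
        (four G p q : Set G) \ {1} := by
      ext c
      rw [Set.mem_sdiff, SetLike.mem_coe, h.mem_four hpq]
      constructor
      · rintro ⟨⟨hc2, hc1, -⟩, hcp, hcq⟩
        exact ⟨⟨hcp, hcq, hc2⟩, hc1⟩
      · rintro ⟨hc, hc1⟩
        exact ⟨⟨hc.2.2, hc1, p, q, hpq, hc.1, hc.2.1⟩, hc.1, hc.2.1⟩
    rw [h4, Set.ncard_sdiff (by simp [one_mem]), Set.ncard_singleton, ← Nat.card_coe_set_eq,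
      SetLike.coe_sort_coe, h.card_four hpq]

end Hyp

end CfsgLib.TwoPointAltFour
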