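import Cfsg.Agent.GW.Classification
import Cfsg.Agent.GW.PSLTorus
import Cfsg.Agent.GW.PSLKlein
import Cfsg.Agent.GW.FusionOne
import Cfsg.Agent.TwoPointAltFour.Coprime
import Cfsg.Agent.TwoPointAltFour.Pair

/-!
# Groups whose Sylow 2-subgroups are four-groups with a moved involution: centraliser orders
-/

set_option autoImplicit false
set_option linter.unusedSectionVars false
set_option linter.style.haveILetI false

universe u

namespace CfsgLib.TwoPointAltFour

open Subgroup

/-- The numerical shape: `R = q (q + ε)`, `q = 4 d + ε`. -/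
def Shape (q d R : ℕ) : Prop :=
  (q + 1 = 4 * d ∧ R = q * (q - 1)) ∨ (q = 4 * d + 1 ∧ R = q * (q + 1))

variable {M : Type u} [Group M] [Finite M]

theorem two_dvd_mul_pred (q : ℕ) : 2 ∣ q * (q - 1) := by
  rcases Nat.even_or_odd q with ⟨a, rfl⟩ | ⟨a, rfl⟩
  · exact ⟨a * (a + a - 1), by ring⟩
  · exact ⟨(2 * a + 1) * a, by rw [Nat.add_sub_cancel]; ring⟩

theorem mem_of_two_element (h4 : ∀ P : Subgroup M, IsPGroup 2 P → Nat.card P ≤ 4) {V : Subgroup M}
    (hV : Nat.card V = 4) {g : M} (hg : IsPGroup 2 (zpowers g))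
    (hn : g ∈ normalizer (V : Set M)) : g ∈ V := by
  haveI : Fact (Nat.Prime 2) := ⟨Nat.prime_two⟩
  have h1 : IsPGroup 2 V := IsPGroup.of_card (n := 2) (by rw [hV]; norm_num)
  have hP := h1.to_sup_of_normal_left' hg (zpowers_le.2 hn)
  have hVP : V = V ⊔ zpowers g := eq_of_le_of_card_ge le_sup_left (by rw [hV]; exact h4 _ hP)
  rw [hVP]
  exact mem_sup_right (mem_zpowers _)

/-- The structure with trivial odd core. -/
theorem structure_of_knownCore (hK : GW.KnownCore M) {V : Subgroup M} (hV : Nat.card V = 4)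
    (hVsq : ∀ v ∈ V, v * v = 1) (hodd : Odd V.index) {t : M} (ht : t ∈ V) (ht1 : t ≠ 1)
    (hmove : ∃ h : M, (∀ v ∈ V, h * v * h⁻¹ ∈ V) ∧ h * t ≠ t * h) :
    ∃ q d R f : ℕ, Shape q d R ∧ 0 < d ∧ 0 < f ∧ 3 ≤ q ∧
      (q = 3 → Nonempty (M ≃* alternatingGroup (Fin 4))) ∧
      Nat.card (centralizer ({t} : Set M)) = 4 * d * f ∧
      Nat.card (centralizer (V : Set M)) = 4 * f ∧ Nat.card M = 2 * d * R * f := by
  classical
  haveI : Fact (Nat.Prime 2) := ⟨Nat.prime_two⟩
  have hcard : Nat.card M = 4 * V.index := by rw [← hV, card_mul_index]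
  have h4 : ∀ P : Subgroup M, IsPGroup 2 P → Nat.card P ≤ 4 := by
    intro P hP
    obtain ⟨n, hn⟩ := IsPGroup.iff_card.1 hP
    have hd : Nat.card P ∣ 4 * V.index := hcard ▸ card_subgroup_dvd_card P
    rw [hn] at hd ⊢
    exact Nat.le_of_dvd (by norm_num)
      (((Nat.coprime_two_left.2 hodd).pow_left n).dvd_of_dvd_mul_right hd)
  obtain ⟨v, hv, hv1, hvt⟩ : ∃ v ∈ V, v ≠ 1 ∧ v ≠ t := by
    by_contra hc
    push Not at hc
    have hsub : (V : Set M) ⊆ {1, t} := fun g hg => by
      by_cases hg1 : g = 1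
      · exact Or.inl hg1
      · exact Or.inr (hc g hg hg1)
    have h' := Set.ncard_le_ncard hsub (Set.toFinite _)
    rw [← Nat.card_coe_set_eq, SetLike.coe_sort_coe, hV, Set.ncard_pair ht1.symm] at h'
    omega
  have hcomm : ∀ p ∈ V, ∀ r ∈ V, p * r = r * p := fun p hp r hr => by
    calc p * r = (p * r)⁻¹ := (inv_eq_of_mul_eq_one_right (hVsq _ (mul_mem hp hr))).symm
      _ = r⁻¹ * p⁻¹ := mul_inv_rev p r
      _ = r * p := by
        rw [inv_eq_of_mul_eq_one_right (hVsq r hr), inv_eq_of_mul_eq_one_right (hVsq p hp)]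
  have hVC : V ≤ centralizer (V : Set M) := fun p hp =>
    mem_centralizer_iff.2 fun r hr => hcomm r hr p hp
  have hVCt : V ≤ centralizer ({t} : Set M) := fun p hp =>
    mem_centralizer_singleton_iff.2 (hcomm p hp t ht)
  rcases hK with h2 | ⟨⟨e⟩⟩ | ⟨⟨e⟩⟩ | ⟨L, hLn, hL, -⟩
  · -- a 2-group equals `V`
    obtain ⟨n, hn⟩ := IsPGroup.iff_card.1 h2
    have hle := h4 ⊤ (h2.of_equiv (topEquiv (G := M)).symm)
    rw [card_top] at hle
    have htop : V = ⊤ := eq_top_of_le_card V (by rw [hV]; exact hle)
    obtain ⟨h, -, hne⟩ := hmove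
    exact absurd (hcomm h (htop ▸ mem_top h) t ht) hne
  · -- `A₄`
    have hM : Nat.card M = 12 := by rw [Nat.card_congr e.toEquiv, alt_four_card]
    have hle : centralizer ({t} : Set M) ≤ V := by
      intro g hg
      have h1 := alt_four_cent (e t) (e g) (by rw [← map_mul, hVsq t ht, map_one])
        (fun hh => ht1 (e.injective (hh.trans (map_one e).symm)))
        (by rw [← map_mul, ← map_mul, mem_centralizer_singleton_iff.1 hg])
      rw [← map_mul, ← map_one e] at h1
      have h1' := e.injective h1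
      refine mem_of_two_element h4 hV (IsPGroup.of_card (n := if g = 1 then 0 else 1) ?_) ?_
      · rw [Nat.card_zpowers]
        split_ifs with hg1
        · rw [hg1, orderOf_one, pow_zero]
        · rw [pow_one]
          exact orderOf_eq_prime (by rw [pow_two]; exact h1') hg1
      · refine mem_normalizer_iff.2 fun p => ?_
        have hmem : ∀ r, r ∈ V ↔ r * r = 1 := fun r => by
          refine ⟨hVsq r, fun hr => ?_⟩
          obtain ⟨Q, hQ⟩ : ∃ Q : Finset (alternatingGroup (Fin 4)),
              Q = Finset.univ.filter fun z => z * z = 1 := ⟨_, rfl⟩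
          have hQ4 : Q.card = 4 := hQ ▸ alt_four_count
          have hsub : (e '' (V : Set M)) ⊆ (Q : Set (alternatingGroup (Fin 4))) := by
            rintro _ ⟨z, hz, rfl⟩
            simp [hQ, ← map_mul, hVsq z hz]
          have heq := Set.eq_of_subset_of_ncard_le hsub (by
            rw [Set.ncard_coe_finset, hQ4, Set.ncard_image_of_injective _ e.injective,
              ← Nat.card_coe_set_eq, SetLike.coe_sort_coe, hV]) (Set.toFinite _)
          obtain ⟨z, hz, hze⟩ : e r ∈ e '' (V : Set M) := by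
            rw [heq]; simp [hQ, ← map_mul, hr]
          rwa [← e.injective hze]
        show p ∈ V ↔ g * p * g⁻¹ ∈ V
        rw [hmem, hmem, show g * p * g⁻¹ * (g * p * g⁻¹) = g * (p * p) * g⁻¹ by group,
          conj_eq_one_iff]
    have hCt : centralizer ({t} : Set M) = V := le_antisymm hle hVCt
    have hCV : centralizer (V : Set M) = V :=
      le_antisymm ((centralizer_le (by simpa using ht)).trans hle) hVC
    exact ⟨3, 1, 6, 1, Or.inl ⟨rfl, rfl⟩, one_pos, one_pos, le_rfl, fun _ => ⟨e⟩,
      by rw [hCt, hV], by rw [hCV, hV], by rw [hM]⟩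
  · -- `S₄` is too big
    exfalso
    have hM : Nat.card M = 24 := by
      rw [Nat.card_congr e.toEquiv, Nat.card_eq_fintype_card, Fintype.card_perm]; rfl
    rw [hM] at hcard
    obtain ⟨j, hj⟩ := hodd
    omega
  · haveI := hLn
    rcases hL with ⟨F, iF, iFt, hF, hF3, ⟨e⟩⟩ | ⟨⟨e⟩⟩
    swap
    · exfalso
      have hA : Nat.card L = 2520 := by
        rw [Nat.card_congr e.toEquiv, nat_card_alternatingGroup, Nat.card_eq_fintype_card,
          Fintype.card_fin]
        rfl
      have hd := card_subgroup_dvd_card L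
      rw [hA, hcard] at hd
      obtain ⟨j, hj⟩ := hodd
      obtain ⟨w, hw⟩ := hd
      omega
    letI := iF
    letI := iFt
    set q := Fintype.card F with hq
    have hL2 : 2 * Nat.card L = q * (q ^ 2 - 1) := by
      rw [Nat.card_congr e.toEquiv]; exact Linear.card_PSL_two_odd hF
    have h4L : 4 ∣ Nat.card L := by
      obtain ⟨a, ha⟩ := hF

      have h8 : 8 ∣ q * (q ^ 2 - 1) := by
        refine Dvd.dvd.mul_left ?_ q
        rw [ha, show (2 * a + 1) ^ 2 - 1 = 4 * (a * (a + 1)) by
          rw [show (2 * a + 1) ^ 2 = 4 * (a * (a + 1)) + 1 by ring]; omega]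
        obtain ⟨b, hb⟩ := Nat.even_mul_succ_self a
        exact ⟨b, by rw [hb]; ring⟩
      rw [← hL2] at h8
      omega
    have hLodd : Odd L.index := by
      have h1 := L.card_mul_index
      obtain ⟨w, hw⟩ := h4L
      rw [hcard, hw, mul_assoc] at h1
      have h2 : w * L.index = V.index := by omega
      exact (Nat.odd_mul.1 (h2.symm ▸ hodd)).2
    have hVL : V ≤ L := by
      intro p hp
      have h1 : (QuotientGroup.mk' L) p ^ 2 = 1 := by rw [← map_pow, pow_two, hVsq p hp, map_one]
      have h2 : (QuotientGroup.mk' L) p ^ L.index = 1 := by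
        rw [index_eq_card]; exact pow_card_eq_one'
      obtain ⟨j, hj⟩ := hLodd
      rw [hj, pow_succ, pow_mul, h1, one_pow, one_mul] at h2
      exact (QuotientGroup.eq_one_iff _).1 h2
    have ho : ∀ p ∈ V, p ≠ 1 → ∀ hp : p ∈ L, orderOf (e ⟨p, hp⟩) = 2 := fun p hp hp1 hpL => by
      rw [MulEquiv.orderOf_eq, ← Subgroup.orderOf_coe]
      exact orderOf_eq_prime (by rw [pow_two]; exact hVsq p hp) hp1
    -- a cycle in `L`
    obtain ⟨l, hl1, hl2⟩ : ∃ l : L, (l : M) * t * (l : M)⁻¹ = v ∧
        (l : M) * v * (l : M)⁻¹ = t * v := by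
      obtain ⟨g, hg1, hg2⟩ := GW.exists_cycle_psl hF (ho t ht ht1 (hVL ht)) (ho v hv hv1 (hVL hv))
        (fun hh => hvt (congrArg Subtype.val (e.injective hh)).symm)
        (by rw [← map_mul, ← map_mul]; exact congrArg e (Subtype.ext (hcomm t ht v hv)))
      refine ⟨e.symm g, ?_, ?_⟩
      · have := congrArg (fun z => ((e.symm z : L) : M)) hg1
        simpa using this
      · have := congrArg (fun z => ((e.symm z : L) : M)) hg2
        simpa using this
    have hmem : ∀ p ∈ V, p = 1 ∨ p = t ∨ p = v ∨ p = t * v := by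
      intro p hp
      by_contra hc
      push Not at hc
      have h5 : ({p, 1, t, v, t * v} : Finset M).card = 5 := by
        have e1 : t * v ≠ t := fun hh => hv1 (by simpa using hh)
        have e2 : t * v ≠ 1 := fun hh => hvt (by
          rw [← inv_eq_of_mul_eq_one_right hh, inv_eq_of_mul_eq_one_right (hVsq t ht)])
        have e3 : t * v ≠ v := fun hh => ht1 (by simpa using hh)
        rw [Finset.card_insert_of_notMem, Finset.card_insert_of_notMem,
          Finset.card_insert_of_notMem, Finset.card_pair e3.symm]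
        · simp [Ne.symm hvt, e1.symm]
        · simp [ht1.symm, hv1.symm, e2.symm]
        · simp [hc.1, hc.2.1, hc.2.2.1, hc.2.2.2]
      have hsub : ((({p, 1, t, v, t * v} : Finset M)) : Set M) ⊆ (V : Set M) := by
        intro w hw
        simp only [Finset.coe_insert, Finset.coe_singleton, Set.mem_insert_iff,
          Set.mem_singleton_iff] at hw
        rcases hw with rfl | rfl | rfl | rfl | rfl
        exacts [hp, one_mem _, ht, hv, mul_mem ht hv]
      have h' := Set.ncard_le_ncard hsub (Set.toFinite _)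
      rw [Set.ncard_coe_finset, h5, ← Nat.card_coe_set_eq] at h'
      rw [show Nat.card ((V : Set M) : Type _) = 4 from hV] at h'
      omega
    have hlV : ∀ p ∈ V, (l : M) * p * (l : M)⁻¹ ∈ V := by
      intro p hp
      rcases hmem p hp with rfl | rfl | rfl | rfl
      · simp
      · rw [hl1]; exact hv
      · rw [hl2]; exact mul_mem ht hv
      · rw [show (l : M) * (t * v) * (l : M)⁻¹ = ((l : M) * t * (l : M)⁻¹) * ((l : M) * v * (l : M)⁻¹)
          by group, hl1, hl2]
        exact mul_mem hv (mul_mem ht hv)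
    -- the Frattini argument
    have hsurj : ∀ g : M, ∃ k ∈ L, ∀ p ∈ V, k * g * p = p * (k * g) := by
      intro g
      have hVcard : Nat.card (V.subgroupOf L) = 4 := by
        rw [Nat.card_congr (subgroupOfEquivOfLe hVL).toEquiv, hV]
      have hVp : IsPGroup 2 (V.subgroupOf L) := IsPGroup.of_card (n := 2) (by rw [hVcard]; norm_num)
      obtain ⟨P, hP⟩ := hVp.exists_le_sylow
      have hPc : Nat.card (P : Subgroup L) ≤ 4 := by
        rw [← card_map_of_injective L.subtype_injective]
        exact h4 _ (P.isPGroup'.map _)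
      have hPeq : V.subgroupOf L = (P : Subgroup L) := eq_of_le_of_card_ge hP (by rw [hVcard]; exact hPc)
      have hfr := Sylow.normalizer_sup_eq_top (N := L) P
      rw [← hPeq, subgroupOf_map_subtype, inf_eq_left.2 hVL] at hfr
      obtain ⟨n, hn, k, hk, hnk⟩ : ∃ n ∈ normalizer (V : Set M), ∃ k ∈ L, n * k = g := by
        have hg : g ∈ ((normalizer (V : Set M) ⊔ L : Subgroup M) : Set M) := by
          rw [hfr]; exact mem_top g
        rw [mul_normal] at hg
        exact hg
      have hn1 : ∀ p ∈ V, n * p * n⁻¹ ∈ V := fun p hp => (mem_normalizer_iff.1 hn p).1 hp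
      -- adjust by a power of the cycle
      have key : ∀ j ∈ L, (∀ p ∈ V, j * p * j⁻¹ ∈ V) → j * n * t = t * (j * n) →
          ∃ k ∈ L, ∀ p ∈ V, k * g * p = p * (k * g) := by
        intro j hjL hjV hjt
        have hc := centralizes_of_fix h4 hV hVsq ht ht1 (g := j * n) (fun p hp => by
          rw [show j * n * p * (j * n)⁻¹ = j * (n * p * n⁻¹) * j⁻¹ by group]
          exact hjV _ (hn1 p hp)) hjt
        refine ⟨j * (n * k⁻¹ * n⁻¹), mul_mem hjL (hLn.conj_mem _ (inv_mem hk) n), fun p hp => ?_⟩
        rw [← hnk, show j * (n * k⁻¹ * n⁻¹) * (n * k) = j * n by group]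
        exact hc p hp
      rcases hmem _ (hn1 t ht) with hh | hh | hh | hh
      · exact absurd (by calc t = n⁻¹ * (n * t * n⁻¹) * n := by group
          _ = 1 := by rw [hh]; group) ht1
      · exact key 1 (one_mem L) (fun p hp => by simpa using hp)
          (by rw [one_mul]; exact mul_inv_eq_iff_eq_mul.1 hh)
      · refine key ((l : M) * (l : M)) (mul_mem l.2 l.2) (fun p hp => ?_) ?_
        · rw [show (l : M) * l * p * ((l : M) * l)⁻¹ = l * (l * p * (l : M)⁻¹) * (l : M)⁻¹ by group]
          exact hlV _ (hlV p hp)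
        · refine mul_inv_eq_iff_eq_mul.1 ?_
          rw [show (l : M) * l * n * t * ((l : M) * l * n)⁻¹ =
            l * (l * (n * t * n⁻¹) * (l : M)⁻¹) * (l : M)⁻¹ by group, hh, hl2,
            show (l : M) * (t * v) * (l : M)⁻¹ = ((l : M) * t * (l : M)⁻¹) * ((l : M) * v * (l : M)⁻¹)
              by group, hl1, hl2, ← mul_assoc, hcomm v hv t ht, mul_assoc, hVsq v hv, mul_one]
      · refine key (l : M) l.2 hlV ?_
        refine mul_inv_eq_iff_eq_mul.1 ?_
        rw [show (l : M) * n * t * ((l : M) * n)⁻¹ = l * (n * t * n⁻¹) * (l : M)⁻¹ by group, hh,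
          show (l : M) * (t * v) * (l : M)⁻¹ = ((l : M) * t * (l : M)⁻¹) * ((l : M) * v * (l : M)⁻¹)
            by group, hl1, hl2, ← mul_assoc, hcomm v hv t ht, mul_assoc, hVsq v hv, mul_one]
    -- centralisers cover the quotient by `L`
    have hindex : ∀ C : Subgroup M, centralizer (V : Set M) ≤ C →
        L.index * Nat.card (C ⊓ L : Subgroup M) = Nat.card C := by
      intro C hC
      have h1 := card_map_mul (QuotientGroup.mk' L) C
      rw [QuotientGroup.ker_mk', show C.map (QuotientGroup.mk' L) = ⊤ from ?_, card_top,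
        ← index_eq_card] at h1
      · exact h1
      rw [eq_top_iff]
      intro z _
      obtain ⟨g, rfl⟩ := QuotientGroup.mk'_surjective L z
      obtain ⟨k, hk, hkc⟩ := hsurj g
      refine ⟨k * g, hC (mem_centralizer_iff.2 fun p hp => (hkc p hp).symm), ?_⟩
      rw [map_mul, show (QuotientGroup.mk' L) k = 1 from (QuotientGroup.eq_one_iff _).2 hk, one_mul]
    have hCV : centralizer (V : Set M) ⊓ L = V := by
      refine le_antisymm ?_ (le_inf hVC hVL)
      rintro g ⟨hgC, hgL⟩
      have hgt : g * t = t * g := (mem_centralizer_iff.1 hgC t ht).symm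
      have hgv : g * v = v * g := (mem_centralizer_iff.1 hgC v hv).symm
      obtain ⟨a, m, hm, hom⟩ := Nat.exists_eq_pow_mul_and_not_dvd (orderOf_pos g).ne' 2 (by norm_num)
      have hm1 : m = 1 := by
        have hord : orderOf (g ^ (2 ^ a)) = m := by
          rw [orderOf_pow, hom, Nat.gcd_mul_right_left,
            Nat.mul_div_cancel_left _ (by positivity)]
        have hc1 : Commute (g ^ (2 ^ a)) t := Commute.pow_left hgt _
        have hc2 : Commute (g ^ (2 ^ a)) v := Commute.pow_left hgv _
        have hone := GW.eq_one_of_commute_four_psl hF (ho t ht ht1 (hVL ht)) (ho v hv hv1 (hVL hv))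
          (fun hh => hvt (congrArg Subtype.val (e.injective hh)).symm)
          (by rw [← map_mul, ← map_mul]; exact congrArg e (Subtype.ext (hcomm t ht v hv)))
          (k := e (⟨g, hgL⟩ ^ (2 ^ a)))
          (by rw [MulEquiv.orderOf_eq, ← Subgroup.orderOf_coe, SubmonoidClass.coe_pow, hord]
              exact Nat.odd_iff.2 (by omega))
          (by rw [← map_mul, ← map_mul]; exact congrArg e (Subtype.ext hc1.eq))
          (by rw [← map_mul, ← map_mul]; exact congrArg e (Subtype.ext hc2.eq))
        have h0 : (⟨g, hgL⟩ : L) ^ (2 ^ a) = 1 := e.injective (hone.trans (map_one e).symm)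
        have h0' : g ^ (2 ^ a) = 1 := congrArg Subtype.val h0
        rw [← hord, h0', orderOf_one]
      refine mem_of_two_element h4 hV (IsPGroup.of_card (n := a) (by
        rw [Nat.card_zpowers, hom, hm1, mul_one])) (centralizer_le_normalizer _ hgC)
    obtain ⟨j, hj⟩ := hF
    have hCtL : Nat.card (centralizer ({t} : Set M) ⊓ L : Subgroup M) =
        Nat.card (centralizer ({e ⟨t, hVL ht⟩} : Set (Matrix.ProjectiveSpecialLinearGroup (Fin 2) F))) :=
      Nat.card_congr
        { toFun := fun g => ⟨e ⟨g, g.2.2⟩, mem_centralizer_singleton_iff.2 (by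
            rw [← map_mul, ← map_mul]
            exact congrArg e (Subtype.ext (mem_centralizer_singleton_iff.1 g.2.1)))⟩
          invFun := fun z => ⟨(e.symm z : L), mem_centralizer_singleton_iff.2 (by
            have := congrArg (fun w => ((e.symm w : L) : M)) (mem_centralizer_singleton_iff.1 z.2)
            simpa using this), (e.symm z.1).2⟩
          left_inv := fun g => Subtype.ext (by simp)
          right_inv := fun z => Subtype.ext (by simp) }
    have hMc : Nat.card M = L.index * Nat.card L := by rw [mul_comm, card_mul_index]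
    have h1 := hindex (centralizer (V : Set M)) le_rfl
    rw [hCV, hV] at h1
    have h2 := hindex (centralizer ({t} : Set M)) (centralizer_le (by simpa using ht))
    rw [hCtL] at h2
    rcases GW.card_centralizer_involution_psl ⟨j, hj⟩ (ho t ht ht1 (hVL ht)) with ⟨hm4, hc⟩ | ⟨hm4, hc⟩
    · obtain ⟨d, hd⟩ : ∃ d, q = 4 * d + 1 := ⟨q / 4, by omega⟩
      refine ⟨q, d, q * (q + 1), L.index, Or.inr ⟨hd, rfl⟩, by omega,
        Nat.pos_of_ne_zero index_ne_zero_of_finite, by omega, fun h3 => by omega, ?_, ?_, ?_⟩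
      · rw [← h2, hc, ← hq, hd, Nat.add_sub_cancel]; ring
      · rw [← h1]; ring
      · rw [hMc]
        have hsq : q * (q ^ 2 - 1) = 4 * d * (q * (q + 1)) := by
          rw [show q ^ 2 - 1 = (q - 1) * (q + 1) by
            rw [hd, Nat.add_sub_cancel,
              show (4 * d + 1) ^ 2 = 4 * d * (4 * d + 1 + 1) + 1 by ring, Nat.add_sub_cancel],
            hd, Nat.add_sub_cancel]
          ring
        have : Nat.card L = 2 * d * (q * (q + 1)) := by
          have := hL2.trans hsq
          have h' : 2 * Nat.card L = 2 * (2 * d * (q * (q + 1))) := by rw [this]; ring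
          omega
        rw [this]; ring
    · obtain ⟨d, hd⟩ : ∃ d, q + 1 = 4 * d := ⟨(q + 1) / 4, by omega⟩
      refine ⟨q, d, q * (q - 1), L.index, Or.inl ⟨hd, rfl⟩, by omega,
        Nat.pos_of_ne_zero index_ne_zero_of_finite, by omega, fun h3 => by omega, ?_, ?_, ?_⟩
      · rw [← h2, hc, ← hq, hd]; ring
      · rw [← h1]; ring
      · rw [hMc]
        have hsq : q * (q ^ 2 - 1) = 4 * d * (q * (q - 1)) := by
          obtain ⟨p, hp⟩ : ∃ p, q = p + 1 := ⟨q - 1, by omega⟩
          rw [← hd, hp, show (p + 1) ^ 2 - 1 = (p + 1 + 1) * p by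
            rw [show (p + 1) ^ 2 = (p + 1 + 1) * p + 1 by ring, Nat.add_sub_cancel],
            Nat.add_sub_cancel]
          ring
        have : Nat.card L = 2 * d * (q * (q - 1)) := by
          have := hL2.trans hsq
          have h' : 2 * Nat.card L = 2 * (2 * d * (q * (q - 1))) := by rw [this]; ring
          omega
        rw [this]; ring

/-- The structure of a group with a four-group of odd index and a moved involution. -/
theorem structure_of_klein {X : Type u} [Group X] [Finite X] {V : Subgroup X} (hV : Nat.card V = 4)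
    (hVsq : ∀ v ∈ V, v * v = 1) (hodd : Odd V.index) {t v : X} (ht : t ∈ V) (ht1 : t ≠ 1)
    (hv : v ∈ V) (hv1 : v ≠ 1) (hvt : v ≠ t)
    (hmove : ∃ h : X, (∀ p ∈ V, h * p * h⁻¹ ∈ V) ∧ h * t * h⁻¹ = v)
    (hconj : ∃ h : X, h * t * h⁻¹ = t * v) :
    ∃ q d R f e c₀ : ℕ, Shape q d R ∧ 0 < d ∧ 0 < f ∧ 0 < e ∧ 0 < c₀ ∧ 3 ≤ q ∧
      (q = 3 → ∃ π : X →* alternatingGroup (Fin 4), Function.Surjective π ∧ Odd (Nat.card π.ker)) ∧
      Nat.card (centralizer ({t} : Set X)) = e * c₀ * (4 * d * f) ∧
      Nat.card (centralizer (V : Set X)) = c₀ * (4 * f) ∧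
      Nat.card X = e * e * e * c₀ * (2 * d * R * f) := by
  haveI : Fact (Nat.Prime 2) := ⟨Nat.prime_two⟩
  have hdih : GW.DihType X := by
    have hVp : IsPGroup 2 V := IsPGroup.of_card (n := 2) (by rw [hV]; norm_num)
    obtain ⟨S, hS⟩ := hVp.exists_le_sylow
    have hSV : V = (S : Subgroup X) := by
      refine eq_of_le_of_card_ge hS ?_
      obtain ⟨n, hn⟩ := IsPGroup.iff_card.1 S.isPGroup'
      have hd : Nat.card (S : Subgroup X) ∣ 4 * V.index := by
        rw [← hV, card_mul_index]; exact card_subgroup_dvd_card _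
      rw [hn] at hd ⊢
      rw [hV]
      exact Nat.le_of_dvd (by norm_num)
        (((Nat.coprime_two_left.2 hodd).pow_left n).dvd_of_dvd_mul_right hd)
    haveI : IsKleinFour V := by
      refine ⟨hV, ?_⟩
      refine Nat.dvd_antisymm (Monoid.exponent_dvd_of_forall_pow_eq_one fun p => ?_) ?_
      · rw [pow_two]; exact Subtype.ext (hVsq p p.2)
      · have h1 : orderOf (⟨t, ht⟩ : V) = 2 := by
          rw [← Subgroup.orderOf_coe]
          exact orderOf_eq_prime (by rw [pow_two]; exact hVsq t ht) ht1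
        exact h1 ▸ Monoid.order_dvd_exponent _
    obtain ⟨e⟩ : Nonempty (V ≃* DihedralGroup 2) := IsKleinFour.nonempty_mulEquiv
    exact GW.dihType_of_sylow S ((MulEquiv.subgroupCongr hSV.symm).trans e)
  set O := Cfsg.oddCore X with hOdef
  have hO : Odd (Nat.card O) := Inv54.odd_card_oddCore
  set π := QuotientGroup.mk' O with hπdef
  have hker : π.ker = O := QuotientGroup.ker_mk' O
  have hVO : V ⊓ O = ⊥ := by
    refine inf_eq_bot_of_coprime ?_
    rw [hV, show (4 : ℕ) = 2 ^ 2 by norm_num]
    exact (Nat.coprime_two_left.2 hO).pow_left 2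
  have hinj : ∀ p ∈ V, p ∈ O → p = 1 := fun p hp hpO =>
    mem_bot.1 (hVO ▸ mem_inf.2 ⟨hp, hpO⟩)
  have hVcard : Nat.card (V.map π) = 4 := by
    have h1 := card_map_mul π V
    rw [hker, hVO, card_bot, mul_one] at h1
    rw [h1, hV]
  have hidx : Odd (V.map π).index := by
    refine Odd.of_dvd_nat hodd ?_
    rw [index_map, QuotientGroup.range_mk', index_top, mul_one]
    exact index_dvd_of_le le_sup_left
  obtain ⟨h, hh, hht⟩ := hmove
  have hne : π h * π t ≠ π t * π h := fun hc => hvt (by
    have h1 : π v = π t := by rw [← hht, map_mul, map_mul, hc, map_inv, mul_inv_cancel_right]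
    have h2 : v * t⁻¹ ∈ O := by rw [← hker, MonoidHom.mem_ker, map_mul, map_inv, h1, mul_inv_cancel]
    exact mul_inv_eq_one.1 (hinj _ (mul_mem hv (inv_mem ht)) h2))
  obtain ⟨q, d, R, f, hsh, hd0, hf0, hq, hA, hCt, hCV, hM⟩ := structure_of_knownCore
    (GW.known_of_dihType hdih) (V := V.map π) hVcard
    (by rintro _ ⟨p, hp, rfl⟩; rw [← map_mul, hVsq p hp, map_one]) hidx (t := π t)
    (mem_map_of_mem π ht) (fun hh' => ht1 (hinj t ht (by rw [← hker]; exact hh')))
    ⟨π h, by rintro _ ⟨p, hp, rfl⟩; exact ⟨_, hh p hp, by simp [map_mul]⟩, hne⟩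
  have hmem : ∀ p ∈ V, p = 1 ∨ p = t ∨ p = v ∨ p = t * v := by
    intro p hp
    by_contra hc
    push Not at hc
    have hsub : ({p, 1, t, v, t * v} : Set X) ⊆ (V : Set X) := by
      rintro w (rfl | rfl | rfl | rfl | rfl)
      exacts [hp, one_mem _, ht, hv, mul_mem ht hv]
    have h' := Set.ncard_le_ncard hsub (Set.toFinite _)
    have e1 : t * v ≠ t := fun hh => hv1 (by simpa using hh)
    have e2 : t * v ≠ 1 := fun hh => hvt (by
      rw [← inv_eq_of_mul_eq_one_right hh, inv_eq_of_mul_eq_one_right (hVsq t ht)])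
    have e3 : t * v ≠ v := fun hh => ht1 (by simpa using hh)
    rw [Set.ncard_insert_of_notMem, Set.ncard_insert_of_notMem, Set.ncard_insert_of_notMem,
      Set.ncard_pair e3.symm, ← Nat.card_coe_set_eq, SetLike.coe_sort_coe, hV] at h'
    · omega
    · simp [Ne.symm hvt, e1.symm]
    · simp [ht1.symm, hv1.symm, e2.symm]
    · simp [hc.1, hc.2.1, hc.2.2.1, hc.2.2.2]
  have hOn : ∀ p : X, ∀ o ∈ O, p * o * p⁻¹ ∈ O := fun p o ho =>
    (inferInstance : O.Normal).conj_mem o ho p
  -- centralisers map onto centralisers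
  have lift : ∀ g : X, π g * π t = π t * π g → ∃ o ∈ O, g * o * t = t * (g * o) := fun g hg =>
    exists_commute_coset hO (hVsq t ht) (hOn t) (by
      rw [← hker, MonoidHom.mem_ker, map_mul, map_mul, map_mul, map_inv, map_inv, ← hg,
        mul_inv_cancel_right, inv_mul_cancel])
  have mapt : (centralizer ({t} : Set X)).map π = centralizer ({π t} : Set (X ⧸ O)) := by
    refine le_antisymm ?_ fun z hz => ?_
    · rintro _ ⟨g, hg, rfl⟩
      refine mem_centralizer_singleton_iff.2 ?_
      rw [← map_mul, ← map_mul, mem_centralizer_singleton_iff.1 hg]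
    · obtain ⟨g, rfl⟩ := QuotientGroup.mk'_surjective O z
      obtain ⟨o, ho, hgo⟩ := lift g (mem_centralizer_singleton_iff.1 hz)
      refine ⟨g * o, mem_centralizer_singleton_iff.2 hgo, ?_⟩
      rw [map_mul, show π o = 1 from (QuotientGroup.eq_one_iff _).2 ho, mul_one]
  have mapV : (centralizer (V : Set X)).map π = centralizer (V.map π : Set (X ⧸ O)) := by
    refine le_antisymm ?_ fun z hz => ?_
    · rintro _ ⟨g, hg, rfl⟩
      refine mem_centralizer_iff.2 ?_
      rintro _ ⟨p, hp, rfl⟩
      rw [← map_mul, ← map_mul, mem_centralizer_iff.1 hg p hp]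
    · obtain ⟨g, rfl⟩ := QuotientGroup.mk'_surjective O z
      rw [mem_centralizer_iff] at hz
      obtain ⟨o, ho, hgo⟩ := lift g (hz _ ⟨t, ht, rfl⟩).symm
      have hcv : π g * π v = π v * π g := (hz _ ⟨v, hv, rfl⟩).symm
      obtain ⟨o', ⟨ho', ho'c⟩, hgo'⟩ := exists_commute_coset (O := O ⊓ centralizer ({t} : Set X))
        (g := g * o) (v := v) (hO.of_dvd_nat (card_dvd_of_le inf_le_left)) (hVsq v hv) (fun p hp =>
          ⟨hOn v p hp.1, by
            refine mem_centralizer_singleton_iff.2 ?_
            have hvt' : v * t = t * v := by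
              calc v * t = (v * t)⁻¹ := (inv_eq_of_mul_eq_one_right (hVsq _ (mul_mem hv ht))).symm
                _ = t * v := by rw [mul_inv_rev, inv_eq_of_mul_eq_one_right (hVsq t ht),
                    inv_eq_of_mul_eq_one_right (hVsq v hv)]
            have hpc : p * t = t * p := mem_centralizer_singleton_iff.1 hp.2
            exact ((Commute.mul_left (Commute.mul_left hvt' hpc) (Commute.inv_left hvt'))).eq⟩) (by
          refine ⟨?_, mem_centralizer_singleton_iff.2 ?_⟩
          · show (g * o)⁻¹ * (v * (g * o) * v⁻¹) ∈ O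
            rw [← hker, MonoidHom.mem_ker]
            simp only [map_mul, map_inv, show π o = 1 from (QuotientGroup.eq_one_iff _).2 ho, mul_one]
            rw [← hcv, mul_inv_cancel_right, inv_mul_cancel]
          · have hvt' : v * t = t * v := by
              calc v * t = (v * t)⁻¹ := (inv_eq_of_mul_eq_one_right (hVsq _ (mul_mem hv ht))).symm
                _ = t * v := by rw [mul_inv_rev, inv_eq_of_mul_eq_one_right (hVsq t ht),
                    inv_eq_of_mul_eq_one_right (hVsq v hv)]
            exact ((Commute.inv_left (show Commute (g * o) t from hgo)).mul_left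
              ((Commute.mul_left hvt' (show Commute (g * o) t from hgo)).mul_left
                (Commute.inv_left hvt'))).eq)
      refine ⟨g * o * o', mem_centralizer_iff.2 fun p hp => ?_, ?_⟩
      · have c1 : Commute (g * o * o') t :=
          Commute.mul_left hgo (mem_centralizer_singleton_iff.1 ho'c)
        have c2 : Commute (g * o * o') v := hgo'
        rcases hmem p hp with rfl | rfl | rfl | rfl
        exacts [(Commute.one_left _).eq, c1.symm.eq, c2.symm.eq, (c1.mul_right c2).symm.eq]
      · rw [map_mul, map_mul, show π o = 1 from (QuotientGroup.eq_one_iff _).2 ho,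
          show π o' = 1 from (QuotientGroup.eq_one_iff _).2 ho', mul_one, mul_one]
  -- orders
  obtain ⟨c, hc⟩ : ∃ c, Nat.card (O ⊓ centralizer ({t} : Set X) : Subgroup X) = c := ⟨_, rfl⟩
  obtain ⟨c₀, hc₀⟩ : ∃ c, Nat.card (O ⊓ centralizer (V : Set X) : Subgroup X) = c := ⟨_, rfl⟩
  obtain ⟨e, he⟩ : c₀ ∣ c := by
    rw [← hc, ← hc₀]
    exact card_dvd_of_le (inf_le_inf_left _ (centralizer_le (by simpa using ht)))
  have hcpos : 0 < c := hc ▸ Nat.card_pos
  have hc₀pos : 0 < c₀ := hc₀ ▸ Nat.card_pos
  have hepos : 0 < e := Nat.pos_of_ne_zero fun e0 => by rw [e0, mul_zero] at he; omega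
  obtain ⟨g₂, hg₂⟩ := hconj
  have hform := GW.four_fixed_formula O hO (hVsq t ht) (hVsq v hv) (by
    calc t * v = (t * v)⁻¹ := (inv_eq_of_mul_eq_one_right (hVsq _ (mul_mem ht hv))).symm
      _ = v * t := by rw [mul_inv_rev, inv_eq_of_mul_eq_one_right (hVsq t ht),
          inv_eq_of_mul_eq_one_right (hVsq v hv)]) hht hg₂
  rw [show centralizer ({t, v} : Set X) = centralizer (V : Set X) by
    refine le_antisymm (fun g hg => mem_centralizer_iff.2 fun p hp => ?_)
      (centralizer_le (by rintro p (rfl | rfl); exacts [ht, hv]))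
    rw [mem_centralizer_iff] at hg
    have c1 : Commute t g := hg t (Or.inl rfl)
    have c2 : Commute v g := hg v (Or.inr rfl)
    rcases hmem p hp with rfl | rfl | rfl | rfl
    exacts [(Commute.one_left g).eq, c1.eq, c2.eq, (c1.mul_left c2).eq], hc, hc₀] at hform
  have hOcard : Nat.card O = e * e * e * c₀ := by
    refine Nat.eq_of_mul_eq_mul_right (by positivity : 0 < c₀ ^ 2) ?_
    rw [hform, he]
    ring
  refine ⟨q, d, R, f, e, c₀, hsh, hd0, hf0, hepos, hc₀pos, hq, fun h3 => ?_, ?_, ?_, ?_⟩
  · obtain ⟨eA⟩ := hA h3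
    refine ⟨eA.toMonoidHom.comp π, eA.surjective.comp (QuotientGroup.mk'_surjective O), ?_⟩
    rw [show (eA.toMonoidHom.comp π).ker = O by
      ext z; simp [MonoidHom.mem_ker, hπdef, QuotientGroup.eq_one_iff]]
    exact hO
  · have h1 := card_map_mul π (centralizer ({t} : Set X))
    rw [hker, mapt, hCt, inf_comm, hc, he] at h1
    rw [← h1]; ring
  · have h1 := card_map_mul π (centralizer (V : Set X))
    rw [hker, mapV, hCV, inf_comm, hc₀] at h1
    rw [← h1]; ring
  · rw [card_eq_card_quotient_mul_card_subgroup O, hM, hOcard]; ring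

end CfsgLib.TwoPointAltFour
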