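import Cfsg.Agent.GW.Classification
import Cfsg.Agent.GW.PSLTorus
import Cfsg.Agent.FusionSub.PSLTwo
import Cfsg.Agent.Perm.BurnsideMinimal
import Cfsg.Agent.S0205
import Cfsg.Agent.TwoPointAltFour.KleinGroup

/-!
# Odd normal subgroups, known groups, involution classes
-/

set_option autoImplicit false
set_option linter.unusedSectionVars false
set_option linter.style.haveILetI false

universe u v

namespace CfsgLib.TwoPointAltFour

open MulAction Subgroup
open scoped commutatorElement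

theorem not_isPrimePow_mul {a b : ℕ} (h : a.Coprime b) (ha : 1 < a) (hb : 1 < b) :
    ¬ IsPrimePow (a * b) := by
  intro hp
  obtain ⟨p, hpp, hpd⟩ := Nat.exists_prime_and_dvd (n := a) (by omega)
  obtain ⟨q, hqp, hqd⟩ := Nat.exists_prime_and_dvd (n := b) (by omega)
  obtain ⟨r, -, hr⟩ := isPrimePow_iff_unique_prime_dvd.1 hp
  have e1 := hr p ⟨hpp, hpd.mul_right b⟩
  have e2 := hr q ⟨hqp, hqd.mul_left a⟩
  subst e1 e2
  have := Nat.dvd_gcd hpd hqd
  rw [h] at this
  exact hpp.not_dvd_one this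

/-- A doubly transitive group whose degree is not a prime power has no non-trivial normal subgroup of
odd order. -/
theorem odd_normal_eq_bot {G : Type u} [Group G] [Finite G] {α : Type v} [Finite α] [MulAction G α]
    [FaithfulSMul G α] (h2 : IsMultiplyPretransitive G α 2) (hn : 2 ≤ Nat.card α)
    (hpp : ¬ IsPrimePow (Nat.card α)) (N : Subgroup G) [N.Normal] (hN : Odd (Nat.card N)) :
    N = ⊥ := by
  classical
  by_contra hne
  obtain ⟨M, hMs, hmin'⟩ := (Set.toFinite {M : Subgroup G | M.Normal ∧ M ≠ ⊥ ∧ M ≤ N}).exists_minimal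
    ⟨N, inferInstance, hne, le_rfl⟩
  obtain ⟨hMn, hM1, hMN⟩ := hMs
  haveI := hMn
  have hmin : ∀ K : Subgroup G, K.Normal → K ≤ M → K = ⊥ ∨ K = M := fun K hK hle =>
    or_iff_not_imp_left.2 fun h => le_antisymm hle (hmin' ⟨hK, h, hle.trans hMN⟩ hle)
  obtain ⟨k, hk, hk1⟩ : ∃ k ∈ M, k ≠ 1 := by
    by_contra hc
    push Not at hc
    exact hM1 ((Subgroup.eq_bot_iff_forall _).2 hc)
  obtain ⟨q, hq⟩ : ∃ q : α, k • q ≠ q := by
    by_contra hc
    push Not at hc
    exact hk1 (eq_of_smul_eq_smul (α := α) fun z => by rw [hc z, one_smul])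
  have hmove : ∀ w : α, ∃ m : M, m • q = w := by
    intro w
    by_cases hw : w = q
    · exact ⟨1, by rw [one_smul, hw]⟩
    obtain ⟨g, e1, e2⟩ := is_two_pretransitive_iff.1 h2 hq.symm (Ne.symm hw)
    exact ⟨⟨g * k * g⁻¹, hMn.conj_mem k hk g⟩, by
      show (g * k * g⁻¹) • q = w
      rw [mul_smul, mul_smul, show g⁻¹ • q = q by rw [inv_smul_eq_iff, e1], e2]⟩
  haveI htr : IsPretransitive M α := ⟨fun a b => by
    obtain ⟨ma, rfl⟩ := hmove a
    obtain ⟨mb, rfl⟩ := hmove b
    exact ⟨mb * ma⁻¹, by rw [mul_smul, inv_smul_smul]⟩⟩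
  haveI : Group.IsSolvable M := Cfsg.Agent.S0205.result (hN.of_dvd_nat (card_dvd_of_le hMN))
  haveI : Nontrivial M := (Subgroup.nontrivial_iff_ne_bot M).2 hM1
  have hder : (commutator M).map M.subtype = ⊥ := by
    refine (hmin _ inferInstance (map_subtype_le _)).resolve_right fun e => ?_
    have h' : commutator M = ⊤ := map_injective M.subtype_injective
      (by rw [e, ← MonoidHom.range_eq_map, M.range_subtype])
    exact (Group.IsSolvable.commutator_lt_top_of_nontrivial M).ne h'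
  rw [map_eq_bot_iff_of_injective _ M.subtype_injective] at hder
  have hab : ∀ a ∈ M, ∀ b ∈ M, a * b = b * a := by
    intro a ha b hb
    have h1 : ⁅(⟨a, ha⟩ : M), (⟨b, hb⟩ : M)⁆ ∈ commutator M :=
      commutator_mem_commutator (mem_top _) (mem_top _)
    rw [hder, mem_bot, commutatorElement_eq_one_iff_mul_comm] at h1
    exact congrArg Subtype.val h1
  have hreg : ∀ a : α, stabilizer M a = ⊥ := fun a => (Subgroup.eq_bot_iff_forall _).2 fun m hm =>
    Subtype.ext (Perm.BurnsideMinimal.eq_one_of_commute (T := M) htr (x := (m : G))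
      (fun t ht => hab _ m.2 _ ht) (a := a) (mem_stabilizer_iff.1 hm))
  obtain ⟨-, p, hp, hexp⟩ := Perm.BurnsideMinimal.elementary_of_regular M h2 hM1 hmin hreg
  haveI := Fact.mk hp
  have hpg : IsPGroup p M := fun m => ⟨1, Subtype.ext (by rw [pow_one]; exact hexp m m.2)⟩
  obtain ⟨j, hj⟩ := IsPGroup.iff_card.1 hpg
  have hcard : Nat.card M = Nat.card α := by
    have h1 := (stabilizer M q).card_mul_index
    rw [index_stabilizer, show orbit M q = Set.univ from
        Set.eq_univ_iff_forall.2 fun w => htr.exists_smul_eq q w,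
      Set.ncard_univ, hreg q, card_bot, one_mul] at h1
    exact h1.symm
  rw [← hcard, hj] at hn hpp
  exact hpp (hp.isPrimePow.pow (by rintro rfl; simp at hn))

/-- The conclusion of Gorenstein–Walter when the odd core is trivial. -/
theorem known_cases {X : Type u} [Group X] [Finite X] (hX : GW.DihType X)
    (hO : Cfsg.oddCore X = ⊥) :
    IsPGroup 2 X ∨ Nat.card X = 12 ∨ Nat.card X = 24 ∨
      ∃ L : Subgroup X, L.Normal ∧ GW.IsPSLOrAltSeven L := by
  have h := GW.known_of_dihType hX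
  let π : X →* X ⧸ Cfsg.oddCore X := QuotientGroup.mk' _
  have hπ : Function.Bijective π := ⟨by
    rw [← MonoidHom.ker_eq_bot_iff, QuotientGroup.ker_mk', hO], QuotientGroup.mk'_surjective _⟩
  let e : X ≃* X ⧸ Cfsg.oddCore X := MulEquiv.ofBijective π hπ
  rcases h with h | ⟨⟨e'⟩⟩ | ⟨⟨e'⟩⟩ | ⟨L, hLn, hL, -⟩
  · exact Or.inl (h.of_equiv e.symm)
  · exact Or.inr (Or.inl (by rw [Nat.card_congr (e.trans e').toEquiv, alt_four_card]))
  · refine Or.inr (Or.inr (Or.inl ?_))
    rw [Nat.card_congr (e.trans e').toEquiv, Nat.card_eq_fintype_card, Fintype.card_perm]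
    rfl
  · refine Or.inr (Or.inr (Or.inr ⟨L.comap π, hLn.comap π, ?_⟩))
    have e2 : ↥(L.comap π) ≃* L := MulEquiv.ofBijective (π.subgroupComap L)
      ⟨fun a b hab => Subtype.ext (hπ.1 (congrArg Subtype.val hab)), fun z => by
        obtain ⟨x, hx⟩ := hπ.2 z.1
        exact ⟨⟨x, mem_comap.2 (by rw [hx]; exact z.2)⟩, Subtype.ext hx⟩⟩
    rcases hL with ⟨F, iF, iFt, h1, h2, ⟨e3⟩⟩ | ⟨⟨e3⟩⟩
    · exact Or.inl ⟨F, iF, iFt, h1, h2, ⟨e2.trans e3⟩⟩
    · exact Or.inr ⟨e2.trans e3⟩

/-- The class of an involution in a group with a normal `PSL₂(q)`. -/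
theorem psl_class_data {X : Type u} [Group X] [Finite X] {L : Subgroup X} [L.Normal]
    (F : Type) [Field F] [Fintype F] (hF : Odd (Fintype.card F))
    (e : L ≃* Matrix.ProjectiveSpecialLinearGroup (Fin 2) F) {t : X} (htL : t ∈ L) (ht : t * t = 1)
    (ht1 : t ≠ 1) :
    ∃ q d R f : ℕ, Shape q d R ∧ 0 < d ∧ Nat.card (centralizer ({t} : Set X)) = 4 * d * f ∧
      Nat.card X = 2 * d * R * f := by
  classical
  set π := QuotientGroup.mk' L
  set q := Fintype.card F with hq
  have hq1 : 1 < q := Fintype.one_lt_card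
  have ho : ∀ s : X, s * s = 1 → s ≠ 1 → ∀ hs : s ∈ L, orderOf (e ⟨s, hs⟩) = 2 := fun s h2 h1 hs => by
    rw [MulEquiv.orderOf_eq, ← Subgroup.orderOf_coe]
    exact orderOf_eq_prime (by rw [pow_two]; exact h2) h1
  have h2 := card_map_mul π (centralizer ({t} : Set X))
  rw [QuotientGroup.ker_mk', show (centralizer ({t} : Set X)).map π = ⊤ from ?_, card_top,
    ← index_eq_card] at h2
  swap
  · rw [eq_top_iff]
    intro z _
    obtain ⟨g, rfl⟩ := QuotientGroup.mk'_surjective L z
    have hc : g * t * g⁻¹ ∈ L := (inferInstance : L.Normal).conj_mem t htL g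
    obtain ⟨l, hl⟩ := isConj_iff.1 (FusionSub.isConj_involutions_PSL_two hF
      (ho (g * t * g⁻¹) (by rw [show g * t * g⁻¹ * (g * t * g⁻¹) = g * (t * t) * g⁻¹ by group, ht]; group)
        (fun e' => ht1 (by calc t = g⁻¹ * (g * t * g⁻¹) * g := by group
          _ = 1 := by rw [e']; group)) hc) (ho t ht ht1 htL))
    have hl' : ((e.symm l : L) : X) * (g * t * g⁻¹) * ((e.symm l : L) : X)⁻¹ = t := by
      have := congrArg (fun w => ((e.symm w : L) : X)) hl
      simpa using this
    refine ⟨((e.symm l : L) : X) * g, mem_centralizer_singleton_iff.2 ?_, ?_⟩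
    · calc ((e.symm l : L) : X) * g * t
          = ((e.symm l : L) : X) * (g * t * g⁻¹) * ((e.symm l : L) : X)⁻¹ * (((e.symm l : L) : X) * g) := by
            group
        _ = _ := by rw [hl']
    · rw [map_mul, show π ((e.symm l : L) : X) = 1 from (QuotientGroup.eq_one_iff _).2 (e.symm l).2,
        one_mul]
  have hCtL : Nat.card (centralizer ({t} : Set X) ⊓ L : Subgroup X) =
      Nat.card (centralizer ({e ⟨t, htL⟩} : Set (Matrix.ProjectiveSpecialLinearGroup (Fin 2) F))) :=
    Nat.card_congr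
      { toFun := fun g => ⟨e ⟨g, g.2.2⟩, mem_centralizer_singleton_iff.2 (by
          rw [← map_mul, ← map_mul]
          exact congrArg e (Subtype.ext (mem_centralizer_singleton_iff.1 g.2.1)))⟩
        invFun := fun z => ⟨(e.symm z : L), mem_centralizer_singleton_iff.2 (by
          have := congrArg (fun w => ((e.symm w : L) : X)) (mem_centralizer_singleton_iff.1 z.2)
          simpa using this), (e.symm z.1).2⟩
        left_inv := fun g => Subtype.ext (by simp)
        right_inv := fun z => Subtype.ext (by simp) }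
  rw [hCtL] at h2
  have hL2 : 2 * Nat.card L = q * (q ^ 2 - 1) := by
    rw [Nat.card_congr e.toEquiv]; exact Linear.card_PSL_two_odd hF
  have hMc : Nat.card X = L.index * Nat.card L := by rw [mul_comm, card_mul_index]
  rcases GW.card_centralizer_involution_psl hF (ho t ht ht1 htL) with ⟨hm4, hc⟩ | ⟨hm4, hc⟩
  · obtain ⟨d, hd⟩ : ∃ d, q = 4 * d + 1 := ⟨q / 4, by omega⟩
    refine ⟨q, d, q * (q + 1), L.index, Or.inr ⟨hd, rfl⟩, by omega, ?_, ?_⟩
    · rw [← h2, hc, ← hq, hd, Nat.add_sub_cancel]; ring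
    · rw [hMc]
      have hsq : q * (q ^ 2 - 1) = 4 * d * (q * (q + 1)) := by
        rw [show q ^ 2 - 1 = (q - 1) * (q + 1) by
          rw [hd, Nat.add_sub_cancel,
            show (4 * d + 1) ^ 2 = 4 * d * (4 * d + 1 + 1) + 1 by ring, Nat.add_sub_cancel],
          hd, Nat.add_sub_cancel]
        ring
      have : Nat.card L = 2 * d * (q * (q + 1)) := by
        have h' : 2 * Nat.card L = 2 * (2 * d * (q * (q + 1))) := by rw [hL2.trans hsq]; ring
        omega
      rw [this]; ring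
  · obtain ⟨d, hd⟩ : ∃ d, q + 1 = 4 * d := ⟨(q + 1) / 4, by omega⟩
    refine ⟨q, d, q * (q - 1), L.index, Or.inl ⟨hd, rfl⟩, by omega, ?_, ?_⟩
    · rw [← h2, hc, ← hq, hd]; ring
    · rw [hMc]
      have hsq : q * (q ^ 2 - 1) = 4 * d * (q * (q - 1)) := by
        obtain ⟨p, hp⟩ : ∃ p, q = p + 1 := ⟨q - 1, by omega⟩
        rw [← hd, hp, show (p + 1) ^ 2 - 1 = (p + 1 + 1) * p by
          rw [show (p + 1) ^ 2 = (p + 1 + 1) * p + 1 by ring, Nat.add_sub_cancel],
          Nat.add_sub_cancel]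
        ring
      have : Nat.card L = 2 * d * (q * (q - 1)) := by
        have h' : 2 * Nat.card L = 2 * (2 * d * (q * (q - 1))) := by rw [hL2.trans hsq]; ring
        omega
      rw [this]; ring

theorem Shape.exists_eq_add_two {q d R : ℕ} (h : Shape q d R) (hd : 0 < d) : ∃ s, R = d * s + 2 := by
  rcases h with ⟨hq, rfl⟩ | ⟨hq, rfl⟩
  · refine ⟨16 * d - 12, ?_⟩
    obtain ⟨c, rfl⟩ : ∃ c, d = c + 1 := ⟨d - 1, by omega⟩
    rw [show q = 4 * c + 3 by omega, show 4 * c + 3 - 1 = 4 * c + 2 by omega,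
      show 16 * (c + 1) - 12 = 16 * c + 4 by omega]
    ring
  · exact ⟨16 * d + 12, by rw [hq]; ring⟩

end CfsgLib.TwoPointAltFour
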