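import Cfsg.Agent.TwoPointAltFour.OddFour
import Cfsg.Agent.TwoPointAltFour.OddGroups

/-!
# Odd degree, central exchanging involution: the last contradiction
-/

set_option autoImplicit false
set_option linter.unusedSectionVars false
set_option linter.style.haveILetI false

universe u v

namespace CfsgLib.TwoPointAltFour

open MulAction Subgroup

theorem arith_psl_four {k d R : ℕ} {q : ℕ} (hsh : Shape q d R) (hd : 0 < d) (hk : 3 ≤ k) (hodd : Odd d)
    (hR : R + 2 = 8 * (k * k)) (hdd : d ∣ k * (k - 1)) : False := by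
  obtain ⟨s, hs⟩ := hsh.exists_eq_add_two hd
  have hs' : (R : ℤ) = d * s + 2 := by exact_mod_cast hs
  have hR' : (R : ℤ) + 2 = 8 * ((k : ℤ) * k) := by exact_mod_cast hR
  have hA : (d : ℤ) ∣ 4 * (2 * ((k : ℤ) * k) - 1) := ⟨s, by linarith⟩
  have hcop : IsCoprime (d : ℤ) 4 := by
    rw [show (4 : ℤ) = ((4 : ℕ) : ℤ) by norm_num, Int.isCoprime_iff_nat_coprime, Int.natAbs_natCast,
      Int.natAbs_natCast, show (4 : ℕ) = 2 ^ 2 by norm_num]
    exact (Nat.coprime_two_right.2 hodd).pow_right 2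
  have hA' := hcop.dvd_of_dvd_mul_left hA
  have hB : (d : ℤ) ∣ (k : ℤ) * ((k : ℤ) - 1) := by
    have : ((k * (k - 1) : ℕ) : ℤ) = (k : ℤ) * ((k : ℤ) - 1) := by
      rw [Nat.cast_mul, Nat.cast_sub (by omega), Nat.cast_one]
    rw [← this]
    exact_mod_cast hdd
  have hC : (d : ℤ) ∣ 2 * (k : ℤ) - 1 := by
    have := dvd_sub hA' (hB.mul_left 2)
    ring_nf at this ⊢
    exact this
  have h1 : (d : ℤ) ∣ 1 := by
    have := dvd_sub (hC.mul_left (2 * (k : ℤ) - 1)) (hB.mul_left 4)
    ring_nf at this ⊢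
    exact this
  obtain rfl : d = 1 := by
    have : d ∣ 1 := by exact_mod_cast h1
    exact Nat.dvd_one.1 this
  rcases hsh with ⟨hq, rfl⟩ | ⟨hq, rfl⟩
  · obtain rfl : q = 3 := by omega
    nlinarith
  · obtain rfl : q = 5 := by omega
    nlinarith

variable {G : Type u} [Group G] [Finite G] {Ω : Type v} [Finite Ω] [MulAction G Ω] [FaithfulSMul G Ω]

namespace Hyp

variable (h : Hyp G Ω) (hn : Odd (Nat.card Ω)) {x y : Ω} (hxy : x ≠ y)
  {z : G} (hz : z ∈ Swap G x y) (hzc : ∀ g : G, g • x = x → g • y = y → z * g = g * z)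
  (hset : Swap G x y = (z * ·) '' (four G x y : Set G))
include h hn hxy hz hzc hset

omit hset in
theorem swap_comm_four {v : G} (hv : v ∈ four G x y) : z * v = v * z :=
  hzc v ((h.mem_four hxy).1 hv).1 ((h.mem_four hxy).1 hv).2.1

omit hset in
theorem swap_mem_cn' {t : G} (ht : t ∈ four G x y) : z ∈ cn t x y :=
  h.swap_mem_cn hxy hz (h.swap_comm_four hn hxy hz hzc ht)

/-- An element of `cn` with a fixed point whose square lies in the four-group is an involution. -/
theorem sq_eq_one {t : G} (ht : t ∈ four G x y) (ht1 : t ≠ 1) {g : G} (hg : g ∈ cn t x y)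
    (hgg : g * g ∈ four G x y) : g * g = 1 := by
  by_cases hfix : g • x = x ∧ g • y = y
  · have : g ∈ four G x y := by
      rw [← h.cn_inf_pair hxy ht ht1 (h.left_mem_fxFour hxy) (h.right_mem_fxFour hxy) hxy]
      exact ⟨hg, hfix⟩
    exact ((h.mem_four hxy).1 this).2.2
  obtain ⟨p, hp, hgp⟩ : ∃ p ∈ fxFour G x y, g • p ≠ p := by
    rw [not_and_or] at hfix
    rcases hfix with e | e
    exacts [⟨x, h.left_mem_fxFour hxy, e⟩, ⟨y, h.right_mem_fxFour hxy, e⟩]
  have hA := h.pairTrans_cn hxy ht ht1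
  have hq := hA.mem g hg p hp
  have hgq : g • g • p = p := by rw [← mul_smul]; exact hp _ hgg
  have e4 := h.four_eq_of_mem hxy (Ne.symm hgp) hp hq
  obtain ⟨z', hz', hzc', hset'⟩ := h.caseA_iff hxy (Ne.symm hgp) ⟨z, hz, hzc, hset⟩
  have hz'cn : z' ∈ cn t x y := by
    have := h.swap_mem_cn' hn (Ne.symm hgp) hz' hzc' (e4.symm ▸ ht)
    rwa [cn, e4] at this
  have hv : z' * g ∈ four G x y := by
    rw [← h.cn_inf_pair hxy ht ht1 hp hq (Ne.symm hgp)]
    exact ⟨mul_mem hz'cn hg, by show (z' * g) • p = p; rw [mul_smul, hz'.2.1],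
      by show (z' * g) • g • p = g • p; rw [mul_smul, hgq, hz'.1]⟩
  have hmem : g ∈ Swap G p (g • p) := by
    rw [hset']
    exact ⟨z' * g, by rw [e4]; exact hv, by
      show z' * (z' * g) = g
      rw [← mul_assoc, hz'.2.2, one_mul]⟩
  exact hmem.2.2

theorem mod_four_caseA {t : G} (ht : t ∈ four G x y) (ht1 : t ≠ 1) (hk : Odd (fxFour G x y).ncard)
    (hD : ∀ v ∈ four G x y, v ≠ 1 → ∀ c ∈ Swap G x y, c ∈ DSet Ω v) :
    ((fxFour G x y).ncard - 1) % 4 = 2 := by
  classical
  haveI : Fact (Nat.Prime 2) := ⟨Nat.prime_two⟩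
  have ht' := (h.mem_four hxy).1 ht
  have hA := h.pairTrans_cn hxy ht ht1
  have hswap : ∀ v ∈ four G x y, z * v ∈ Swap G x y := fun v hv => by
    rw [hset]; exact ⟨v, hv, rfl⟩
  have hzVcn : ∀ v ∈ four G x y, z * v ∈ cn t x y := fun v hv =>
    mul_mem (h.swap_mem_cn' hn hxy hz hzc ht)
      ⟨mem_centralizer_singleton_iff.2 (h.mul_self_comm hxy ((h.mem_four hxy).1 hv).1
        ((h.mem_four hxy).1 hv).2.1 ht'.1 ht'.2.1 ((h.mem_four hxy).1 hv).2.2 ht'.2.2), le_normalizer hv⟩
  obtain ⟨a, ha, hza⟩ := exists_fixed_of_odd hz.2.2 (hA.mem z (h.swap_mem_cn' hn hxy hz hzc ht)) hk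
  set C : Set G := {c | c ∈ cn t x y ∧ c * c = 1 ∧ c ∉ four G x y} with hC
  have hone : ∀ c ∈ C, {z | z ∈ fxFour G x y ∧ c • z = z}.ncard = 1 := by
    rintro c ⟨hc, hc2, hcV⟩
    have hle : {z | z ∈ fxFour G x y ∧ c • z = z}.ncard ≤ 1 := by
      by_contra hlt
      obtain ⟨p', ⟨hp', hcp⟩, q', ⟨hq', hcq⟩, hpq⟩ :=
        (Set.one_lt_ncard (Set.toFinite _)).1 (by omega : 1 < {z | z ∈ fxFour G x y ∧ c • z = z}.ncard)
      exact hcV (by rw [← h.cn_inf_pair hxy ht ht1 hp' hq' hpq]; exact ⟨hc, hcp, hcq⟩)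
    obtain ⟨w, hw, hcw⟩ := exists_fixed_of_odd hc2 (hA.mem c hc) hk
    have : 0 < {z | z ∈ fxFour G x y ∧ c • z = z}.ncard :=
      (Set.ncard_pos (Set.toFinite _)).2 ⟨w, hw, hcw⟩
    omega
  have hinv : ConjInv (cn t x y) C := by
    rintro g hg c ⟨hc, hc2, hcV⟩
    refine ⟨mul_mem (mul_mem hg hc) (inv_mem hg), ?_, fun hmem => hcV ?_⟩
    · rw [show g * c * g⁻¹ * (g * c * g⁻¹) = g * (c * c) * g⁻¹ by group, hc2]; group
    · have := h.conj_mem_four hxy (inv_mem hg) hmem
      simpa [mul_assoc] using this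
  have hnotV : ∀ c ∈ Swap G x y, c ∉ four G x y := fun c hc hmem => hxy (by
    rw [← hc.1, ((h.mem_four hxy).1 hmem).1])
  have hsubCa : (z * ·) '' (four G x y : Set G) ⊆ {c ∈ C | c • a = a} := by
    rintro _ ⟨v, hv, rfl⟩
    exact ⟨⟨hzVcn v hv, (hswap v hv).2.2, hnotV _ (hswap v hv)⟩, by
      show (z * v) • a = a
      rw [mul_smul, ha v hv, hza]⟩
  have hCa : {c ∈ C | c • a = a} = (z * ·) '' (four G x y : Set G) := by
    refine (Set.eq_of_subset_of_ncard_le hsubCa ?_ (Set.toFinite _)).symm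
    obtain ⟨p, hp, hap⟩ : ∃ p ∈ fxFour G x y, a ≠ p := by
      by_cases e : a = x
      · exact ⟨y, h.right_mem_fxFour hxy, e ▸ hxy⟩
      · exact ⟨x, h.left_mem_fxFour hxy, e⟩
    obtain ⟨g, hg, e1, e2⟩ := hA.trans x (h.left_mem_fxFour hxy) y (h.right_mem_fxFour hxy) hxy a ha p hp hap
    rw [count_one_fixed hA hinv (fun c hc => hc.1) (fun c hc z _ => by rw [← mul_smul, hc.2.1, one_smul])
        hone ha hp hap,
      ← ncard_congr_conj hinv hg (fun c => c • x = y ∧ c • y = x) (fun c => c • a = p ∧ c • p = a)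
        (fun c => by rw [← e1, ← e2]; exact swap_conj_iff g c x y)]
    refine Set.ncard_le_ncard ?_ (Set.toFinite _)
    rintro c ⟨hc, hcx, hcy⟩
    rw [← hset]
    exact ⟨hcx, hcy, hc.2.1⟩
  have hstep : ∀ g ∈ cn t x y, g • a = a → g * g ∈ four G x y →
      g ∈ four G x y ∨ g ∈ (z * ·) '' (four G x y : Set G) := by
    intro g hg hga hgg
    by_cases hgV : g ∈ four G x y
    · exact Or.inl hgV
    · refine Or.inr ?_
      rw [← hCa]
      exact ⟨⟨hg, h.sq_eq_one hn hxy hz hzc hset ht ht1 hg hgg, hgV⟩, hga⟩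
  have hroot : ∀ g ∈ cn t x y, g • a = a →
      (g * g ∈ four G x y ∨ g * g ∈ (z * ·) '' (four G x y : Set G)) →
      g ∈ four G x y ∨ g ∈ (z * ·) '' (four G x y : Set G) := by
    intro g hg hga hgg
    refine hstep g hg hga ?_
    rcases hgg with e | e
    · exact e
    exfalso
    obtain ⟨u, hu, he⟩ := e
    set c := g * g with hc
    have hcS : c ∈ Swap G x y := by rw [← he]; exact hswap u hu
    have hcD := hD t ht ht1 c hcS
    obtain ⟨p, q, hpq, htp, htq, hcp, hcq⟩ := hcD.2.2.2.2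
    have ht4 : t ∈ four G p q := (h.mem_four hpq).2 ⟨htp, htq, ht'.2.2⟩
    have hc4 : c ∈ four G p q := (h.mem_four hpq).2 ⟨hcp, hcq, hcS.2.2⟩
    obtain ⟨z', hz', hzc', hset'⟩ := h.caseA_iff hxy hpq ⟨z, hz, hzc, hset⟩
    have hgt := (mem_cn.1 hg).1
    have hgc : g * c = c * g := by rw [hc, mul_assoc]
    have hgcn : g ∈ cn t p q := by
      have hle : four G p q ≤ centralizer ({g} : Set G) := fun w hw => by
        refine mem_centralizer_singleton_iff.2 ?_
        rcases h.four_elems hpq ht4 ht1 hc4 hcD.2.1 hcD.2.2.1 hw with rfl | rfl | rfl | rfl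
        · rw [one_mul, mul_one]
        · exact hgt.symm
        · exact hgc.symm
        · exact ((show Commute g c from hgc).mul_right hgt).symm.eq
      refine mem_cn.2 ⟨hgt, centralizer_le_normalizer _ (mem_centralizer_iff.2 fun w hw => ?_)⟩
      exact mem_centralizer_singleton_iff.1 (hle hw)
    exact hcD.2.1 (hc ▸ h.sq_eq_one hn hpq hz' hzc' hset' ht4 ht1 hgcn (hc ▸ hc4))
  by_contra hmod
  set M := cn t x y ⊓ stabilizer G a with hMdef
  have hM : Nat.card M = ((fxFour G x y).ncard - 1) * 4 := h.card_cn_point hxy ht ht1 ha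
  obtain ⟨P, hP⟩ := Sylow.exists_subgroup_card_pow_prime (G := M) 2 (n := 4) (by
    rw [hM]
    obtain ⟨b, hb⟩ := hk
    obtain ⟨c, hc⟩ : 4 ∣ (fxFour G x y).ncard - 1 := by omega
    exact ⟨c, by rw [hc]; ring⟩)
  have hall : ∀ g : P, ((g : M) : G) ∈ (four G x y : Set G) ∪ (z * ·) '' (four G x y : Set G) := by
    intro g
    obtain ⟨hgc, hga⟩ := (g : M).2
    have h16 : ((g : M) : G) ^ 16 = 1 := by
      have h1 : g ^ Nat.card P = 1 := pow_card_eq_one'
      rw [hP] at h1
      exact congrArg (fun w : P => ((w : M) : G)) h1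
    have step : ∀ j : ℕ,
        (((g : M) : G) ^ (2 * j) ∈ four G x y ∨
          ((g : M) : G) ^ (2 * j) ∈ (z * ·) '' (four G x y : Set G)) →
        (((g : M) : G) ^ j ∈ four G x y ∨ ((g : M) : G) ^ j ∈ (z * ·) '' (four G x y : Set G)) :=
      fun j hj => hroot _ (pow_mem hgc j) (by
        have : ((g : M) : G) ^ j ∈ stabilizer G a := pow_mem hga j
        exact this) (by rwa [← pow_add, ← two_mul])
    have h8 := step 8 (Or.inl (by rw [show 2 * 8 = 16 from rfl, h16]; exact one_mem _))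
    have h4 := step 4 h8
    have h2 := step 2 h4
    simpa using step 1 h2
  let f : P → Set.Elem ((four G x y : Set G) ∪ (z * ·) '' (four G x y : Set G)) := fun g =>
    ⟨((g : M) : G), hall g⟩
  have h1 := Nat.card_le_card_of_injective f
    (fun g g' e => Subtype.ext (Subtype.ext (congrArg Subtype.val e :)))
  have h2 : ((four G x y : Set G) ∪ (z * ·) '' (four G x y : Set G)).ncard ≤ 8 := by
    refine le_trans (Set.ncard_union_le _ _) ?_
    rw [Set.ncard_image_of_injective _ (mul_right_injective z), ← Nat.card_coe_set_eq,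
      SetLike.coe_sort_coe, h.card_four hxy]
  rw [hP, Nat.card_coe_set_eq] at h1
  omega

theorem not_large {t : G} (ht : t ∈ four G x y) (ht1 : t ≠ 1) (hk : Odd (fxFour G x y).ncard)
    (hi : (fx t : Set Ω).ncard = (fxFour G x y).ncard * (2 * (fxFour G x y).ncard - 1))
    (hD : ∀ v ∈ four G x y, v ≠ 1 → ∀ c ∈ Swap G x y, c ∈ DSet Ω v) : False := by
  classical
  haveI : Fact (Nat.Prime 2) := ⟨Nat.prime_two⟩
  have htT := h.isT_of_mem hxy ht ht1
  have ht' := (h.mem_four hxy).1 ht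
  have hmod := h.mod_four_caseA hn hxy hz hzc hset ht ht1 hk hD
  have hk2 := h.two_le_ncard_fxFour hxy
  obtain ⟨k, hkdef⟩ : ∃ k, (fxFour G x y).ncard = k := ⟨_, rfl⟩
  rw [hkdef] at hi hmod hk hk2
  obtain ⟨c, rfl⟩ : ∃ c, k = 4 * c + 3 := ⟨k / 4, by
    obtain ⟨b, hb⟩ := hk
    omega⟩
  -- the action of the centraliser of `t` on its fixed points
  let S : SubMulAction (centralizer ({t} : Set G)) Ω :=
    ⟨fx t, fun g p hp => smul_mem_fx (mem_centralizer_singleton_iff.1 g.2) hp⟩
  let φ : centralizer ({t} : Set G) →* Equiv.Perm S := MulAction.toPermHom _ S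
  let X : Subgroup (Equiv.Perm S) := φ.range
  let π : centralizer ({t} : Set G) →* X := φ.rangeRestrict
  have hπ : Function.Surjective π := φ.rangeRestrict_surjective
  have hSc : Nat.card S = (fx t : Set Ω).ncard := Nat.card_coe_set_eq _
  have hval : ∀ (g : centralizer ({t} : Set G)) (p : S), (((π g : Equiv.Perm S) p : S) : Ω) = (g : G) • (p : Ω) :=
    fun _ _ => rfl
  have hVC : ∀ v ∈ four G x y, v ∈ centralizer ({t} : Set G) := fun v hv =>
    mem_centralizer_singleton_iff.2 (h.mul_self_comm hxy ((h.mem_four hxy).1 hv).1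
      ((h.mem_four hxy).1 hv).2.1 ht'.1 ht'.2.1 ((h.mem_four hxy).1 hv).2.2 ht'.2.2)
  have hzC : z ∈ centralizer ({t} : Set G) :=
    mem_centralizer_singleton_iff.2 (h.swap_comm_four hn hxy hz hzc ht)
  have hker : ∀ g : centralizer ({t} : Set G), π g = 1 ↔ (g : G) = 1 ∨ (g : G) = t := by
    intro g
    constructor
    · intro e
      have hfix : ∀ p ∈ (fx t : Set Ω), (g : G) • p = p := fun p hp => by
        have := hval g ⟨p, hp⟩
        rw [e] at this
        exact this.symm
      have hg4 : (g : G) ∈ four G x y := by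
        rw [← h.centralizer_inf_pair htT hxy ht'.1 ht'.2.1]
        exact ⟨g.2, hfix x ht'.1, hfix y ht'.2.1⟩
      by_contra hcon
      push Not at hcon
      have hsub : (fx t : Set Ω) ⊆ fxFour G x y := by
        intro p hp v hv
        rcases h.four_elems hxy ht ht1 hg4 hcon.1 hcon.2 hv with rfl | rfl | rfl | rfl
        · exact one_smul G p
        · exact hp
        · exact hfix p hp
        · rw [mul_smul, hp, hfix p hp]
      have hle := Set.ncard_le_ncard hsub (Set.toFinite _)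
      rw [hi, hkdef, show 2 * (4 * c + 3) - 1 = 8 * c + 5 by omega] at hle
      nlinarith
    · intro e
      refine Subtype.ext (Equiv.ext fun p => Subtype.ext ?_)
      rw [hval]
      rcases e with e | e
      · rw [e, one_smul]; rfl
      · rw [e]; exact p.2
  have hkc : Nat.card π.ker = 2 := by
    rw [← Set.ncard_pair (Ne.symm ht1), ← Nat.card_coe_set_eq]
    exact Nat.card_congr
      { toFun := fun g => ⟨(g.1 : G), (hker g.1).1 (MonoidHom.mem_ker.1 g.2)⟩
        invFun := fun w => ⟨⟨w.1, by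
          rcases w.2 with e | e
          · rw [e]; exact one_mem _
          · rw [Set.mem_singleton_iff.1 e]; exact hVC t ht⟩, MonoidHom.mem_ker.2 ((hker _).2 w.2)⟩
        left_inv := fun _ => rfl
        right_inv := fun _ => rfl }
  have hXcard : 2 * Nat.card X = (fx t : Set Ω).ncard * ((fx t : Set Ω).ncard - 1) * 4 := by
    have h1 := π.ker.card_mul_index
    rw [hkc, index_ker, MonoidHom.range_eq_top.2 hπ, card_top, h.card_centralizer htT] at h1
    exact h1
  obtain ⟨w, hw⟩ : ∃ w, Nat.card X = 4 * w ∧ Odd w ∧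
      w = (4 * c + 3) * (8 * c + 5) * ((2 * c + 1) * (8 * c + 7)) := by
    refine ⟨_, ?_, ?_, rfl⟩
    · rw [hi, show 2 * (4 * c + 3) - 1 = 8 * c + 5 by omega,
        show (4 * c + 3) * (8 * c + 5) - 1 = 2 * ((2 * c + 1) * (8 * c + 7)) by
          have : (4 * c + 3) * (8 * c + 5) = 2 * ((2 * c + 1) * (8 * c + 7)) + 1 := by ring
          omega] at hXcard
      have h2 : 2 * Nat.card X = 2 * (4 * ((4 * c + 3) * (8 * c + 5) * ((2 * c + 1) * (8 * c + 7)))) := by
        rw [hXcard]; ring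
      omega
    · exact (Odd.mul (Odd.mul ⟨2 * c + 1, by ring⟩ ⟨4 * c + 2, by ring⟩)
        (Odd.mul ⟨c, rfl⟩ ⟨4 * c + 3, by ring⟩))
  obtain ⟨hX4, hwodd, hwval⟩ := hw
  have h2t : IsMultiplyPretransitive X S 2 := by
    refine is_two_pretransitive_iff.2 fun {a b a' b'} hab hab' => ?_
    obtain ⟨g, hg, e1, e2⟩ := (h.pairTrans_centralizer htT).trans _ a.2 _ b.2
      (fun e => hab (Subtype.ext e)) _ a'.2 _ b'.2 (fun e => hab' (Subtype.ext e))
    exact ⟨π ⟨g, hg⟩, Subtype.ext e1, Subtype.ext e2⟩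
  have hScard : Nat.card S = (4 * c + 3) * (8 * c + 5) := by
    rw [hSc, hi, show 2 * (4 * c + 3) - 1 = 8 * c + 5 by omega]
  have hO : Cfsg.oddCore X = ⊥ := by
    refine odd_normal_eq_bot h2t (by rw [hScard]; nlinarith) ?_ _ Inv54.odd_card_oddCore
    rw [hScard]
    refine not_isPrimePow_mul ?_ (by omega) (by omega)
    have e : Nat.gcd (4 * c + 3) (8 * c + 5) ∣ 1 := by
      have h1' := Nat.gcd_dvd_left (4 * c + 3) (8 * c + 5)
      have h2' := Nat.gcd_dvd_right (4 * c + 3) (8 * c + 5)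
      have := Nat.dvd_sub (h1'.mul_left 2) h2'
      rwa [show 2 * (4 * c + 3) - (8 * c + 5) = 1 by omega] at this
    exact Nat.dvd_one.1 e
  -- two commuting involutions
  obtain ⟨v, hv, hv1, hvt⟩ := h.exists_third hxy ht ht1
  set V : X := π ⟨v, hVC v hv⟩ with hVdef
  set Z : X := π ⟨z, hzC⟩ with hZdef
  have hv2 := ((h.mem_four hxy).1 hv).2.2
  have hV2 : V * V = 1 := by
    rw [hVdef, ← map_mul, ← map_one π]; exact congrArg π (Subtype.ext hv2)
  have hZ2 : Z * Z = 1 := by
    rw [hZdef, ← map_mul, ← map_one π]; exact congrArg π (Subtype.ext hz.2.2)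
  have hV1 : V ≠ 1 := fun e => by
    rcases (hker _).1 e with e' | e'
    exacts [hv1 e', hvt e']
  have hVZ : V * Z = Z * V := by
    rw [hVdef, hZdef, ← map_mul, ← map_mul]
    exact congrArg π (Subtype.ext (h.swap_comm_four hn hxy hz hzc hv).symm)
  have hzmove : ∀ g ∈ four G x y, z ≠ g := fun g hg e => hxy (by
    rw [← hz.1, e, ((h.mem_four hxy).1 hg).1])
  have hZ1 : Z ≠ 1 := fun e => by
    rcases (hker _).1 e with e' | e'
    exacts [hzmove 1 (one_mem _) e', hzmove t ht e']
  have hneVZ : V ≠ Z := fun e => by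
    have h1 : π (⟨v, hVC v hv⟩ * ⟨z, hzC⟩) = 1 := by rw [map_mul, ← hVdef, ← hZdef, e, hZ2]
    rcases (hker _).1 h1 with e' | e'
    · exact hzmove v hv (by
        have h1' : v * z = 1 := e'
        calc z = (v * v) * z := by rw [hv2, one_mul]
          _ = v := by rw [mul_assoc, h1', mul_one])
    · exact hzmove (v * t) (mul_mem hv ht) (by
        have h1' : v * z = t := e'
        rw [← h1', ← mul_assoc, hv2, one_mul])
  let K : Subgroup X := zpowers V ⊔ zpowers Z
  have hKp : IsPGroup 2 (zpowers V) ∧ IsPGroup 2 (zpowers Z) := by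
    constructor <;> refine IsPGroup.of_card (n := 1) ?_ <;> rw [Nat.card_zpowers, pow_one]
    · exact orderOf_eq_prime (by rw [pow_two]; exact hV2) hV1
    · exact orderOf_eq_prime (by rw [pow_two]; exact hZ2) hZ1
  have hKn : zpowers Z ≤ normalizer (zpowers V : Set X) := zpowers_le.2
    (centralizer_le_normalizer _ (mem_centralizer_iff.2 fun g hg => by
      obtain ⟨j, rfl⟩ := hg
      exact ((show Commute V Z from hVZ).zpow_left j).eq))
  obtain ⟨P, hP⟩ := (hKp.1.to_sup_of_normal_left' hKp.2 hKn : IsPGroup 2 K).exists_le_sylow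
  have hPle : Nat.card (P : Subgroup X) ≤ 4 := by
    obtain ⟨j, hj⟩ := IsPGroup.iff_card.1 P.isPGroup'
    have hd := card_subgroup_dvd_card (P : Subgroup X)
    rw [hj, hX4] at hd
    rw [hj]
    exact Nat.le_of_dvd (by norm_num)
      (((Nat.coprime_two_left.2 hwodd).pow_left j).dvd_of_dvd_mul_right hd)
  have hfourset : ({1, V, Z, V * Z} : Set X) = ((P : Subgroup X) : Set X) := by
    refine Set.eq_of_subset_of_ncard_le ?_ ?_ (Set.toFinite _)
    · have hVP : V ∈ (P : Subgroup X) := hP (mem_sup_left (mem_zpowers V))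
      have hZP : Z ∈ (P : Subgroup X) := hP (mem_sup_right (mem_zpowers Z))
      rintro g (rfl | rfl | rfl | rfl)
      exacts [one_mem _, hVP, hZP, mul_mem hVP hZP]
    · refine le_trans ((Nat.card_coe_set_eq _).symm.le.trans hPle) ?_
      have e1 : V * Z ≠ 1 := fun e => hneVZ (by
        rw [eq_inv_of_mul_eq_one_left e, inv_eq_of_mul_eq_one_right hZ2])
      have e2 : Z ≠ V * Z := fun e => hV1 (by simpa using e.symm)
      have e3 : V ≠ V * Z := fun e => hZ1 (by simpa using e.symm)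
      rw [Set.ncard_insert_of_notMem, Set.ncard_insert_of_notMem, Set.ncard_pair e2]
      · simp [hneVZ, e3]
      · simp [Ne.symm hV1, Ne.symm hZ1, e1.symm]
  haveI hKF : IsKleinFour (P : Subgroup X) := by
    have hexp : ∀ g ∈ (P : Subgroup X), g * g = 1 := by
      intro g hg
      have : g ∈ ({1, V, Z, V * Z} : Set X) := by rw [hfourset]; exact hg
      rcases this with rfl | rfl | rfl | rfl
      exacts [one_mul 1, hV2, hZ2, by
        rw [show V * Z * (V * Z) = V * (Z * V) * Z by group, ← hVZ,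
          show V * (V * Z) * Z = (V * V) * (Z * Z) by group, hV2, hZ2, one_mul]]
    refine ⟨le_antisymm hPle ?_, Nat.dvd_antisymm (Monoid.exponent_dvd_of_forall_pow_eq_one fun g => ?_) ?_⟩
    · have e1 : V * Z ≠ 1 := fun e => hneVZ (by
        rw [eq_inv_of_mul_eq_one_left e, inv_eq_of_mul_eq_one_right hZ2])
      have e2 : Z ≠ V * Z := fun e => hV1 (by simpa using e.symm)
      have e3 : V ≠ V * Z := fun e => hZ1 (by simpa using e.symm)
      have h4 : ({1, V, Z, V * Z} : Set X).ncard = 4 := by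
        rw [Set.ncard_insert_of_notMem, Set.ncard_insert_of_notMem, Set.ncard_pair e2]
        · simp [hneVZ, e3]
        · simp [Ne.symm hV1, Ne.symm hZ1, e1.symm]
      rw [hfourset, ← Nat.card_coe_set_eq] at h4
      exact h4.ge
    · rw [pow_two]; exact Subtype.ext (hexp g g.2)
    · have hVP : V ∈ (P : Subgroup X) := hP (mem_sup_left (mem_zpowers V))
      have h1 : orderOf (⟨V, hVP⟩ : (P : Subgroup X)) = 2 := by
        rw [← Subgroup.orderOf_coe]
        exact orderOf_eq_prime (by rw [pow_two]; exact hV2) hV1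
      have h3 := Monoid.order_dvd_exponent (⟨V, hVP⟩ : (P : Subgroup X))
      rwa [h1] at h3
  obtain ⟨eK⟩ : Nonempty ((P : Subgroup X) ≃* DihedralGroup 2) := IsKleinFour.nonempty_mulEquiv
  have hbig : 4 * 105 ≤ Nat.card X := by
    rw [hX4, hwval]
    have : 3 * 5 * (1 * 7) ≤ (4 * c + 3) * (8 * c + 5) * ((2 * c + 1) * (8 * c + 7)) := by
      gcongr <;> omega
    omega
  rcases known_cases (GW.dihType_of_sylow P eK) hO with h2 | e | e | ⟨L, hLn, hL⟩
  · obtain ⟨b, hb⟩ := IsPGroup.iff_card.1 h2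
    have hw1 : w ∣ 2 ^ b := ⟨4, by rw [← hb, hX4, mul_comm]⟩
    obtain ⟨j, -, hj⟩ := (Nat.dvd_prime_pow Nat.prime_two).1 hw1
    rcases Nat.eq_zero_or_pos j with rfl | hjp
    · rw [hj, pow_zero] at hX4; omega
    · have := hwodd
      rw [hj, Nat.odd_pow_iff (by omega)] at this
      exact absurd this (by decide)
  · omega
  · omega
  haveI := hLn
  rcases hL with ⟨F, iF, iFt, hF, hF3, ⟨e⟩⟩ | ⟨⟨e⟩⟩
  swap
  · have hA : Nat.card L = 2520 := by
      rw [Nat.card_congr e.toEquiv, nat_card_alternatingGroup, Nat.card_eq_fintype_card, Fintype.card_fin]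
      decide
    obtain ⟨j, hj⟩ := card_subgroup_dvd_card L
    rw [hA, hX4] at hj
    obtain ⟨b, hb⟩ := hwodd
    omega
  letI := iF
  letI := iFt
  have hL4 : 4 ∣ Nat.card L := by
    obtain ⟨a, ha⟩ := hF
    obtain ⟨b, hb⟩ := Nat.even_mul_succ_self a
    have hc : 2 * Nat.card L = Fintype.card F * (Fintype.card F ^ 2 - 1) := by
      rw [Nat.card_congr e.toEquiv]; exact Linear.card_PSL_two_odd ⟨a, ha⟩
    rw [ha, show (2 * a + 1) ^ 2 - 1 = 8 * b by
      rw [show (2 * a + 1) ^ 2 = 4 * (a * (a + 1)) + 1 by ring, hb]; omega,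
      show (2 * a + 1) * (8 * b) = 2 * (4 * ((2 * a + 1) * b)) by ring] at hc
    exact ⟨(2 * a + 1) * b, by omega⟩
  have hVL : V ∈ L := by
    have hidx : Odd L.index := by
      obtain ⟨j, hj⟩ := hL4
      have h1 := L.card_mul_index
      rw [hX4, hj, mul_assoc] at h1
      have h2 : j * L.index = w := by omega
      exact (Nat.odd_mul.1 (h2.symm ▸ hwodd)).2
    have h1 : (QuotientGroup.mk' L) V ^ 2 = 1 := by rw [← map_pow, pow_two, hV2, map_one]
    have h2 : (QuotientGroup.mk' L) V ^ L.index = 1 := by rw [index_eq_card]; exact pow_card_eq_one'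
    obtain ⟨j, hj⟩ := hidx
    rw [hj, pow_succ, pow_mul, h1, one_pow, one_mul] at h2
    exact (QuotientGroup.eq_one_iff _).1 h2
  obtain ⟨q, d, R, f, hsh, hd, hC, hX⟩ := psl_class_data F hF e hVL hV2 hV1
  -- the centraliser in `X` comes from the normaliser of the four-group
  have hcomap : (centralizer ({V} : Set X)).comap π = (cn t x y).subgroupOf (centralizer ({t} : Set G)) := by
    ext g
    rw [mem_comap, mem_centralizer_singleton_iff, mem_subgroupOf, mem_cn]
    have hgt : (g : G) * t = t * g := mem_centralizer_singleton_iff.1 g.2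
    have hgtt : (g : G) * t * (g : G)⁻¹ = t := by rw [hgt, mul_inv_cancel_right]
    constructor
    · intro hg
      refine ⟨hgt, ?_⟩
      have h1 : π (g * ⟨v, hVC v hv⟩ * g⁻¹ * (⟨v, hVC v hv⟩ : centralizer ({t} : Set G))⁻¹) = 1 := by
        rw [map_mul, map_mul, map_mul, map_inv, map_inv, ← hVdef, hg, mul_inv_cancel_right, mul_inv_cancel]
      have hgv : (g : G) * v * (g : G)⁻¹ = v ∨ (g : G) * v * (g : G)⁻¹ = v * t := by
        rcases (hker _).1 h1 with e' | e'
        · exact Or.inl (mul_inv_eq_one.1 e')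
        · refine Or.inr ?_
          have e'' : (g : G) * v * (g : G)⁻¹ = t * v := mul_inv_eq_iff_eq_mul.1 e'
          rw [e'', mem_centralizer_singleton_iff.1 (hVC v hv)]
      have hmap : ∀ u ∈ four G x y, (g : G) * u * (g : G)⁻¹ ∈ four G x y := by
        intro u hu
        have hvg : (g : G) * v * (g : G)⁻¹ ∈ four G x y := by
          rcases hgv with e' | e' <;> rw [e']
          exacts [hv, mul_mem hv ht]
        rcases h.four_elems hxy ht ht1 hv hv1 hvt hu with rfl | rfl | rfl | rfl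
        · rw [mul_one, mul_inv_cancel]; exact one_mem _
        · rw [hgtt]; exact ht
        · exact hvg
        · rw [show (g : G) * (v * t) * (g : G)⁻¹ =
            (g : G) * v * (g : G)⁻¹ * ((g : G) * t * (g : G)⁻¹) by group, hgtt]
          exact mul_mem hvg ht
      have himg : (fun u => (g : G) * u * (g : G)⁻¹) '' (four G x y : Set G) = (four G x y : Set G) :=
        Set.eq_of_subset_of_ncard_le (by rintro _ ⟨u, hu, rfl⟩; exact hmap u hu)
          (by rw [Set.ncard_image_of_injective _ (fun a b e => mul_left_cancel (mul_right_cancel e))])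
          (Set.toFinite _)
      refine mem_normalizer_iff.2 fun u => ⟨hmap u, fun hu => ?_⟩
      have hu' : (g : G) * u * (g : G)⁻¹ ∈ (four G x y : Set G) := hu
      rw [← himg] at hu'
      obtain ⟨u', hu', e'⟩ := hu'
      rw [← mul_left_cancel (mul_right_cancel e')]
      exact hu'
    · rintro ⟨-, hg⟩
      have h1 := (mem_normalizer_iff.1 hg v).1 hv
      have hcases : (g : G) * v * (g : G)⁻¹ = v ∨ (g : G) * v * (g : G)⁻¹ = v * t := by
        rcases h.four_elems hxy ht ht1 hv hv1 hvt h1 with e' | e' | e' | e'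
        · exact absurd (by calc v = (g : G)⁻¹ * ((g : G) * v * (g : G)⁻¹) * g := by group
            _ = 1 := by rw [e']; group) hv1
        · exact absurd (by calc v = (g : G)⁻¹ * ((g : G) * v * (g : G)⁻¹) * g := by group
            _ = (g : G)⁻¹ * (t * g) := by rw [e']; group
            _ = t := by rw [← hgt]; group) hvt
        · exact Or.inl e'
        · exact Or.inr e'
      have h2 : π g * V * (π g)⁻¹ = V := by
        rw [hVdef, ← map_inv, ← map_mul, ← map_mul]
        rcases hcases with e' | e'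
        · exact congrArg π (Subtype.ext e')
        · rw [show g * ⟨v, hVC v hv⟩ * g⁻¹ =
              (⟨v, hVC v hv⟩ * ⟨t, hVC t ht⟩ : centralizer ({t} : Set G)) from Subtype.ext e',
            map_mul, (hker ⟨t, hVC t ht⟩).2 (Or.inr rfl), mul_one]
      exact mul_inv_eq_iff_eq_mul.1 h2
  have hCcard : 2 * Nat.card (centralizer ({V} : Set X)) = (4 * c + 3) * (4 * c + 2) * 4 := by
    have h1 := card_map_mul π ((centralizer ({V} : Set X)).comap π)
    rw [map_comap_eq_self_of_surjective hπ, inf_eq_right.2 (MonoidHom.ker_le_comap π _), hkc,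
      hcomap, Nat.card_congr (subgroupOfEquivOfLe (show cn t x y ≤ centralizer ({t} : Set G) from inf_le_left)).toEquiv,
      h.card_cn hxy ht ht1, hkdef, show 4 * c + 3 - 1 = 4 * c + 2 by omega] at h1
    rw [← h1, mul_comm]
  rw [hC] at hCcard
  have hdf : d * f = (4 * c + 3) * (2 * c + 1) := by
    have : 8 * (d * f) = 8 * ((4 * c + 3) * (2 * c + 1)) := by
      calc 8 * (d * f) = 2 * (4 * d * f) := by ring
        _ = _ := by rw [hCcard]; ring
    omega
  have hdodd : Odd d := by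
    have : Odd (d * f) := by rw [hdf]; exact Odd.mul ⟨2 * c + 1, by ring⟩ ⟨c, rfl⟩
    exact (Nat.odd_mul.1 this).1
  have hR : R + 2 = 8 * ((4 * c + 3) * (4 * c + 3)) := by
    have h2' : (4 * c + 3) * (2 * c + 1) * (2 * R) =
        (4 * c + 3) * (2 * c + 1) * (4 * ((8 * c + 5) * (8 * c + 7))) := by
      calc (4 * c + 3) * (2 * c + 1) * (2 * R) = 2 * d * R * f := by rw [← hdf]; ring
        _ = 4 * w := by rw [← hX, hX4]
        _ = _ := by rw [hwval]; ring
    have h3 := Nat.eq_of_mul_eq_mul_left (by positivity) h2'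
    have h4 : R = 2 * ((8 * c + 5) * (8 * c + 7)) := by omega
    rw [h4]; ring
  refine arith_psl_four hsh hd (by omega : 3 ≤ 4 * c + 3) hdodd hR ?_
  rw [show 4 * c + 3 - 1 = 2 * (2 * c + 1) by omega]
  exact ⟨2 * f, by rw [show d * (2 * f) = 2 * (d * f) by ring, hdf]; ring⟩

end Hyp

end CfsgLib.TwoPointAltFour
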