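import Cfsg.Agent.TwoPointAltFour.OddSix

/-!
# Odd degree, six exchanging involutions: the alternating group of degree seven
-/

set_option autoImplicit false
set_option linter.unusedSectionVars false
set_option linter.style.haveILetI false

universe u v

namespace CfsgLib.TwoPointAltFour

open MulAction Subgroup

theorem card_involutions_alt_seven :
    Nat.card {g : alternatingGroup (Fin 7) // g * g = 1 ∧ g ≠ 1} = 105 := by
  classical
  haveI : Fact (Nat.Prime 2) := ⟨Nat.prime_two⟩
  have key : ∀ g : alternatingGroup (Fin 7),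
      (g * g = 1 ∧ g ≠ 1) ↔ (g : Equiv.Perm (Fin 7)).cycleType = {2, 2} := by
    intro g
    constructor
    · rintro ⟨h2, h1⟩
      have ho : orderOf (g : Equiv.Perm (Fin 7)) = 2 :=
        orderOf_eq_prime (by rw [pow_two]; exact congrArg Subtype.val h2)
          (fun e => h1 (Subtype.ext e))
      obtain ⟨n, hn⟩ := Equiv.Perm.cycleType_prime_order (by rw [ho]; exact Nat.prime_two)
      rw [ho] at hn
      have hsum := Equiv.Perm.sum_cycleType (g : Equiv.Perm (Fin 7))
      have hle : (g : Equiv.Perm (Fin 7)).support.card ≤ 7 := by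
        simpa using Finset.card_le_univ (g : Equiv.Perm (Fin 7)).support
      rw [hn, Multiset.sum_replicate, smul_eq_mul] at hsum
      have hsign : Equiv.Perm.sign (g : Equiv.Perm (Fin 7)) = 1 := Equiv.Perm.mem_alternatingGroup.1 g.2
      rw [Equiv.Perm.sign_of_cycleType, hn, Multiset.sum_replicate, Multiset.card_replicate,
        smul_eq_mul] at hsign
      rw [hn]
      have hn2 : n ≤ 2 := by omega
      interval_cases n
      · exact absurd hsign (by decide)
      · rfl
      · exact absurd hsign (by decide)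
    · intro h
      have h2 : orderOf (g : Equiv.Perm (Fin 7)) = 2 := by
        rw [← Equiv.Perm.lcm_cycleType, h]; rfl
      refine ⟨Subtype.ext ?_, fun e => ?_⟩
      · have := pow_orderOf_eq_one (g : Equiv.Perm (Fin 7))
        rw [h2, pow_two] at this
        exact this
      · rw [e] at h2; simp at h2
  rw [Nat.card_congr (Equiv.subtypeEquivRight key), Nat.card_eq_fintype_card, Fintype.card_subtype,
    AlternatingGroup.card_of_cycleType]
  decide

theorem arith_psl_six {i d R : ℕ} (hi : Odd i) (hi2 : 2 ≤ i) {q : ℕ} (hsh : Shape q d R) (hd : 0 < d)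
    (hR : R + 6 = 24 * (i * i)) (hdd : d ∣ i * (i - 1)) : False := by
  obtain ⟨s, hs⟩ := hsh.exists_eq_add_two hd
  have h16 : (d : ℤ) ∣ 16 := by
    have hA : (d : ℤ) ∣ 24 * ((i : ℤ) * i) - 8 := ⟨s, by
      have : (R : ℤ) + 6 = 24 * ((i : ℤ) * i) := by exact_mod_cast hR
      have hs' : (R : ℤ) = d * s + 2 := by exact_mod_cast hs
      linarith⟩
    have hB : (d : ℤ) ∣ (i : ℤ) * ((i : ℤ) - 1) := by
      have : ((i * (i - 1) : ℕ) : ℤ) = (i : ℤ) * ((i : ℤ) - 1) := by
        rw [Nat.cast_mul, Nat.cast_sub (by omega), Nat.cast_one]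
      rw [← this]
      exact_mod_cast hdd
    have hC : (d : ℤ) ∣ 24 * (i : ℤ) - 8 := by
      have := dvd_sub hA (hB.mul_left 24)
      ring_nf at this ⊢
      exact this
    have hD : (d : ℤ) ∣ 8 * (i : ℤ) - 8 := by
      have := dvd_sub (dvd_sub hA (hC.mul_left (i : ℤ))) (dvd_zero (d : ℤ))
      ring_nf at this ⊢
      exact this
    have := dvd_sub hC (hD.mul_left 3)
    ring_nf at this ⊢
    exact this
  have h16' : d ∣ 16 := by exact_mod_cast h16
  have hd16 : d ≤ 16 := Nat.le_of_dvd (by norm_num) h16'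
  have hi16 : i ≤ 16 := by
    by_contra hlt
    have h1 : R ≤ 4290 := by
      rcases hsh with ⟨hq, rfl⟩ | ⟨hq, rfl⟩
      · exact le_trans (Nat.mul_le_mul (show q ≤ 63 by omega) (show q - 1 ≤ 62 by omega)) (by norm_num)
      · exact le_trans (Nat.mul_le_mul (show q ≤ 65 by omega) (show q + 1 ≤ 66 by omega)) (by norm_num)
    nlinarith
  obtain ⟨a, rfl⟩ := hi
  have ha : a ≤ 7 := by omega
  rcases hsh with ⟨hq, rfl⟩ | ⟨hq, rfl⟩
  · obtain rfl : q = 4 * d - 1 := by omega
    interval_cases a <;> interval_cases d <;> first | omega | norm_num at h16' | norm_num at hdd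
  · subst hq
    interval_cases a <;> interval_cases d <;> first | omega | norm_num at h16' | norm_num at hdd

namespace Hyp

variable {G : Type u} [Group G] [Finite G] {Ω : Type v} [Finite Ω] [MulAction G Ω] [FaithfulSMul G Ω]
variable (h : Hyp G Ω) (hn : Odd (Nat.card Ω)) {x y : Ω} (hxy : x ≠ y) (hS : CaseS G x y)
include h hn hxy hS

theorem oddSix_conclusion : Nat.card Ω = 15 ∧ Nonempty (G ≃* alternatingGroup (Fin 7)) := by
  haveI : Fact (Nat.Prime 2) := ⟨Nat.prime_two⟩
  obtain ⟨t, ht, ht1⟩ := h.exists_ne_one hxy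
  have htT := h.isT_of_mem hxy ht ht1
  have ht2 := ((h.mem_four hxy).1 ht).2.2
  obtain ⟨h1, -⟩ := h.numbers_caseS hxy ht ht1 hS
  obtain ⟨hi, -⟩ := h.odd_i_caseS hn hxy hS ht ht1
  have hi2 := h.mem_fx_ncard htT
  have hlt := h.ncard_fx_lt htT
  obtain ⟨i, hidef⟩ : ∃ i, (fx t : Set Ω).ncard = i := ⟨_, rfl⟩
  rw [hidef] at h1 hi hi2 hlt
  obtain ⟨j, rfl⟩ : ∃ j, i = j + 1 := ⟨i - 1, by omega⟩
  rw [Nat.add_sub_cancel] at h1
  have hn' : Nat.card Ω = (j + 1) * (2 * j + 1) := by
    have : Nat.card Ω = j + 1 + 2 * ((j + 1) * j) := by omega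
    rw [this]; ring
  have hG : Nat.card G = ((j + 1) * j) * (12 * ((2 * j + 1) * (2 * j + 3))) := by
    rw [h.card_group hxy, hn', show (j + 1) * (2 * j + 1) - 1 = j * (2 * j + 3) by
      have : (j + 1) * (2 * j + 1) = j * (2 * j + 3) + 1 := by ring
      omega]
    ring
  have hCt : Nat.card (centralizer ({t} : Set G)) = (j + 1) * j * 4 := by
    rw [h.card_centralizer htT, hidef, Nat.add_sub_cancel]
  have hj : 2 ≤ j := by obtain ⟨a, ha⟩ := hi; omega
  have hpp : ¬ IsPrimePow (Nat.card Ω) := by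
    rw [hn']
    refine not_isPrimePow_mul ?_ (by omega) (by omega)
    have e : Nat.gcd (j + 1) (2 * j + 1) ∣ 1 := by
      have h1' := Nat.gcd_dvd_left (j + 1) (2 * j + 1)
      have h2' := Nat.gcd_dvd_right (j + 1) (2 * j + 1)
      have := Nat.dvd_sub (h1'.mul_left 2) h2'
      rwa [show 2 * (j + 1) - (2 * j + 1) = 1 by omega] at this
    exact Nat.dvd_one.1 e
  have hO : Cfsg.oddCore G = ⊥ :=
    odd_normal_eq_bot h.trans (h.two_le_card hxy) hpp _ Inv54.odd_card_oddCore
  have hbig : 24 < Nat.card G := by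
    rw [hG]
    calc 24 < 2 * 1 * (12 * (3 * 5)) := by norm_num
      _ ≤ _ := by gcongr <;> omega
  rcases known_cases (h.dihType hn hxy hS ht ht1) hO with h2 | e | e | ⟨L, hLn, hL⟩
  · exfalso
    obtain ⟨r, hrx, hry, hr3, hr1⟩ := h.exists_three hxy
    obtain ⟨b, hb⟩ := h2 r
    refine hr1 ?_
    have hcop : Nat.Coprime 3 (2 ^ b) := Nat.Coprime.pow_right b (by norm_num)
    have hd1 := orderOf_dvd_of_pow_eq_one hr3
    have hd2 := orderOf_dvd_of_pow_eq_one hb
    have := Nat.dvd_gcd hd1 hd2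
    rw [hcop] at this
    exact orderOf_eq_one_iff.1 (Nat.dvd_one.1 this)
  · omega
  · omega
  haveI := hLn
  -- `t` lies in `L`
  have hL2 : 2 ∣ Nat.card L := by
    rcases hL with ⟨F, iF, iFt, hF, hF3, ⟨e⟩⟩ | ⟨⟨e⟩⟩
    · letI := iF
      letI := iFt
      obtain ⟨a, ha⟩ := hF
      have hc : 2 * Nat.card L = Fintype.card F * (Fintype.card F ^ 2 - 1) := by
        rw [Nat.card_congr e.toEquiv]; exact Linear.card_PSL_two_odd ⟨a, ha⟩
      obtain ⟨b, hb⟩ := Nat.even_mul_succ_self a
      rw [ha, show (2 * a + 1) ^ 2 - 1 = 8 * b by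
        rw [show (2 * a + 1) ^ 2 = 4 * (a * (a + 1)) + 1 by ring, hb]; omega,
        show (2 * a + 1) * (8 * b) = 2 * (2 * (2 * (2 * a + 1) * b)) by ring] at hc
      exact ⟨2 * (2 * a + 1) * b, by omega⟩
    · rw [Nat.card_congr e.toEquiv, nat_card_alternatingGroup, Nat.card_eq_fintype_card,
        Fintype.card_fin]
      decide
  obtain ⟨u, hu⟩ := exists_prime_orderOf_dvd_card' 2 hL2
  have hu2 : (u : G) * u = 1 := by
    rw [← pow_two, ← hu, ← Subgroup.orderOf_coe]; exact pow_orderOf_eq_one _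
  have hu1 : (u : G) ≠ 1 := fun e => by rw [← Subgroup.orderOf_coe, e, orderOf_one] at hu; omega
  have hall : ∀ g : G, g * g = 1 → g ≠ 1 → g ∈ L := fun g hg hg1 => by
    obtain ⟨k, hk⟩ := h.exists_conj_isT (h.isT_of_caseS hxy hS hu2 hu1) (h.isT_of_caseS hxy hS hg hg1)
    rw [← hk]
    exact hLn.conj_mem _ u.2 k
  rcases hL with ⟨F, iF, iFt, hF, hF3, ⟨e⟩⟩ | ⟨⟨e⟩⟩
  · exfalso
    letI := iF
    letI := iFt
    obtain ⟨q, d, R, f, hsh, hd, hC, hX⟩ := psl_class_data F hF e (hall t ht2 ht1) ht2 ht1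
    rw [hCt] at hC
    rw [hG] at hX
    have hdf : (j + 1) * j = d * f := Nat.eq_of_mul_eq_mul_right (by norm_num : 0 < 4) (hC.trans (by ring))
    have hR : R + 6 = 24 * ((j + 1) * (j + 1)) := by
      have h2 : (j + 1) * j * (12 * ((2 * j + 1) * (2 * j + 3))) = (j + 1) * j * (2 * R) := by
        rw [hX, hdf]; ring
      have h3 := Nat.eq_of_mul_eq_mul_left (by positivity) h2
      have h4 : R = 6 * ((2 * j + 1) * (2 * j + 3)) := by omega
      rw [h4]; ring
    exact arith_psl_six hi hi2 hsh hd hR (by rw [Nat.add_sub_cancel]; exact ⟨f, hdf⟩)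
  · -- count the involutions
    have hinv : {g : G | IsT Ω g} = {g : G | g * g = 1 ∧ g ≠ 1} := Set.ext fun g =>
      ⟨fun hg => ⟨hg.1, hg.2.1⟩, fun hg => h.isT_of_caseS hxy hS hg.1 hg.2⟩
    have hN : {g : G | IsT Ω g}.ncard = 105 := by
      rw [hinv, ← Nat.card_coe_set_eq, ← card_involutions_alt_seven]
      exact Nat.card_congr
        { toFun := fun g => ⟨e ⟨g.1, hall g.1 g.2.1 g.2.2⟩,
            by rw [← map_mul, ← map_one e]; exact congrArg e (Subtype.ext g.2.1),
            fun e' => g.2.2 (congrArg Subtype.val (e.injective (e'.trans (map_one e).symm)))⟩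
          invFun := fun a => ⟨((e.symm a.1 : L) : G), by
            refine ⟨?_, fun e' => a.2.2 ?_⟩
            · rw [← Subgroup.coe_mul, ← map_mul, a.2.1, map_one, Subgroup.coe_one]
            · rw [← e.apply_symm_apply a.1, show e.symm a.1 = 1 from Subtype.ext e', map_one]⟩
          left_inv := fun g => Subtype.ext (by simp)
          right_inv := fun a => Subtype.ext (by simp) }
    have hT := h.card_isT htT
    rw [hN, hidef, Nat.add_sub_cancel, hn', show (j + 1) * (2 * j + 1) - 1 = j * (2 * j + 3) by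
      have : (j + 1) * (2 * j + 1) = j * (2 * j + 3) + 1 := by ring
      omega] at hT
    have h35 : (2 * j + 1) * (2 * j + 3) = 35 := by
      refine Nat.eq_of_mul_eq_mul_left (show 0 < (j + 1) * j * 3 by positivity) ?_
      calc (j + 1) * j * 3 * ((2 * j + 1) * (2 * j + 3))
          = (j + 1) * (2 * j + 1) * (j * (2 * j + 3)) * 3 := by ring
        _ = (j + 1) * j * 3 * 35 := by rw [← hT]; ring
    obtain rfl : j = 2 := by
      rcases (by omega : j ≤ 2 ∨ 3 ≤ j) with h' | h'
      · omega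
      · nlinarith
    refine ⟨by rw [hn'], ?_⟩
    have hLtop : L = ⊤ := eq_top_of_card_eq L (by
      rw [hG, Nat.card_congr e.toEquiv, nat_card_alternatingGroup, Nat.card_eq_fintype_card,
        Fintype.card_fin]
      decide)
    exact ⟨((topEquiv (G := G)).symm.trans (MulEquiv.subgroupCongr hLtop.symm)).trans e⟩

end Hyp

end CfsgLib.TwoPointAltFour
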