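import Cfsg.Agent.TwoPointAltFour.SixteenNormal

/-!
# Degree sixteen: the affine group of the plane over the field with four elements
-/

set_option autoImplicit false
set_option linter.unusedSectionVars false
set_option linter.style.haveILetI false

universe u v

namespace CfsgLib.TwoPointAltFour

open MulAction Subgroup

/-- The order of the affine group of the plane over a finite field. -/
theorem card_affine_le (F : Type) [Field F] [Fintype F] (hF : Fintype.card F = 4) :
    Nat.card ((Fin 2 → F) ≃ᵃ[F] (Fin 2 → F)) ≤ 2880 ∧ Finite ((Fin 2 → F) ≃ᵃ[F] (Fin 2 → F)) := by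
  classical
  let f : ((Fin 2 → F) ≃ᵃ[F] (Fin 2 → F)) → (Fin 2 → F) × ((Fin 2 → F) ≃ₗ[F] (Fin 2 → F)) :=
    fun a => (a 0, a.linear)
  have hf : Function.Injective f := by
    intro a b e
    have h0 : a 0 = b 0 := congrArg Prod.fst e
    have h1 : a.linear = b.linear := congrArg Prod.snd e
    refine AffineEquiv.toEquiv_injective (Equiv.ext fun z => ?_)
    have ha := a.map_vadd 0 z
    have hb := b.map_vadd 0 z
    simp only [vadd_eq_add, add_zero] at ha hb
    show a z = b z
    rw [ha, hb, h0, h1]
  let g : GL (Fin 2) F ≃ ((Fin 2 → F) ≃ₗ[F] (Fin 2 → F)) :=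
    (Matrix.GeneralLinearGroup.toLin.trans
      (LinearMap.GeneralLinearGroup.generalLinearEquiv F (Fin 2 → F))).toEquiv
  haveI : Finite ((Fin 2 → F) ≃ₗ[F] (Fin 2 → F)) := Finite.of_equiv _ g
  refine ⟨?_, Finite.of_injective f hf⟩
  refine le_trans (Nat.card_le_card_of_injective f hf) ?_
  rw [Nat.card_prod, Nat.card_congr g.symm, Matrix.card_GL_field, Fin.prod_univ_two,
    Nat.card_fun, Nat.card_eq_fintype_card (α := F), hF, Nat.card_fin]
  norm_num

/-- The field with four elements. -/
theorem exists_field_four : ∃ (F : Type) (_ : Field F) (_ : Fintype F), Fintype.card F = 4 ∧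
    ∃ u : F, u ≠ 0 ∧ u ≠ 1 ∧ u * u = u + 1 ∧ (1 : F) + 1 = 0 ∧
      ∀ c : F, c = 0 ∨ c = 1 ∨ c = u ∨ c = u + 1 := by
  classical
  haveI : Fact (Nat.Prime 2) := ⟨Nat.prime_two⟩
  letI := Fintype.ofFinite (GaloisField 2 2)
  have hcard : Fintype.card (GaloisField 2 2) = 4 := by
    rw [← Nat.card_eq_fintype_card, GaloisField.card 2 2 two_ne_zero]; norm_num
  refine ⟨GaloisField 2 2, inferInstance, inferInstance, hcard, ?_⟩
  obtain ⟨u, hu0, hu1⟩ : ∃ u : GaloisField 2 2, u ≠ 0 ∧ u ≠ 1 := by
    by_contra hc
    push Not at hc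
    have : (Finset.univ : Finset (GaloisField 2 2)) ⊆ {0, 1} := fun c _ => by
      by_cases h : c = 0
      · simp [h]
      · simp [hc c h]
    have := Finset.card_le_card this
    rw [Finset.card_univ, hcard] at this
    have := Finset.card_le_two (a := (0 : GaloisField 2 2)) (b := 1)
    omega
  have h2 : (1 : GaloisField 2 2) + 1 = 0 := CharTwo.add_self_eq_zero 1
  have h3 : u ^ 3 = 1 := by
    have := FiniteField.pow_card_sub_one_eq_one u hu0
    rwa [hcard] at this
  have huu : u * u = u + 1 := by
    have h4 : (u + 1) * (u * u + u + 1) = 0 := by linear_combination h3 + (u * u + u + 1) * h2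
    rcases mul_eq_zero.1 h4 with e | e
    · exact absurd (by linear_combination e - h2) hu1
    · linear_combination e - (u + 1) * h2
  refine ⟨u, hu0, hu1, huu, h2, fun c => ?_⟩
  by_contra hc
  push Not at hc
  have hsub : ({c, 0, 1, u, u + 1} : Finset (GaloisField 2 2)) ⊆ Finset.univ := Finset.subset_univ _
  have := Finset.card_le_card hsub
  have e1 : u + 1 ≠ 0 := fun e => hu1 (by linear_combination e - h2)
  have e2 : u + 1 ≠ 1 := fun e => hu0 (by linear_combination e)
  have e3 : u + 1 ≠ u := fun e => one_ne_zero (α := GaloisField 2 2) (by linear_combination e)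
  rw [Finset.card_univ, hcard, Finset.card_insert_of_notMem, Finset.card_insert_of_notMem,
    Finset.card_insert_of_notMem, Finset.card_pair e3.symm] at this
  · omega
  · simp [Ne.symm hu1, e2.symm]
  · simp [Ne.symm hu0, e1.symm]
  · simp [hc.1, hc.2.1, hc.2.2.1, hc.2.2.2]

variable {G : Type u} [Group G] [Finite G] {Ω : Type v} [Finite Ω] [MulAction G Ω] [FaithfulSMul G Ω]

theorem Sixteen.equiv_affine (hs : Sixteen G Ω) :
    ∃ (F : Type) (_ : Field F) (_ : Fintype F), Fintype.card F = 4 ∧
      Nonempty (G ≃* ((Fin 2 → F) ≃ᵃ[F] (Fin 2 → F))) := by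
  classical
  obtain ⟨F, iF, iFt, hF, u, hu0, hu1, huu, h2, hall⟩ := exists_field_four
  letI := iF
  letI := iFt
  refine ⟨F, iF, iFt, hF, ?_⟩
  obtain ⟨E, hEn, hsq, hfree, hEc⟩ := hs.exists_translations
  haveI := hEn
  obtain ⟨p⟩ : Nonempty Ω := (Nat.card_pos_iff.1 (by rw [hs.card]; norm_num)).1
  obtain ⟨k, hk, hk1⟩ : ∃ k ∈ hs.hom p, k ≠ 1 := by
    by_contra hc
    push Not at hc
    have := hs.card_hom p
    rw [(Subgroup.eq_bot_iff_forall _).2 hc, card_bot] at this
    omega
  have hk3 : k ^ 3 = 1 := by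
    have h1 : (⟨k, hk⟩ : hs.hom p) ^ Nat.card (hs.hom p) = 1 := pow_card_eq_one'
    rw [hs.card_hom p] at h1
    exact congrArg Subtype.val h1
  have hcomm : ∀ a b : E, a * b = b * a := fun a b => Subtype.ext (by
    have hi : ∀ c : E, (c : G)⁻¹ = c := fun c => inv_eq_of_mul_eq_one_right (hsq c c.2)
    calc (a : G) * b = ((a : G) * b)⁻¹ := (hi (a * b)).symm
      _ = (b : G) * a := by rw [mul_inv_rev, hi a, hi b])
  letI cgE : CommGroup E := { (inferInstance : Group E) with mul_comm := hcomm }
  set w : E →* E := (MulAut.conjNormal k : MulAut E).toMonoidHom with hw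
  have hwv : ∀ a : E, (w a : G) = k * a * k⁻¹ := fun a => MulAut.conjNormal_apply k a
  have hw3 : ∀ a : E, w (w (w a)) = a := fun a => Subtype.ext (by
    rw [hwv, hwv, hwv]
    calc k * (k * (k * (a : G) * k⁻¹) * k⁻¹) * k⁻¹ = k ^ 3 * a * (k ^ 3)⁻¹ := by
          rw [show k ^ 3 = k * k * k by rw [pow_succ, pow_two]]; group
      _ = a := by rw [hk3]; group)
  have hw2 : ∀ a : E, w (w a) = a * w a := by
    intro a
    have hP : w (a * w a * w (w a)) = a * w a * w (w a) := by
      rw [map_mul, map_mul, hw3, mul_comm, ← mul_assoc]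
    set P := a * w a * w (w a) with hPdef
    have h1 : P = 1 := by
      by_contra hne
      have hne' : p ≠ (P : G) • p := fun e => hne (Subtype.ext (hfree _ P.2 p e.symm))
      refine hk1 (hs.not_mem_hom_of_three hne' hk ?_)
      have e2 : k * (P : G) = P * k := mul_inv_eq_iff_eq_mul.1 ((hwv P).symm.trans (congrArg Subtype.val hP))
      rw [← mul_smul, e2, mul_smul, show k • p = p from hk.2]
    have h3 : a * w a * (a * w a) = 1 := Subtype.ext (hsq _ (a * w a).2)
    exact (mul_left_cancel (a := a * w a) (h3.trans h1.symm)).symm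
  -- the module
  set W : Additive E →+ Additive E := MonoidHom.toAdditive w with hW
  have hW2 : ∀ a : Additive E, W (W a) = a + W a := fun a => hw2 a.toMul
  have hA2 : ∀ a : Additive E, a + a = 0 := fun a => show a.toMul * a.toMul = 1 from
    Subtype.ext (hsq _ a.toMul.2)
  have hA2' : ∀ a b : Additive E, a + (a + b) = b := fun a b => by rw [← add_assoc, hA2, zero_add]
  let m : F → Additive E → Additive E := fun c a =>
    if c = 0 then 0 else if c = 1 then a else if c = u then W a else a + W a
  have e1 : u + 1 ≠ 0 := fun e => hu1 (by linear_combination e - h2)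
  have e2 : u + 1 ≠ 1 := fun e => hu0 (by linear_combination e)
  have e3 : u + 1 ≠ u := fun e => one_ne_zero (α := F) (by linear_combination e)
  have m0 : ∀ a, m 0 a = 0 := fun a => if_pos rfl
  have m1 : ∀ a, m 1 a = a := fun a => by simp [m]
  have mu : ∀ a, m u a = W a := fun a => by simp [m, hu0, hu1]
  have mu1 : ∀ a, m (u + 1) a = a + W a := fun a => by simp [m, e1, e2, e3]
  have s1 : u + u = 0 := by linear_combination u * h2
  have s2 : (1 : F) + u = u + 1 := add_comm _ _
  have s3 : u + 1 + u = 1 := by linear_combination u * h2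
  have s4 : u + (u + 1) = 1 := by linear_combination u * h2
  have s5 : u + 1 + 1 = u := by linear_combination h2
  have s6 : 1 + (u + 1) = u := by linear_combination h2
  have s7 : u + 1 + (u + 1) = 0 := by linear_combination (u + 1) * h2
  have p1 : u * (u + 1) = 1 := by linear_combination huu + u * h2
  have p2 : (u + 1) * u = 1 := by linear_combination huu + u * h2
  have p3 : (u + 1) * (u + 1) = u := by linear_combination huu + (u + 1) * h2
  letI mod : Module F (Additive E) :=
    { smul := m
      one_smul := m1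
      mul_smul := fun c d a => by
        show m (c * d) a = m c (m d a)
        rcases hall c with rfl | rfl | rfl | rfl <;> rcases hall d with rfl | rfl | rfl | rfl <;>
          simp only [zero_mul, mul_zero, one_mul, mul_one, huu, p1, p2, p3, m0, m1, mu, mu1] <;>
          simp [hW2, hA2, hA2', map_add, add_assoc, add_comm, add_left_comm]
      smul_zero := fun c => by
        show m c 0 = 0
        rcases hall c with rfl | rfl | rfl | rfl <;> simp [m0, m1, mu, mu1]
      smul_add := fun c a b => by
        show m c (a + b) = m c a + m c b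
        rcases hall c with rfl | rfl | rfl | rfl <;>
          simp [m0, m1, mu, mu1, map_add, add_assoc, add_left_comm]
      add_smul := fun c d a => by
        show m (c + d) a = m c a + m d a
        rcases hall c with rfl | rfl | rfl | rfl <;> rcases hall d with rfl | rfl | rfl | rfl <;>
          simp only [zero_add, add_zero, h2, s1, s2, s3, s4, s5, s6, s7, m0, m1, mu, mu1] <;>
          simp [hA2, hA2', add_assoc, add_comm, add_left_comm]
      zero_smul := m0 }
  haveI : Finite (Additive E) := Finite.of_equiv E Additive.ofMul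
  haveI : Module.Finite F (Additive E) := Module.Finite.of_finite
  have hr : Module.finrank F (Additive E) = 2 := by
    have h := Module.natCard_eq_pow_finrank (K := F) (V := Additive E)
    rw [show Nat.card (Additive E) = Nat.card E from Nat.card_congr Additive.toMul, hEc,
      Nat.card_eq_fintype_card, hF] at h
    exact (Nat.pow_right_injective (le_refl 2 |>.trans (by norm_num : 2 ≤ 4))
      (h.symm.trans (by norm_num : (16 : ℕ) = 4 ^ 2)))
  let L : Additive E ≃ₗ[F] (Fin 2 → F) := LinearEquiv.ofFinrankEq _ _ (by rw [hr, Module.finrank_fin_fun])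
  -- the points
  have hbij : Function.Bijective fun e : E => (e : G) • p := by
    refine (Nat.bijective_iff_injective_and_card _).2 ⟨fun e e' he => ?_, by rw [hEc, hs.card]⟩
    have h1 : ((e'⁻¹ * e : E) : G) • p = p := by
      simp only [Subgroup.coe_mul, Subgroup.coe_inv, mul_smul]
      rw [inv_smul_eq_iff]
      exact he
    exact (inv_mul_eq_one.1 (Subtype.ext (hfree _ (e'⁻¹ * e).2 p h1))).symm
  let ι : Ω ≃ (Fin 2 → F) := (Equiv.ofBijective _ hbij).symm.trans (Additive.ofMul.trans L.toEquiv)
  have hι : ∀ e : E, ι ((e : G) • p) = L (Additive.ofMul e) := fun e => by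
    show L (Additive.ofMul ((Equiv.ofBijective _ hbij).symm _)) = _
    rw [Equiv.ofBijective_symm_apply_apply (fun e : E => (e : G) • p) hbij e]
  have hιadd : ∀ (e : E) (z : Ω), ι ((e : G) • z) = L (Additive.ofMul e) + ι z := by
    intro e z
    obtain ⟨b, rfl⟩ := hbij.2 z
    show ι ((e : G) • (b : G) • p) = L (Additive.ofMul e) + ι ((b : G) • p)
    rw [← mul_smul, ← Subgroup.coe_mul, hι, hι, ofMul_mul, map_add]
  -- conjugation is linear
  have hWc : ∀ (g : G) (a : E), MulAut.conjNormal g (w a) = w (MulAut.conjNormal g a) := by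
    intro g a
    obtain ⟨e, he⟩ := hbij.2 (g • p)
    set h' := (e : G)⁻¹ * g with hh'
    have hh : h' • p = p := by
      rw [hh', mul_smul, inv_smul_eq_iff]
      exact he.symm
    have hg : g = (e : G) * h' := by rw [hh', mul_inv_cancel_left]
    have hkc := hs.hom_comm hh hk
    have hcomm' : ∀ c : E, (e : G) * c * (e : G)⁻¹ = c := fun c => by
      have := congrArg Subtype.val (hcomm e c)
      rw [show (e : G) * c = c * e from this, mul_inv_cancel_right]
    have ha' : h' * (a : G) * h'⁻¹ ∈ E := hEn.conj_mem _ a.2 h'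
    refine Subtype.ext ?_
    rw [MulAut.conjNormal_apply, hwv, hwv, MulAut.conjNormal_apply, hg]
    have r1 : k * (h' * (a : G) * h'⁻¹) * k⁻¹ ∈ E := hEn.conj_mem _ ha' k
    calc (e : G) * h' * (k * a * k⁻¹) * ((e : G) * h')⁻¹
        = (e : G) * ((h' * k) * a * (h' * k)⁻¹) * (e : G)⁻¹ := by group
      _ = (e : G) * (k * (h' * a * h'⁻¹) * k⁻¹) * (e : G)⁻¹ := by rw [hkc]; group
      _ = k * (h' * a * h'⁻¹) * k⁻¹ := hcomm' ⟨_, r1⟩
      _ = k * ((e : G) * (h' * a * h'⁻¹) * (e : G)⁻¹) * k⁻¹ := by rw [hcomm' ⟨_, ha'⟩]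
      _ = _ := by group
  let C : G → (Additive E ≃+ Additive E) := fun g => MulEquiv.toAdditive (MulAut.conjNormal g : MulAut E)
  have hCW : ∀ g a, C g (W a) = W (C g a) := fun g a => congrArg Additive.ofMul (hWc g a.toMul)
  let Cl : G → (Additive E ≃ₗ[F] Additive E) := fun g =>
    { C g with
      map_smul' := fun c a => by
        show C g (m c a) = m c (C g a)
        rcases hall c with rfl | rfl | rfl | rfl <;> simp only [m0, m1, mu, mu1] <;>
          simp [hCW, map_add] }
  let φ : G → ((Fin 2 → F) ≃ᵃ[F] (Fin 2 → F)) := fun g =>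
    { toEquiv := ι.permCongr (MulAction.toPerm g)
      linear := (L.symm.trans (Cl g)).trans L
      map_vadd' := fun z v => by
        show ι (g • ι.symm (v + z)) = L (C g (L.symm v)) + ι (g • ι.symm z)
        obtain ⟨a, rfl⟩ : ∃ a : E, L (Additive.ofMul a) = v :=
          ⟨(L.symm v).toMul, L.apply_symm_apply v⟩
        rw [show ι.symm (L (Additive.ofMul a) + z) = (a : G) • ι.symm z from
          ι.injective (by rw [ι.apply_symm_apply, hιadd, ι.apply_symm_apply]), L.symm_apply_apply]
        have hmove : g • (a : G) • ι.symm z =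
            ((MulAut.conjNormal g a : E) : G) • g • ι.symm z := by
          rw [MulAut.conjNormal_apply, ← mul_smul, ← mul_smul, inv_mul_cancel_right]
        rw [hmove, hιadd]
        rfl }
  let Φ : G →* ((Fin 2 → F) ≃ᵃ[F] (Fin 2 → F)) :=
    MonoidHom.mk' φ fun g g' => AffineEquiv.toEquiv_injective (Equiv.ext fun z => by
      show ι ((g * g') • ι.symm z) = ι (g • ι.symm (ι (g' • ι.symm z)))
      rw [ι.symm_apply_apply, mul_smul])
  have hΦ : Function.Injective Φ := by
    intro g g' e
    refine eq_of_smul_eq_smul (α := Ω) fun z => ?_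
    have h1 : ι (g • ι.symm (ι z)) = ι (g' • ι.symm (ι z)) :=
      congrArg (fun f : (Fin 2 → F) ≃ᵃ[F] (Fin 2 → F) => f (ι z)) e
    rw [ι.symm_apply_apply] at h1
    exact ι.injective h1
  obtain ⟨hle, hfin⟩ := card_affine_le F hF
  haveI := hfin
  obtain ⟨q, hq⟩ := hs.exists_ne p
  have hG : Nat.card G = 2880 := by rw [hs.hyp.card_group hq, hs.card]
  exact ⟨MulEquiv.ofBijective Φ ((Nat.bijective_iff_injective_and_card Φ).2
    ⟨hΦ, le_antisymm (Nat.card_le_card_of_injective Φ hΦ) (hG.symm ▸ hle)⟩)⟩

end CfsgLib.TwoPointAltFour
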