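import Cfsg.Agent.TwoPointAltFour.EvenNumbers

/-!
# Degree twenty-eight is impossible
-/

set_option autoImplicit false
set_option linter.unusedSectionVars false
set_option linter.style.haveILetI false

universe u v

namespace CfsgLib.TwoPointAltFour

open MulAction Subgroup

variable {G : Type u} [Group G] [Finite G] {Ω : Type v} [Finite Ω] [MulAction G Ω]

/-- An element of prime order permuting a set fixes its cardinality modulo the prime. -/
theorem ncard_modEq_fixed {p : ℕ} [Fact p.Prime] {g : G} (hg : g ^ p = 1) (F : Set Ω)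
    (hF : ∀ z ∈ F, g • z ∈ F) : F.ncard ≡ {z | z ∈ F ∧ g • z = z}.ncard [MOD p] := by
  have hpow : ∀ (i : ℕ), ∀ z ∈ F, g ^ i • z ∈ F := fun i => by
    induction i with
    | zero => exact fun z hz => by rw [pow_zero, one_smul]; exact hz
    | succ i ih => exact fun z hz => by rw [pow_succ', mul_smul]; exact hF _ (ih z hz)
  let S : SubMulAction (zpowers g) Ω := ⟨F, fun {k} {z} hz => by
    obtain ⟨i, hi⟩ := mem_powers_iff_mem_zpowers.2 k.2
    show (k : G) • z ∈ F
    rw [← show g ^ i = (k : G) from hi]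
    exact hpow i z hz⟩
  have hp : IsPGroup p (zpowers g) := by
    rintro ⟨k, hk⟩
    obtain ⟨i, rfl⟩ := hk
    refine ⟨1, Subtype.ext ?_⟩
    show (g ^ i) ^ p ^ 1 = 1
    rw [pow_one, ← zpow_natCast (g ^ i), ← zpow_mul, mul_comm, zpow_mul, zpow_natCast, hg, one_zpow]
  have h1 := hp.card_modEq_card_fixedPoints (α := S)
  rw [show Nat.card S = F.ncard from Nat.card_coe_set_eq F] at h1
  convert h1 using 1
  rw [← Nat.card_coe_set_eq]
  exact Nat.card_congr
    { toFun := fun z => ⟨⟨z.1, z.2.1⟩, fun k => Subtype.ext (by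
        obtain ⟨i, hi⟩ := mem_powers_iff_mem_zpowers.2 k.2
        show (k : G) • z.1 = z.1
        rw [← show g ^ i = (k : G) from hi]
        clear hi
        induction i with
        | zero => rw [pow_zero, one_smul]
        | succ i ih => rw [pow_succ', mul_smul, ih, z.2.2])⟩
      invFun := fun z => ⟨z.1.1, z.1.2, congrArg Subtype.val (z.2 ⟨g, mem_zpowers g⟩)⟩
      left_inv := fun _ => rfl
      right_inv := fun _ => rfl }

namespace Hyp

variable [FaithfulSMul G Ω]
variable (h : Hyp G Ω) {x y : Ω} (hxy : x ≠ y) (hn : Nat.card Ω = 28)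
include h hxy hn

omit hxy in
theorem twentyEight_kernel {p q : Ω} (hpq : p ≠ q) :
    CaseS G p q ∧ (∀ t ∈ four G p q, t ≠ 1 → (fx t : Set Ω).ncard = 4) ∧
      ∃ π : stabilizer G p →* alternatingGroup (Fin 4), Function.Surjective π ∧
        Odd (Nat.card π.ker) := by
  rcases h.even_survivors hpq (by rw [hn]; decide) with e | ⟨-, e⟩ | ⟨e, -⟩
  · omega
  · exact e
  · omega

/-- An element of order three fixing two points does not fix exactly seven. -/
theorem ncard_fx_ne_seven {g : G} (hgx : g • x = x) (hgy : g • y = y) :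
    (fx g : Set Ω).ncard ≠ 7 := by
  intro h7
  obtain ⟨-, -, π, hπ, hodd⟩ := h.twentyEight_kernel hn hxy
  set O := π.ker with hO
  have hOcard : Nat.card O = 27 := by
    have h1 := O.card_mul_index
    rw [hO, index_ker, MonoidHom.range_eq_top.2 hπ, card_top, alt_four_card, h.card_stabilizer hxy,
      hn] at h1
    rw [hO]
    omega
  have hint : ∀ o ∈ O, (o : G) • y = y → o = 1 := by
    intro o ho hoy
    obtain ⟨t, ht, ht1⟩ := h.exists_ne_one hxy
    have ht' := (h.mem_four hxy).1 ht
    have ho3 : (o : G) ^ 3 = 1 := by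
      rcases h.exp_two_or_three hxy o.2 hoy with e | e
      · have h2 : (⟨o, ho⟩ : O) = 1 := by
          have hd : orderOf (⟨o, ho⟩ : O) ∣ 2 := orderOf_dvd_of_pow_eq_one (by
            rw [pow_two]; exact Subtype.ext (Subtype.ext e))
          have hd' : orderOf (⟨o, ho⟩ : O) ∣ Nat.card O := orderOf_dvd_natCard _
          rw [← orderOf_eq_one_iff]
          exact Nat.dvd_one.1 (by
            have := Nat.dvd_gcd hd hd'
            rwa [hOcard, show Nat.gcd 2 27 = 1 by decide] at this)
        have h3 : (o : G) = 1 := congrArg (fun w : O => ((w : ↥(stabilizer G x)) : G)) h2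
        rw [h3, one_pow]
      · exact e
    -- the commutator with `t` lies in the four-group and in the kernel
    have hcm : (⟨t, ht'.1⟩ : ↥(stabilizer G x)) * o * (⟨t, ht'.1⟩ : ↥(stabilizer G x))⁻¹ * o⁻¹ ∈ O :=
      mul_mem ((MonoidHom.normal_ker π).conj_mem o ho _) (inv_mem ho)
    have htT : t * (o : G) * t⁻¹ * (o : G)⁻¹ ∈ four G x y := by
      have hoi : ∀ z : Ω, (o : G) • z = z → (o : G)⁻¹ • z = z := fun z hz => by
        rw [inv_smul_eq_iff, hz]
      have h1 : (o : G) * t⁻¹ * (o : G)⁻¹ ∈ four G x y := by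
        have h2 : (o : G) * t⁻¹ * (o : G)⁻¹ ∈ four G ((o : G) • x) ((o : G) • y) := by
          rw [h.map_four hxy]
          simp [mul_assoc, ht]
        rwa [o.2, hoy] at h2
      have h3 := mul_mem ht h1
      simpa [mul_assoc] using h3
    have hone : t * (o : G) * t⁻¹ * (o : G)⁻¹ = 1 := by
      have h2 : (⟨_, hcm⟩ : O) = 1 := by
        have hd : orderOf (⟨_, hcm⟩ : O) ∣ 2 := orderOf_dvd_of_pow_eq_one (by
          rw [pow_two]; exact Subtype.ext (Subtype.ext ((h.mem_four hxy).1 htT).2.2))
        have hd' : orderOf (⟨_, hcm⟩ : O) ∣ Nat.card O := orderOf_dvd_natCard _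
        rw [← orderOf_eq_one_iff]
        exact Nat.dvd_one.1 (by
          have := Nat.dvd_gcd hd hd'
          rwa [hOcard, show Nat.gcd 2 27 = 1 by decide] at this)
      exact congrArg (fun w : O => ((w : ↥(stabilizer G x)) : G)) h2
    have hc : t * (o : G) = o * t := mul_inv_eq_iff_eq_mul.1 (mul_inv_eq_one.1 hone)
    have ho2 := h.sq_of_comm hxy ht'.1 ht'.2.1 o.2 hoy ht'.2.2 ht1 hc
    refine Subtype.ext ?_
    calc (o : G) = (o : G) ^ 3 * ((o : G) * (o : G))⁻¹ := by group
      _ = 1 := by rw [ho3, ho2, inv_one, one_mul]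
  -- the kernel is regular on the other points
  let f : O → {z : Ω // z ≠ x} := fun o => ⟨((o : ↥(stabilizer G x)) : G) • y, fun e => hxy (by
    have := congrArg (((o : ↥(stabilizer G x)) : G)⁻¹ • ·) e
    simp only [inv_smul_smul] at this
    rw [this, eq_inv_smul_iff]; exact (o : ↥(stabilizer G x)).2)⟩
  have hf : Function.Bijective f := by
    refine (Nat.bijective_iff_injective_and_card f).2 ⟨fun o o' e => ?_, ?_⟩
    · have e' : (((o'⁻¹ * o : O) : ↥(stabilizer G x)) : G) • y = y := by
        simp only [Subgroup.coe_mul, Subgroup.coe_inv, mul_smul]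
        rw [inv_smul_eq_iff]
        exact congrArg Subtype.val e
      have := hint _ (o'⁻¹ * o).2 e'
      exact (inv_mul_eq_one.1 (Subtype.ext this)).symm
    · rw [hOcard]
      have h1 : Nat.card {z : Ω // z ≠ x} = ({x}ᶜ : Set Ω).ncard := Nat.card_coe_set_eq _
      rw [h1, Set.ncard_compl, Set.ncard_singleton, hn]
  have hgi : g⁻¹ • y = y := by rw [inv_smul_eq_iff, hgy]
  have hcount : ((fx g : Set Ω) \ {x}).ncard = Nat.card (O ⊓ centralizer ({⟨g, hgx⟩} : Set ↥(stabilizer G x)) : Subgroup ↥(stabilizer G x)) := by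
    rw [← Nat.card_coe_set_eq]
    let F : ↥(O ⊓ centralizer ({⟨g, hgx⟩} : Set ↥(stabilizer G x)) : Subgroup ↥(stabilizer G x)) →
        ↥((fx g : Set Ω) \ {x}) := fun o => ⟨(f ⟨o.1, o.2.1⟩).1, by
      have hc : g * ((o.1 : ↥(stabilizer G x)) : G) = ((o.1 : ↥(stabilizer G x)) : G) * g :=
        (congrArg Subtype.val (mem_centralizer_singleton_iff.1 o.2.2)).symm
      show g • ((o.1 : ↥(stabilizer G x)) : G) • y = ((o.1 : ↥(stabilizer G x)) : G) • y
      rw [← mul_smul, hc, mul_smul, hgy], (f ⟨o.1, o.2.1⟩).2⟩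
    refine (Nat.card_congr (Equiv.ofBijective F ⟨?_, ?_⟩)).symm
    · intro o o' e
      have e' : f ⟨o.1, o.2.1⟩ = f ⟨o'.1, o'.2.1⟩ := Subtype.ext (congrArg (fun z => (z.1 : Ω)) e)
      exact Subtype.ext (congrArg (fun w : O => (w : ↥(stabilizer G x))) (hf.1 e'))
    · rintro ⟨z, hz, hzx⟩
      obtain ⟨o, ho⟩ := hf.2 ⟨z, hzx⟩
      have hzo : ((o : ↥(stabilizer G x)) : G) • y = z := congrArg Subtype.val ho
      let o' : O := ⟨⟨g, hgx⟩ * o * ⟨g, hgx⟩⁻¹, (MonoidHom.normal_ker π).conj_mem _ o.2 _⟩
      have e : f o' = f o := Subtype.ext (by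
        show (g * ((o : ↥(stabilizer G x)) : G) * g⁻¹) • y = ((o : ↥(stabilizer G x)) : G) • y
        rw [mul_smul, mul_smul, hgi, hzo]
        exact hz)
      have := hf.1 e
      refine ⟨⟨(o : ↥(stabilizer G x)), o.2, mem_centralizer_singleton_iff.2 ?_⟩, Subtype.ext hzo⟩
      exact (mul_inv_eq_iff_eq_mul.1 (congrArg Subtype.val this)).symm
  have hd : ((fx g : Set Ω) \ {x}).ncard ∣ 27 := by
    rw [hcount, ← hOcard]
    exact card_dvd_of_le inf_le_left
  rw [Set.ncard_sdiff (by simpa [mem_fx] using hgx), h7, Set.ncard_singleton] at hd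
  omega

theorem not_twentyEight : False := by
  have h72 : Nat.card G = 9072 := by rw [h.card_group hxy, hn]
  haveI : Fact (Nat.Prime 7) := ⟨by norm_num⟩
  haveI : Fact (Nat.Prime 3) := ⟨Nat.prime_three⟩
  haveI : Fact (Nat.Prime 2) := ⟨Nat.prime_two⟩
  obtain ⟨s, hs⟩ := exists_prime_orderOf_dvd_card' 7 (by rw [h72]; norm_num : 7 ∣ Nat.card G)
  have hs7 : s ^ 7 = 1 := by rw [← hs]; exact pow_orderOf_eq_one s
  have hfree : ∀ z : Ω, s • z ≠ z := by
    intro z hz
    have h1 := ncard_modEq_fixed (p := 7) hs7 (Set.univ : Set Ω) (fun _ _ => trivial)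
    rw [Set.ncard_univ, hn] at h1
    have h2 : 2 ≤ {z : Ω | z ∈ Set.univ ∧ s • z = z}.ncard := by
      have h3 : 0 < {z : Ω | z ∈ Set.univ ∧ s • z = z}.ncard :=
        (Set.ncard_pos (Set.toFinite _)).2 ⟨z, trivial, hz⟩
      unfold Nat.ModEq at h1
      omega
    obtain ⟨p, hp, q, hq, hpq⟩ := (Set.one_lt_ncard (Set.toFinite _)).1 h2
    rcases h.exp_two_or_three hpq hp.2 hq.2 with e | e
    · have := orderOf_dvd_of_pow_eq_one (n := 2) (show s ^ 2 = 1 by rw [pow_two, e])
      rw [hs] at this
      norm_num at this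
    · have := orderOf_dvd_of_pow_eq_one (n := 3) e
      rw [hs] at this
      norm_num at this
  have hinv : ∀ g : G, g * s = s * g → (fx g : Set Ω).ncard % 7 = 0 := by
    intro g hg
    have h1 := ncard_modEq_fixed (p := 7) hs7 (fx g : Set Ω) (fun z hz => smul_mem_fx hg.symm hz)
    rw [show {z : Ω | z ∈ (fx g : Set Ω) ∧ s • z = z} = ∅ from
      Set.eq_empty_of_forall_notMem fun z hz => hfree z hz.2, Set.ncard_empty] at h1
    exact h1
  have hC : Nat.card (centralizer ({s} : Set G)) = 7 := by
    have hd : Nat.card (centralizer ({s} : Set G)) ∣ 7 * 1296 := by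
      rw [show 7 * 1296 = 9072 by norm_num, ← h72]; exact card_subgroup_dvd_card _
    have h2 : ¬ 2 ∣ Nat.card (centralizer ({s} : Set G)) := by
      intro hh
      obtain ⟨u, hu⟩ := exists_prime_orderOf_dvd_card' 2 hh
      have hu2 : (u : G) * u = 1 := by
        rw [← pow_two, ← hu, ← Subgroup.orderOf_coe]; exact pow_orderOf_eq_one _
      have hu1 : (u : G) ≠ 1 := fun e => by
        rw [← Subgroup.orderOf_coe, e, orderOf_one] at hu; omega
      obtain ⟨hS, h4, -⟩ := h.twentyEight_kernel hn hxy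
      obtain ⟨-, -, p, q, hpq, hp, hq⟩ := h.isT_of_caseS hxy hS hu2 hu1
      obtain ⟨-, h4', -⟩ := h.twentyEight_kernel hn hpq
      have e4 := h4' u ((h.mem_four hpq).2 ⟨hp, hq, hu2⟩) hu1
      have e7 := hinv u (mem_centralizer_singleton_iff.1 u.2)
      omega
    have h3 : ¬ 3 ∣ Nat.card (centralizer ({s} : Set G)) := by
      intro hh
      obtain ⟨u, hu⟩ := exists_prime_orderOf_dvd_card' 3 hh
      have hu3 : (u : G) ^ 3 = 1 := by
        rw [← hu, ← Subgroup.orderOf_coe]; exact pow_orderOf_eq_one _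
      have h1 := ncard_modEq_fixed (p := 3) hu3 (Set.univ : Set Ω) (fun _ _ => trivial)
      rw [Set.ncard_univ, hn, show {z : Ω | z ∈ Set.univ ∧ (u : G) • z = z} = (fx (u : G) : Set Ω) by
        ext z; simp [mem_fx]] at h1
      have e7 := hinv u (mem_centralizer_singleton_iff.1 u.2)
      have hle : (fx (u : G) : Set Ω).ncard < 28 := by
        rw [← hn, ← Set.ncard_univ]
        refine Set.ncard_lt_ncard ((Set.ssubset_univ_iff).2 fun e => ?_) (Set.toFinite _)
        have : (u : G) = 1 := eq_of_smul_eq_smul (α := Ω) fun z => by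
          rw [one_smul]; exact (Set.eq_univ_iff_forall.1 e z : z ∈ fx (u : G))
        rw [← Subgroup.orderOf_coe, this, orderOf_one] at hu
        omega
      unfold Nat.ModEq at h1
      have hseven : (fx (u : G) : Set Ω).ncard = 7 := by omega
      obtain ⟨p, hp, q, hq, hpq⟩ := (Set.one_lt_ncard (Set.toFinite _)).1
        (by omega : 1 < (fx (u : G) : Set Ω).ncard)
      exact h.ncard_fx_ne_seven hpq hn hp hq hseven
    have hcop : (Nat.card (centralizer ({s} : Set G))).Coprime 1296 := by
      have c2 := ((Nat.prime_two.coprime_iff_not_dvd).2 h2).symm.pow_right 4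
      have c3 := ((Nat.prime_three.coprime_iff_not_dvd).2 h3).symm.pow_right 4
      rw [show 1296 = 2 ^ 4 * 3 ^ 4 by norm_num]
      exact Nat.Coprime.mul_right c2 c3
    have hd7 := hcop.dvd_of_dvd_mul_right hd
    rcases (Nat.dvd_prime (by norm_num : Nat.Prime 7)).1 hd7 with e | e
    · exfalso
      have hmem : s ∈ centralizer ({s} : Set G) := mem_centralizer_singleton_iff.2 rfl
      rw [card_eq_one.1 e, mem_bot] at hmem
      rw [hmem, orderOf_one] at hs
      omega
    · exact e
  have hPC : zpowers s = centralizer ({s} : Set G) :=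
    eq_of_le_of_card_ge (zpowers_le.2 (mem_centralizer_singleton_iff.2 rfl))
      (by rw [hC, Nat.card_zpowers, hs])
  have hmult : Nat.card (zpowers s) = 7 ^ (Nat.card G).factorization 7 := by
    rw [Nat.card_zpowers, hs, h72]
    have : (9072 : ℕ).factorization 7 = 1 := by
      refine le_antisymm ?_ ((Nat.Prime.factorization_pos_of_dvd (by norm_num) (by norm_num) (by norm_num)))
      by_contra hc
      have h49 : 7 ^ 2 ∣ 9072 :=
        (Nat.Prime.pow_dvd_iff_le_factorization (by norm_num) (by norm_num)).2 (by omega)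
      norm_num at h49
    rw [this, pow_one]
  let P : Sylow 7 G := Sylow.ofCard (zpowers s) hmult
  have hP : (P : Subgroup G) = zpowers s := Sylow.coe_ofCard _ hmult
  have hN : Nat.card (normalizer ((P : Subgroup G) : Set G)) = 7 := by
    set H : Subgroup G := (P : Subgroup G) with hH
    have hH7 : Nat.card H = 7 := by rw [hP, Nat.card_zpowers, hs]
    haveI : IsCyclic H := by
      refine isCyclic_of_prime_card (p := 7) hH7
    have hCH : centralizer (H : Set G) = zpowers s := by
      refine le_antisymm ?_ ?_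
      · rw [hPC]
        exact centralizer_le (by rw [hP]; simpa using mem_zpowers s)
      · rw [hP]
        intro g hg
        obtain ⟨i, rfl⟩ := hg
        refine mem_centralizer_iff.2 ?_
        rintro w ⟨j, rfl⟩
        exact ((Commute.refl s).zpow_zpow j i).eq
    have h1 := H.normalizerMonoidHom.ker.card_mul_index
    rw [index_ker, normalizerMonoidHom_ker,
      Nat.card_congr (subgroupOfEquivOfLe (centralizer_le_normalizer _)).toEquiv, hCH,
      Nat.card_zpowers, hs] at h1
    have h2 : Nat.card H.normalizerMonoidHom.range ∣ 6 := by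
      have := card_subgroup_dvd_card H.normalizerMonoidHom.range
      rwa [IsCyclic.card_mulAut, hH7, Nat.totient_prime (by norm_num : Nat.Prime 7)] at this
    have h3 := (normalizer (H : Set G)).card_mul_index
    rw [h72, ← h1] at h3
    have h4 : (normalizer (H : Set G)).index % 7 = 1 := by
      have := card_sylow_modEq_one 7 G
      rw [Sylow.card_eq_index_normalizer P] at this
      exact this
    have hle : Nat.card H.normalizerMonoidHom.range ≤ 6 := Nat.le_of_dvd (by norm_num) h2
    rw [← h1]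
    interval_cases Nat.card H.normalizerMonoidHom.range <;> omega
  have hNP : normalizer ((P : Subgroup G) : Set G) ≤ centralizer ((P : Subgroup G) : Set G) := by
    have e : (P : Subgroup G) = normalizer ((P : Subgroup G) : Set G) :=
      eq_of_le_of_card_ge le_normalizer (by rw [hN, hP, Nat.card_zpowers, hs])
    rw [← e, hP]
    intro g hg
    obtain ⟨i, rfl⟩ := hg
    refine mem_centralizer_iff.2 ?_
    rintro w ⟨j, rfl⟩
    exact ((Commute.refl s).zpow_zpow j i).eq
  have hK := MonoidHom.ker_transferSylow_isComplement' P hNP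
  set K := (MonoidHom.transferSylow P hNP).ker with hKdef
  have hK1 : Nat.card K = 1296 := by
    have := hK.card_mul_card
    rw [h72, hP, Nat.card_zpowers, hs] at this
    omega
  obtain ⟨k, hk, hk1⟩ : ∃ k ∈ K, k ≠ 1 := by
    by_contra hc
    push Not at hc
    rw [(Subgroup.eq_bot_iff_forall _).2 hc, card_bot] at hK1
    omega
  obtain ⟨p, hp⟩ : ∃ p : Ω, k • p ≠ p := by
    by_contra hc
    push Not at hc
    exact hk1 (eq_of_smul_eq_smul (α := Ω) fun z => by rw [hc z, one_smul])
  have horb : orbit K p = Set.univ := by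
    refine Set.eq_univ_iff_forall.2 fun w => ?_
    by_cases hw : w = p
    · rw [hw]; exact mem_orbit_self p
    obtain ⟨g, e1, e2⟩ := h.exists_smul hp.symm (Ne.symm hw)
    exact ⟨⟨g * k * g⁻¹, (MonoidHom.normal_ker _).conj_mem k hk g⟩, by
      show (g * k * g⁻¹) • p = w
      rw [mul_smul, mul_smul, show g⁻¹ • p = p by rw [inv_smul_eq_iff, e1], e2]⟩
  have h1 := (stabilizer K p).card_mul_index
  rw [index_stabilizer, horb, Set.ncard_univ, hn, hK1] at h1
  omega

end Hyp

end CfsgLib.TwoPointAltFour
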