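import Cfsg.Agent.TwoPointAltFour.SwapInv

/-!
# The two cases and the basic equations
-/

set_option autoImplicit false
set_option linter.unusedSectionVars false
set_option linter.style.haveILetI false

namespace CfsgLib.TwoPointAltFour

open MulAction Subgroup

variable {G : Type*} [Group G] {Ω : Type*} [MulAction G Ω]

/-- Some exchanging involution centralises the pair stabiliser. -/
def CaseA (G : Type*) [Group G] {Ω : Type*} [MulAction G Ω] (x y : Ω) : Prop :=
  ∃ z ∈ Swap G x y, (∀ g : G, g • x = x → g • y = y → z * g = g * z) ∧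
    Swap G x y = (z * ·) '' (four G x y : Set G)

/-- Six exchanging involutions, conjugate under the pair stabiliser. -/
def CaseS (G : Type*) [Group G] {Ω : Type*} [MulAction G Ω] (x y : Ω) : Prop :=
  (Swap G x y).ncard = 6 ∧
    (∀ c ∈ Swap G x y, ∀ c' ∈ Swap G x y, ∃ g : G, g • x = x ∧ g • y = y ∧ g * c * g⁻¹ = c') ∧
    ∀ t ∈ four G x y, t ≠ 1 → ∃ w ∈ Swap G x y, w * t = t * w ∧ w * t ∈ Swap G x y ∧
      (∀ c ∈ Swap G x y, c * t = t * c → c = w ∨ c = w * t) ∧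
      (∀ v ∈ four G x y, w * v = v * w → v = 1 ∨ v = t)

/-- The involutions commuting with `t` which share two fixed points with it. -/
def DSet (Ω : Type*) [MulAction G Ω] (t : G) : Set G :=
  {v | v * v = 1 ∧ v ≠ 1 ∧ v ≠ t ∧ v * t = t * v ∧
    ∃ x y : Ω, x ≠ y ∧ t • x = x ∧ t • y = y ∧ v • x = x ∧ v • y = y}

namespace Hyp

variable (h : Hyp G Ω)
include h

theorem caseA_or_caseS [Finite G] {x y : Ω} (hxy : x ≠ y) : CaseA G x y ∨ CaseS G x y := by
  obtain ⟨r, w, hrx, hry, hr, hr1, hw, hwr⟩ := h.exists_swap hxy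
  rcases hwr with hwr | hwr
  · exact Or.inl ⟨w, hw, h.central_of_comm hxy hrx hry hr hr1 hw (mul_inv_eq_iff_eq_mul.1 hwr)⟩
  obtain ⟨t₀, ht₀, ht₀1, hwt₀⟩ := h.exists_fixed_involution hxy hrx hry hr hr1 hw hwr
  obtain ⟨h1, h2⟩ := h.swap_inverting hxy hrx hry hr hr1 hw hwr ht₀ ht₀1 hwt₀
  refine Or.inr ⟨h.ncard_swap_inverting hxy hrx hry hr hr1 hw hwr ht₀ ht₀1 hwt₀,
    fun c hc c' hc' => ?_, fun t ht ht1 => ?_⟩
  · obtain ⟨k, hkx, hky, rfl⟩ := h1 c hc
    obtain ⟨l, hlx, hly, rfl⟩ := h1 c' hc'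
    have hki : ∀ z : Ω, k • z = z → k⁻¹ • z = z := fun z hz => by rw [inv_smul_eq_iff, hz]
    exact ⟨l * k⁻¹, by rw [mul_smul, hki x hkx, hlx], by rw [mul_smul, hki y hky, hly], by group⟩
  · have ht' := (h.mem_four hxy).1 ht
    have ht₀' := (h.mem_four hxy).1 ht₀
    obtain ⟨g, hgx, hgy, -, hg⟩ := h.exists_conj hxy ht₀'.1 ht₀'.2.1 ht'.1 ht'.2.1 ht₀'.2.2 ht₀1
      ht'.2.2 ht1
    have hgi : ∀ z : Ω, g • z = z → g⁻¹ • z = z := fun z hz => by rw [inv_smul_eq_iff, hz]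
    have hsw : g * w * g⁻¹ ∈ Swap G x y := by
      have := h.swap_conj (g := g) hw
      rwa [hgx, hgy] at this
    have hcomm : g * w * g⁻¹ * t = t * (g * w * g⁻¹) := by
      rw [← hg, show g * w * g⁻¹ * (g * t₀ * g⁻¹) = g * (w * t₀ * w⁻¹ * w) * g⁻¹ by group, hwt₀]
      group
    refine ⟨_, hsw, hcomm, ⟨?_, ?_, ?_⟩, fun c hc hct => ?_, fun v hv hvc => ?_⟩
    · rw [mul_smul, ht'.1, hsw.1]
    · rw [mul_smul, ht'.2.1, hsw.2.1]
    · calc g * w * g⁻¹ * t * (g * w * g⁻¹ * t)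
          = g * w * g⁻¹ * (t * (g * w * g⁻¹)) * t := by group
        _ = g * w * g⁻¹ * (g * w * g⁻¹) * (t * t) := by rw [← hcomm]; group
        _ = 1 := by rw [hsw.2.2, ht'.2.2, one_mul]
    · -- `q = w' c` lies in the pair stabiliser and commutes with `t`
      set w' := g * w * g⁻¹ with hw'
      have hqx : (w' * c) • x = x := by rw [mul_smul, hc.1, hsw.2.1]
      have hqy : (w' * c) • y = y := by rw [mul_smul, hc.2.1, hsw.1]
      have hqt : t * (w' * c) = w' * c * t := by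
        calc t * (w' * c) = (t * w') * c := by group
          _ = w' * (t * c) := by rw [← hcomm]; group
          _ = w' * c * t := by rw [← hct]; group
      have hq2 := h.sq_of_comm hxy ht'.1 ht'.2.1 hqx hqy ht'.2.2 ht1 hqt
      have hfix : w * (g⁻¹ * (w' * c) * g) * w⁻¹ = g⁻¹ * (w' * c) * g := by
        have hwi' : w'⁻¹ = w' := inv_eq_of_mul_eq_one_right hsw.2.2
        have hqi : (w' * c)⁻¹ = w' * c := inv_eq_of_mul_eq_one_right hq2
        have e1 : w' * (w' * c) * w'⁻¹ = w' * c := by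
          calc w' * (w' * c) * w'⁻¹ = (w' * w') * (c * w'⁻¹) := by group
            _ = c⁻¹ * w'⁻¹ := by rw [hsw.2.2, one_mul, inv_eq_of_mul_eq_one_right hc.2.2]
            _ = w' * c := by rw [← mul_inv_rev, hqi]
        calc w * (g⁻¹ * (w' * c) * g) * w⁻¹ = g⁻¹ * (w' * (w' * c) * w'⁻¹) * g := by
              rw [hw']; group
          _ = _ := by rw [e1]
      have hgqx : (g⁻¹ * (w' * c) * g) • x = x := by rw [mul_smul, mul_smul, hgx, hqx, hgi x hgx]
      have hgqy : (g⁻¹ * (w' * c) * g) • y = y := by rw [mul_smul, mul_smul, hgy, hqy, hgi y hgy]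
      rcases h2 _ hgqx hgqy hfix with e | e
      · have hwc : w' * c = 1 := by
          calc w' * c = g * (g⁻¹ * (w' * c) * g) * g⁻¹ := by group
            _ = 1 := by rw [e]; group
        exact Or.inl (by rw [← eq_inv_of_mul_eq_one_right hwc |>.symm.trans rfl,
          inv_eq_of_mul_eq_one_right hsw.2.2])
      · have hwc : w' * c = t := by
          calc w' * c = g * (g⁻¹ * (w' * c) * g) * g⁻¹ := by group
            _ = t := by rw [e, hg]
        exact Or.inr (by rw [← hwc, ← mul_assoc, hsw.2.2, one_mul])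
    · have hv' := (h.mem_four hxy).1 hv
      have hvx : (g⁻¹ * v * g) • x = x := by rw [mul_smul, mul_smul, hgx, hv'.1, hgi x hgx]
      have hvy : (g⁻¹ * v * g) • y = y := by rw [mul_smul, mul_smul, hgy, hv'.2.1, hgi y hgy]
      have hfix : w * (g⁻¹ * v * g) * w⁻¹ = g⁻¹ * v * g := by
        calc w * (g⁻¹ * v * g) * w⁻¹ = g⁻¹ * (g * w * g⁻¹ * v) * g * w⁻¹ := by group
          _ = g⁻¹ * (v * (g * w * g⁻¹)) * g * w⁻¹ := by rw [hvc]
          _ = _ := by group
      rcases h2 _ hvx hvy hfix with e | e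
      · exact Or.inl (by calc v = g * (g⁻¹ * v * g) * g⁻¹ := by group
            _ = 1 := by rw [e]; group)
      · exact Or.inr (by calc v = g * (g⁻¹ * v * g) * g⁻¹ := by group
            _ = t := by rw [e, hg])

theorem ncard_swap_eq {x y x' y' : Ω} (hxy : x ≠ y) (hxy' : x' ≠ y') :
    (Swap G x' y').ncard = (Swap G x y).ncard := by
  obtain ⟨g, rfl, rfl⟩ := h.exists_smul hxy hxy'
  rw [← Nat.card_coe_set_eq, ← Nat.card_coe_set_eq]
  refine Nat.card_congr
    { toFun := fun c => ⟨g⁻¹ * c * g, by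
        have := h.swap_conj (g := g⁻¹) c.2
        rwa [inv_smul_smul, inv_smul_smul, inv_inv] at this⟩
      invFun := fun c => ⟨g * c * g⁻¹, h.swap_conj c.2⟩
      left_inv := fun c => Subtype.ext (by simp [mul_assoc])
      right_inv := fun c => Subtype.ext (by simp [mul_assoc]) }

theorem ncard_swap_caseA [Finite G] {x y : Ω} (hxy : x ≠ y) (hA : CaseA G x y) :
    (Swap G x y).ncard = 4 := by
  obtain ⟨z, -, -, hz⟩ := hA
  rw [hz, Set.ncard_image_of_injective _ (mul_right_injective z), ← Nat.card_coe_set_eq,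
    SetLike.coe_sort_coe, h.card_four hxy]

theorem caseA_iff [Finite G] {x y x' y' : Ω} (hxy : x ≠ y) (hxy' : x' ≠ y') (hA : CaseA G x y) :
    CaseA G x' y' :=
  (h.caseA_or_caseS hxy').resolve_right fun hS => by
    have := h.ncard_swap_eq hxy hxy'
    rw [hS.1, h.ncard_swap_caseA hxy hA] at this
    omega

theorem caseS_iff [Finite G] {x y x' y' : Ω} (hxy : x ≠ y) (hxy' : x' ≠ y') (hS : CaseS G x y) :
    CaseS G x' y' :=
  (h.caseA_or_caseS hxy').resolve_left fun hA => by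
    have := h.ncard_swap_eq hxy' hxy
    rw [hS.1, h.ncard_swap_caseA hxy' hA] at this
    omega

/-- The first equation. -/
theorem t_formula [Finite G] [Finite Ω] {t : G} (ht : IsT Ω t) {x y : Ω} (hxy : x ≠ y) :
    3 * (Nat.card Ω - (fx t : Set Ω).ncard) =
      {c ∈ Swap G x y | IsT Ω c}.ncard * ((fx t : Set Ω).ncard * ((fx t : Set Ω).ncard - 1)) := by
  have hs := count_swap h.pairTrans_top (C := {g : G | IsT Ω g})
    (fun g _ c hc => h.isT_conj hc g) (fun _ _ => trivial)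
    (fun c hc z _ => by rw [← mul_smul, hc.1, one_smul])
    (f := (fx t : Set Ω).ncard) (fun c hc => by
      rw [← h.ncard_fx_eq ht hc]
      congr 1
      ext z
      simp [fx])
    (Set.mem_univ x) (Set.mem_univ y) hxy (s := {c ∈ Swap G x y | IsT Ω c}.ncard) (by
      congr 1
      ext c
      exact ⟨fun hc => ⟨⟨hc.2.1, hc.2.2, hc.1.1⟩, hc.1⟩, fun hc => ⟨hc.2, hc.1.1, hc.1.2.1⟩⟩)
  have hT := h.card_isT ht
  rw [Set.ncard_univ] at hs
  have hn : 2 ≤ Nat.card Ω := by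
    rw [← Set.ncard_univ Ω, ← Set.ncard_pair hxy]
    exact Set.ncard_le_ncard (Set.subset_univ _) (Set.toFinite _)
  have hi : 2 ≤ (fx t : Set Ω).ncard := by
    obtain ⟨-, -, p, q, hpq, hp, hq⟩ := ht
    rw [← Set.ncard_pair hpq]
    refine Set.ncard_le_ncard ?_ (Set.toFinite _)
    rintro z (rfl | rfl)
    exacts [hp, hq]
  generalize hN : {g : G | IsT Ω g}.ncard = N at hs hT
  generalize hI : (fx t : Set Ω).ncard = i at hs hT hi ⊢
  generalize hS : {c ∈ Swap G x y | IsT Ω c}.ncard = s at hs ⊢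
  generalize hM : Nat.card Ω * (Nat.card Ω - 1) = M at hs hT
  have hM0 : 0 < M := hM ▸ Nat.mul_pos (by omega) (by omega)
  refine Nat.eq_of_mul_eq_mul_left hM0 ?_
  calc M * (3 * (Nat.card Ω - i)) = N * (Nat.card Ω - i) * (i * (i - 1)) := by
        rw [← mul_assoc, ← hT]; ring
    _ = M * (s * (i * (i - 1))) := by rw [hs]; ring

theorem mem_fx_ncard {t : G} [Finite Ω] (ht : IsT Ω t) : 2 ≤ (fx t : Set Ω).ncard := by
  obtain ⟨-, -, p, q, hpq, hp, hq⟩ := ht
  rw [← Set.ncard_pair hpq]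
  refine Set.ncard_le_ncard ?_ (Set.toFinite _)
  rintro z (rfl | rfl)
  exacts [hp, hq]

/-- `t` does not fix everything. -/
theorem ncard_fx_lt [Finite Ω] [FaithfulSMul G Ω] {t : G} (ht : IsT Ω t) :
    (fx t : Set Ω).ncard < Nat.card Ω := by
  rw [← Set.ncard_univ]
  refine Set.ncard_lt_ncard ((Set.ssubset_univ_iff).2 fun e => ht.2.1 ?_) (Set.toFinite _)
  refine eq_of_smul_eq_smul (α := Ω) fun z => ?_
  rw [one_smul]
  exact (Set.eq_univ_iff_forall.1 e z : z ∈ fx t)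

theorem exists_isT_swap [Finite G] [Finite Ω] [FaithfulSMul G Ω] {t : G} (ht : IsT Ω t) {x y : Ω}
    (hxy : x ≠ y) : ∃ c ∈ Swap G x y, IsT Ω c := by
  by_contra hc
  push Not at hc
  have := h.t_formula ht hxy
  rw [show {c ∈ Swap G x y | IsT Ω c} = ∅ from Set.eq_empty_of_forall_notMem fun c hc' =>
    hc c hc'.1 hc'.2, Set.ncard_empty, zero_mul] at this
  have := h.ncard_fx_lt ht
  omega

/-- In the six-involution case every involution fixes two points. -/
theorem isT_of_caseS [Finite G] [Finite Ω] [FaithfulSMul G Ω] {x y : Ω} (hxy : x ≠ y)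
    (hS : CaseS G x y) {g : G} (hg : g * g = 1) (hg1 : g ≠ 1) : IsT Ω g := by
  obtain ⟨z, hz⟩ : ∃ z : Ω, g • z ≠ z := by
    by_contra hc
    push Not at hc
    exact hg1 (eq_of_smul_eq_smul (α := Ω) fun z => by rw [hc z, one_smul])
  have hS' := h.caseS_iff hxy hz.symm hS
  obtain ⟨t, ht, ht1⟩ := h.exists_ne_one hxy
  obtain ⟨c, hc, hcT⟩ := h.exists_isT_swap (h.isT_of_mem hxy ht ht1) hz.symm
  obtain ⟨k, -, -, hk⟩ := hS'.2.1 c hc g ⟨rfl, by rw [← mul_smul, hg, one_smul], hg⟩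
  rw [← hk]
  exact h.isT_conj hcT k

theorem mem_DSet_iff {t v : G} {x y : Ω} (hxy : x ≠ y) (ht : t ∈ four G x y) (hv : v ∈ DSet Ω t)
    (hvx : v • x = x) (hvy : v • y = y) : v ∈ four G x y :=
  (h.mem_four hxy).2 ⟨hvx, hvy, hv.1⟩

theorem mul_mem_DSet {t v : G} (ht : t * t = 1) (ht1 : t ≠ 1) (hv : v ∈ DSet Ω t) :
    v * t ∈ DSet Ω t := by
  obtain ⟨h1, h2, h3, h4, x, y, hxy, htx, hty, hvx, hvy⟩ := hv
  refine ⟨?_, fun e => h3 ?_, fun e => h2 (by simpa using e), ?_, x, y, hxy, htx, hty,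
    by rw [mul_smul, htx, hvx], by rw [mul_smul, hty, hvy]⟩
  · calc v * t * (v * t) = v * (t * v) * t := by group
      _ = (v * v) * (t * t) := by rw [← h4]; group
      _ = 1 := by rw [h1, ht, one_mul]
  · rw [eq_inv_of_mul_eq_one_left e, inv_eq_of_mul_eq_one_right ht]
  · rw [mul_assoc, ht, mul_one, ← mul_assoc, ← h4, mul_assoc, ht, mul_one]

theorem DSet_conj {t : G} {g v : G} (hg : g * t = t * g) (hv : v ∈ DSet Ω t) :
    g * v * g⁻¹ ∈ DSet Ω t := by
  obtain ⟨h1, h2, h3, h4, x, y, hxy, htx, hty, hvx, hvy⟩ := hv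
  refine ⟨?_, fun e => h2 ?_, fun e => h3 ?_, ?_, g • x, g • y,
    fun e => hxy (smul_left_cancel g e), smul_mem_fx hg htx, smul_mem_fx hg hty,
    (fix_conj_iff g v x).1 hvx, (fix_conj_iff g v y).1 hvy⟩
  · calc g * v * g⁻¹ * (g * v * g⁻¹) = g * (v * v) * g⁻¹ := by group
      _ = 1 := by rw [h1]; group
  · calc v = g⁻¹ * (g * v * g⁻¹) * g := by group
      _ = 1 := by rw [e]; group
  · calc v = g⁻¹ * (g * v * g⁻¹) * g := by group
      _ = g⁻¹ * (t * g) := by rw [e]; group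
      _ = t := by rw [← hg]; group
  · calc g * v * g⁻¹ * t = g * v * (g⁻¹ * t * g) * g⁻¹ := by group
      _ = g * (v * t) * g⁻¹ := by rw [show g⁻¹ * t * g = t by rw [mul_assoc, ← hg]; group]; group
      _ = g * (t * v) * g⁻¹ := by rw [h4]
      _ = t * (g * v * g⁻¹) := by rw [← mul_assoc g, hg]; group

/-- The common fixed points of `t` and a member of `DSet t`. -/
theorem DSet_fx [Finite G] {t v : G} {x y : Ω} (hxy : x ≠ y) (ht : t ∈ four G x y) (ht1 : t ≠ 1)
    (hv : v ∈ DSet Ω t) (hvx : v • x = x) (hvy : v • y = y) :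
    {z | z ∈ (fx t : Set Ω) ∧ v • z = z} = fxFour G x y := by
  have hv4 := h.mem_DSet_iff hxy ht hv hvx hvy
  ext z
  refine ⟨fun hz g hg => ?_, fun hz => ⟨hz t ht, hz v hv4⟩⟩
  have hsub : ({1, t, v, v * t} : Set G) = (four G x y : Set G) := by
    refine Set.eq_of_subset_of_ncard_le ?_ ?_ (Set.toFinite _)
    · rintro g (rfl | rfl | rfl | rfl)
      exacts [one_mem _, ht, hv4, mul_mem hv4 ht]
    · rw [← Nat.card_coe_set_eq, SetLike.coe_sort_coe, h.card_four hxy]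
      have h1 := hv.2.1
      have h2 := hv.2.2.1
      have h3 : v * t ≠ t := fun e => h1 (by simpa using e)
      have h4 : v * t ≠ 1 := fun e => h2 (by
        rw [eq_inv_of_mul_eq_one_left e, inv_eq_of_mul_eq_one_right ((h.mem_four hxy).1 ht).2.2])
      have h5 : v * t ≠ v := fun e => ht1 (by simpa using e)
      rw [Set.ncard_insert_of_notMem, Set.ncard_insert_of_notMem, Set.ncard_pair h5.symm]
      · simp [h2.symm, h3.symm]
      · simp [ht1.symm, h1.symm, h4.symm]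
  have hg' : g ∈ ({1, t, v, v * t} : Set G) := by rw [hsub]; exact hg
  rcases hg' with rfl | rfl | rfl | rfl
  · exact one_smul G z
  · exact hz.1
  · exact hz.2
  · rw [mul_smul, hz.1, hz.2]

theorem fxFour_subset {x y : Ω} {t : G} (ht : t ∈ four G x y) :
    fxFour G x y ⊆ (fx t : Set Ω) := fun _ hz => hz t ht

/-- The second equation. -/
theorem d_formula [Finite G] [Finite Ω] {t : G} {x y : Ω} (hxy : x ≠ y) (ht : t ∈ four G x y)
    (ht1 : t ≠ 1) :
    2 * ((fx t : Set Ω).ncard - (fxFour G x y).ncard) =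
      {c ∈ Swap G x y | c ∈ DSet Ω t}.ncard *
        ((fxFour G x y).ncard * ((fxFour G x y).ncard - 1)) := by
  have htT := h.isT_of_mem hxy ht ht1
  have ht' := (h.mem_four hxy).1 ht
  have hA := h.pairTrans_centralizer htT
  have hinv : ConjInv (centralizer ({t} : Set G)) (DSet Ω t) := fun g hg v hv =>
    h.DSet_conj (mem_centralizer_singleton_iff.1 hg) hv
  have hfix : ∀ v ∈ DSet Ω t, {z | z ∈ (fx t : Set Ω) ∧ v • z = z}.ncard = (fxFour G x y).ncard := by
    intro v hv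
    obtain ⟨p, q, hpq, hp, hq, hvp, hvq⟩ := hv.2.2.2.2
    rw [h.DSet_fx hpq ((h.mem_four hpq).2 ⟨hp, hq, ht'.2.2⟩) ht1 hv hvp hvq]
    exact h.ncard_fxFour_eq hxy hpq
  have hm : {c ∈ DSet Ω t | c • x = x ∧ c • y = y} = (four G x y : Set G) \ {1, t} := by
    ext c
    rw [Set.mem_sdiff, SetLike.mem_coe, h.mem_four hxy]
    constructor
    · rintro ⟨hc, hcx, hcy⟩
      exact ⟨⟨hcx, hcy, hc.1⟩, by rintro (e | e); exacts [hc.2.1 e, hc.2.2.1 e]⟩
    · rintro ⟨⟨hcx, hcy, hc⟩, hne⟩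
      exact ⟨⟨hc, fun e => hne (Or.inl e), fun e => hne (Or.inr e),
        h.mul_self_comm hxy hcx hcy ht'.1 ht'.2.1 hc ht'.2.2, x, y, hxy, ht'.1, ht'.2.1, hcx, hcy⟩,
        hcx, hcy⟩
  have hm2 : {c ∈ DSet Ω t | c • x = x ∧ c • y = y}.ncard = 2 := by
    rw [hm, Set.ncard_sdiff (by intro g hg; rcases hg with rfl | rfl; exacts [one_mem _, ht]),
      Set.ncard_pair (Ne.symm ht1), ← Nat.card_coe_set_eq, SetLike.coe_sort_coe, h.card_four hxy]
  have h1 := count_fix hA hinv hfix ht'.1 ht'.2.1 hxy hm2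
  have h2 := count_swap hA hinv (fun v hv => mem_centralizer_singleton_iff.2 hv.2.2.2.1)
    (fun v hv z _ => by rw [← mul_smul, hv.1, one_smul]) hfix ht'.1 ht'.2.1 hxy
    (s := {c ∈ Swap G x y | c ∈ DSet Ω t}.ncard) (by
      congr 1
      ext c
      exact ⟨fun hc => ⟨⟨hc.2.1, hc.2.2, hc.1.1⟩, hc.1⟩, fun hc => ⟨hc.2, hc.1.1, hc.1.2.1⟩⟩)
  have hi := h.mem_fx_ncard htT
  generalize (DSet Ω t).ncard = N at h1 h2
  generalize (fxFour G x y).ncard = k at h1 h2 ⊢
  generalize (fx t : Set Ω).ncard = i at h1 h2 hi ⊢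
  generalize {c ∈ Swap G x y | c ∈ DSet Ω t}.ncard = s at h2 ⊢
  generalize hM : i * (i - 1) = M at h1 h2
  have hM0 : 0 < M := hM ▸ Nat.mul_pos (by omega) (by omega)
  refine Nat.eq_of_mul_eq_mul_left hM0 ?_
  calc M * (2 * (i - k)) = N * (i - k) * (k * (k - 1)) := by rw [← mul_assoc, ← h1]; ring
    _ = M * (s * (k * (k - 1))) := by rw [h2]; ring

end Hyp

end CfsgLib.TwoPointAltFour
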