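import Mathlib

/-!
# Counting in groups transitive on ordered pairs

Generic double counts: a group transitive on the ordered pairs of a finite set, and a conjugation
invariant finite set of elements with a constant number of fixed points.
-/

set_option autoImplicit false
set_option linter.unusedSectionVars false
set_option linter.style.haveILetI false

namespace CfsgLib.TwoPointAltFour

open MulAction

variable {G : Type*} [Group G] [Finite G] {Ω : Type*} [Finite Ω] [MulAction G Ω]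

/-- `A` preserves `F` and is transitive on the ordered pairs of distinct elements of `F`. -/
structure PairTrans (A : Subgroup G) (F : Set Ω) : Prop where
  mem : ∀ g ∈ A, ∀ x ∈ F, g • x ∈ F
  trans : ∀ x ∈ F, ∀ y ∈ F, x ≠ y → ∀ x' ∈ F, ∀ y' ∈ F, x' ≠ y' → ∃ g ∈ A, g • x = x' ∧ g • y = y'

variable {A : Subgroup G} {F : Set Ω}

theorem PairTrans.mem_iff (h : PairTrans A F) {g : G} (hg : g ∈ A) (x : Ω) :
    g • x ∈ F ↔ x ∈ F :=
  ⟨fun hx => by simpa using h.mem g⁻¹ (inv_mem hg) _ hx, h.mem g hg x⟩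

theorem PairTrans.trans_one (h : PairTrans A F) {x x' : Ω} (hx : x ∈ F) (hx' : x' ∈ F) :
    ∃ g ∈ A, g • x = x' := by
  by_cases he : ∀ y ∈ F, y = x
  · exact ⟨1, one_mem A, by rw [one_smul, he x' hx']⟩
  push Not at he
  obtain ⟨y, hy, hyx⟩ := he
  by_cases hxx : x' = x
  · exact ⟨1, one_mem A, by rw [one_smul, hxx]⟩
  obtain ⟨g, hg, hgx, -⟩ := h.trans x hx y hy hyx.symm x' hx' x hx hxx
  exact ⟨g, hg, hgx⟩

/-- The number of ordered pairs of distinct elements. -/
theorem card_pairs (F : Set Ω) :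
    Nat.card {p : Ω × Ω // p.1 ∈ F ∧ p.2 ∈ F ∧ p.1 ≠ p.2} = F.ncard * (F.ncard - 1) := by
  classical
  haveI := Fintype.ofFinite Ω
  let e : {p : Ω × Ω // p.1 ∈ F ∧ p.2 ∈ F ∧ p.1 ≠ p.2} ≃ {p : Ω × Ω // p ∈ F.toFinset.offDiag} :=
    Equiv.subtypeEquivRight fun p => by simp
  rw [Nat.card_congr e, Nat.card_eq_fintype_card, Fintype.card_coe, Finset.offDiag_card,
    Set.toFinset_card, ← Nat.card_eq_fintype_card, Nat.card_coe_set_eq, Nat.mul_sub, mul_one]

/-- The order of a group transitive on ordered pairs. -/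
theorem PairTrans.card_eq (h : PairTrans A F) {x y : Ω} (hx : x ∈ F) (hy : y ∈ F) (hxy : x ≠ y) :
    Nat.card A = F.ncard * (F.ncard - 1) *
      Nat.card (A ⊓ (stabilizer G x ⊓ stabilizer G y) : Subgroup G) := by
  classical
  let K : Subgroup A := stabilizer A (x, y)
  have horb : orbit A (x, y) = {p : Ω × Ω | p.1 ∈ F ∧ p.2 ∈ F ∧ p.1 ≠ p.2} := by
    ext p
    constructor
    · rintro ⟨g, rfl⟩
      exact ⟨h.mem _ g.2 x hx, h.mem _ g.2 y hy, fun e => hxy ((smul_left_cancel (g : G)) e)⟩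
    · rintro ⟨h1, h2, h3⟩
      obtain ⟨g, hg, e1, e2⟩ := h.trans x hx y hy hxy p.1 h1 p.2 h2 h3
      exact ⟨⟨g, hg⟩, Prod.ext e1 e2⟩
  have hc := K.card_mul_index
  rw [show K.index = (orbit A (x, y)).ncard from index_stabilizer A (x, y), horb,
    ← Nat.card_coe_set_eq] at hc
  rw [← hc, ← card_pairs F, mul_comm]
  congr 1
  exact Nat.card_congr
    { toFun := fun g => ⟨(g.1 : G), g.1.2, congrArg Prod.fst (mem_stabilizer_iff.1 g.2),
        congrArg Prod.snd (mem_stabilizer_iff.1 g.2)⟩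
      invFun := fun g => ⟨⟨g.1, g.2.1⟩, mem_stabilizer_iff.2
        (Prod.ext (mem_stabilizer_iff.1 g.2.2.1) (mem_stabilizer_iff.1 g.2.2.2))⟩
      left_inv := fun _ => rfl
      right_inv := fun _ => rfl }

theorem PairTrans.card_point (h : PairTrans A F) {x : Ω} (hx : x ∈ F) :
    Nat.card A = F.ncard * Nat.card (A ⊓ stabilizer G x : Subgroup G) := by
  classical
  let K : Subgroup A := stabilizer A x
  have horb : orbit A x = F := by
    ext p
    constructor
    · rintro ⟨g, rfl⟩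
      exact h.mem _ g.2 x hx
    · intro hp
      obtain ⟨g, hg, e⟩ := h.trans_one hx hp
      exact ⟨⟨g, hg⟩, e⟩
  have hc := K.card_mul_index
  rw [show K.index = (orbit A x).ncard from index_stabilizer A x, horb] at hc
  rw [← hc, mul_comm]
  congr 1
  exact Nat.card_congr
    { toFun := fun g => ⟨(g.1 : G), g.1.2, mem_stabilizer_iff.1 g.2⟩
      invFun := fun g => ⟨⟨g.1, g.2.1⟩, mem_stabilizer_iff.2 (mem_stabilizer_iff.1 g.2.2)⟩
      left_inv := fun _ => rfl
      right_inv := fun _ => rfl }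

/-- Double counting a finite relation with constant degrees. -/
theorem double_count {α β : Type*} [Finite α] [Finite β] (r : α → β → Prop) {m l : ℕ}
    (hm : ∀ a, {b | r a b}.ncard = m) (hl : ∀ b, {a | r a b}.ncard = l) :
    Nat.card α * m = Nat.card β * l := by
  classical
  haveI := Fintype.ofFinite α
  haveI := Fintype.ofFinite β
  rw [Nat.card_eq_fintype_card, Nat.card_eq_fintype_card]
  refine (Finset.card_mul_eq_card_mul r (s := Finset.univ) (t := Finset.univ) ?_ ?_)
  · intro a _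
    rw [← hm a, Set.ncard_eq_toFinset_card']
    congr 1
    ext b
    simp [Finset.bipartiteAbove]
  · intro b _
    rw [← hl b, Set.ncard_eq_toFinset_card']
    congr 1
    ext c
    simp [Finset.bipartiteBelow]

/-- A conjugation invariant subset of `A`. -/
def ConjInv (A : Subgroup G) (C : Set G) : Prop :=
  ∀ g ∈ A, ∀ c ∈ C, g * c * g⁻¹ ∈ C

/-- The elements of a conjugation invariant set with a property at a point are counted
independently of the point. -/
theorem ncard_congr_conj {C : Set G} (hC : ConjInv A C) {g : G} (hg : g ∈ A) (P Q : G → Prop)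
    (hPQ : ∀ c, P c ↔ Q (g * c * g⁻¹)) :
    {c ∈ C | P c}.ncard = {c ∈ C | Q c}.ncard := by
  rw [← Nat.card_coe_set_eq, ← Nat.card_coe_set_eq]
  refine Nat.card_congr
    { toFun := fun c => ⟨g * c * g⁻¹, hC g hg _ c.2.1, (hPQ _).1 c.2.2⟩
      invFun := fun c => ⟨g⁻¹ * c * g, by simpa using hC g⁻¹ (inv_mem hg) _ c.2.1,
        (hPQ _).2 (by simpa [mul_assoc] using c.2.2)⟩
      left_inv := fun c => Subtype.ext (by simp [mul_assoc])
      right_inv := fun c => Subtype.ext (by simp [mul_assoc]) }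

omit [Finite G] [Finite Ω] in
theorem swap_conj_iff (g c : G) (x y : Ω) :
    (c • x = y ∧ c • y = x) ↔
      ((g * c * g⁻¹) • (g • x) = g • y ∧ (g * c * g⁻¹) • (g • y) = g • x) := by
  simp [mul_smul]

omit [Finite G] [Finite Ω] in
theorem fix_conj_iff (g c : G) (x : Ω) : c • x = x ↔ (g * c * g⁻¹) • (g • x) = g • x := by
  simp [mul_smul]

theorem fix_set_conj (g c : G) (h : ∀ x, g • x ∈ F ↔ x ∈ F) :
    {x | x ∈ F ∧ (g * c * g⁻¹) • x = x}.ncard = {x | x ∈ F ∧ c • x = x}.ncard := by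
  rw [← Nat.card_coe_set_eq, ← Nat.card_coe_set_eq]
  refine Nat.card_congr
    { toFun := fun x => ⟨g⁻¹ • (x : Ω), (h _).1 (by rw [smul_inv_smul]; exact x.2.1), ?_⟩
      invFun := fun x => ⟨g • (x : Ω), (h _).2 x.2.1, (fix_conj_iff g c _).1 x.2.2⟩
      left_inv := fun x => Subtype.ext (smul_inv_smul g _)
      right_inv := fun x => Subtype.ext (inv_smul_smul g _) }
  refine (fix_conj_iff g c _).2 ?_
  rw [smul_inv_smul]
  exact x.2.2

/-- Counting the pairs exchanged by a class of involutory actions with `f` fixed points. -/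
theorem count_swap (hA : PairTrans A F) {C : Set G} (hC : ConjInv A C) (hCA : C ⊆ A)
    (hsq : ∀ c ∈ C, ∀ x ∈ F, c • c • x = x) {f : ℕ}
    (hf : ∀ c ∈ C, {x | x ∈ F ∧ c • x = x}.ncard = f) {x y : Ω} (hx : x ∈ F) (hy : y ∈ F)
    (hxy : x ≠ y) {s : ℕ} (hs : {c ∈ C | c • x = y ∧ c • y = x}.ncard = s) :
    C.ncard * (F.ncard - f) = F.ncard * (F.ncard - 1) * s := by
  have h := double_count (α := C) (β := {p : Ω × Ω // p.1 ∈ F ∧ p.2 ∈ F ∧ p.1 ≠ p.2})
    (fun c p => (c : G) • p.1.1 = p.1.2) (m := F.ncard - f) (l := s) ?_ ?_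
  · rwa [Nat.card_coe_set_eq, card_pairs] at h
  · intro c
    rw [← hf c c.2]
    have hsub : {x | x ∈ F ∧ (c : G) • x = x} ⊆ F := fun z hz => hz.1
    rw [← Set.ncard_sdiff hsub, ← Nat.card_coe_set_eq, ← Nat.card_coe_set_eq]
    refine Nat.card_congr
      { toFun := fun p => ⟨p.1.1.1, p.1.2.1, fun e => p.1.2.2.2 ?_⟩
        invFun := fun z => ⟨⟨(z.1, (c : G) • z.1), z.2.1, hA.mem _ (hCA c.2) _ z.2.1,
          fun e => z.2.2 ⟨z.2.1, e.symm⟩⟩, rfl⟩
        left_inv := fun p => Subtype.ext (Subtype.ext (Prod.ext rfl p.2))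
        right_inv := fun z => rfl }
    exact (e.2).symm.trans p.2
  · intro p
    obtain ⟨g, hg, e1, e2⟩ := hA.trans x hx y hy hxy p.1.1 p.2.1 p.1.2 p.2.2.1 p.2.2.2
    rw [← hs, ncard_congr_conj hC hg (fun c => c • x = y ∧ c • y = x)
      (fun c => c • p.1.1 = p.1.2 ∧ c • p.1.2 = p.1.1) (fun c => by
        rw [← e1, ← e2]; exact swap_conj_iff g c x y)]
    rw [← Nat.card_coe_set_eq, ← Nat.card_coe_set_eq]
    exact Nat.card_congr
      { toFun := fun c => ⟨c.1, c.1.2, c.2,
          (congrArg ((c.1 : G) • ·) (show (c.1 : G) • p.1.1 = p.1.2 from c.2)).symm.trans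
            (hsq _ c.1.2 _ p.2.1)⟩
        invFun := fun c => ⟨⟨c.1, c.2.1⟩, c.2.2.1⟩
        left_inv := fun _ => rfl
        right_inv := fun _ => rfl }

/-- Counting the pairs fixed by a class of elements with `f` fixed points. -/
theorem count_fix (hA : PairTrans A F) {C : Set G} (hC : ConjInv A C) {f : ℕ}
    (hf : ∀ c ∈ C, {x | x ∈ F ∧ c • x = x}.ncard = f) {x y : Ω} (hx : x ∈ F) (hy : y ∈ F)
    (hxy : x ≠ y) {m : ℕ} (hm : {c ∈ C | c • x = x ∧ c • y = y}.ncard = m) :
    C.ncard * (f * (f - 1)) = F.ncard * (F.ncard - 1) * m := by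
  have h := double_count (α := C) (β := {p : Ω × Ω // p.1 ∈ F ∧ p.2 ∈ F ∧ p.1 ≠ p.2})
    (fun c p => (c : G) • p.1.1 = p.1.1 ∧ (c : G) • p.1.2 = p.1.2) (m := f * (f - 1)) (l := m) ?_ ?_
  · rwa [Nat.card_coe_set_eq, card_pairs] at h
  · intro c
    rw [← hf c c.2, ← card_pairs, ← Nat.card_coe_set_eq]
    exact Nat.card_congr
      { toFun := fun p => ⟨p.1.1, ⟨p.1.2.1, p.2.1⟩, ⟨p.1.2.2.1, p.2.2⟩, p.1.2.2.2⟩
        invFun := fun p => ⟨⟨p.1, p.2.1.1, p.2.2.1.1, p.2.2.2⟩, p.2.1.2, p.2.2.1.2⟩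
        left_inv := fun _ => rfl
        right_inv := fun _ => rfl }
  · intro p
    obtain ⟨g, hg, e1, e2⟩ := hA.trans x hx y hy hxy p.1.1 p.2.1 p.1.2 p.2.2.1 p.2.2.2
    rw [← hm, ncard_congr_conj hC hg (fun c => c • x = x ∧ c • y = y)
      (fun c => c • p.1.1 = p.1.1 ∧ c • p.1.2 = p.1.2) (fun c => by
        rw [← e1, ← e2]; exact and_congr (fix_conj_iff g c x) (fix_conj_iff g c y))]
    rw [← Nat.card_coe_set_eq, ← Nat.card_coe_set_eq]
    exact Nat.card_congr
      { toFun := fun c => ⟨c.1, c.1.2, c.2⟩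
        invFun := fun c => ⟨⟨c.1, c.2.1⟩, c.2.2⟩
        left_inv := fun _ => rfl
        right_inv := fun _ => rfl }

/-- Counting the incidences with single points. -/
theorem count_point (hA : PairTrans A F) {C : Set G} (hC : ConjInv A C) {f : ℕ}
    (hf : ∀ c ∈ C, {x | x ∈ F ∧ c • x = x}.ncard = f) {x : Ω} (hx : x ∈ F)
    {m : ℕ} (hm : {c ∈ C | c • x = x}.ncard = m) :
    C.ncard * f = F.ncard * m := by
  have h := double_count (α := C) (β := F) (fun c z => (c : G) • (z : Ω) = z) (m := f) (l := m) ?_ ?_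
  · rwa [Nat.card_coe_set_eq, Nat.card_coe_set_eq] at h
  · intro c
    rw [← hf c c.2, ← Nat.card_coe_set_eq, ← Nat.card_coe_set_eq]
    exact Nat.card_congr
      { toFun := fun z => ⟨z.1, z.1.2, z.2⟩
        invFun := fun z => ⟨⟨z.1, z.2.1⟩, z.2.2⟩
        left_inv := fun _ => rfl
        right_inv := fun _ => rfl }
  · intro z
    obtain ⟨g, hg, e1⟩ := hA.trans_one hx z.2
    rw [← hm, ncard_congr_conj hC hg (fun c => c • x = x) (fun c => c • (z : Ω) = z) (fun c => by
        rw [← e1]; exact fix_conj_iff g c x)]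
    rw [← Nat.card_coe_set_eq, ← Nat.card_coe_set_eq]
    exact Nat.card_congr
      { toFun := fun c => ⟨c.1, c.1.2, c.2⟩
        invFun := fun c => ⟨⟨c.1, c.2.1⟩, c.2.2⟩
        left_inv := fun _ => rfl
        right_inv := fun _ => rfl }

/-- A class of involutory actions, each with exactly one fixed point, has as many members through
a point as swap a given pair. -/
theorem count_one_fixed (hA : PairTrans A F) {C : Set G} (hC : ConjInv A C) (hCA : C ⊆ A)
    (hsq : ∀ c ∈ C, ∀ x ∈ F, c • c • x = x)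
    (hf : ∀ c ∈ C, {x | x ∈ F ∧ c • x = x}.ncard = 1) {x y : Ω} (hx : x ∈ F) (hy : y ∈ F)
    (hxy : x ≠ y) :
    {c ∈ C | c • x = x}.ncard = {c ∈ C | c • x = y ∧ c • y = x}.ncard := by
  have h1 := count_point hA hC hf hx rfl
  have h2 := count_swap hA hC hCA hsq hf hx hy hxy rfl
  have hF : 2 ≤ F.ncard := by
    have := Set.ncard_le_ncard (s := {x, y}) (t := F) (by
      intro z hz; rcases hz with rfl | rfl <;> assumption) (Set.toFinite _)
    rw [Set.ncard_pair hxy] at this
    exact this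
  rw [mul_one] at h1
  rw [h1] at h2
  have : F.ncard * (F.ncard - 1) * {c ∈ C | c • x = x}.ncard =
      F.ncard * (F.ncard - 1) * {c ∈ C | c • x = y ∧ c • y = x}.ncard := by
    rw [← h2]; ring
  exact Nat.eq_of_mul_eq_mul_left (Nat.mul_pos (by omega) (by omega)) this

end CfsgLib.TwoPointAltFour
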