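import Cfsg.Agent.TwoPointAltFour.Count
import Cfsg.Agent.Perm.SharplyTwo

/-!
# A pair-transitive group with trivial pair action has prime power degree
-/

set_option autoImplicit false
set_option linter.unusedSectionVars false
set_option linter.style.haveILetI false

namespace CfsgLib.TwoPointAltFour

open MulAction

variable {G : Type*} [Group G] [Finite G] {Ω : Type*} [Finite Ω] [MulAction G Ω]
  {A : Subgroup G} {F : Set Ω}

/-- If an element of `A` fixing two points of `F` fixes all of `F`, then `|F|` is a prime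
power. -/
theorem isPrimePow_ncard (hA : PairTrans A F) (hF : 2 ≤ F.ncard)
    (hk : ∀ g ∈ A, ∀ x ∈ F, ∀ y ∈ F, x ≠ y → g • x = x → g • y = y → ∀ z ∈ F, g • z = z) :
    IsPrimePow F.ncard := by
  let S : SubMulAction A Ω := ⟨F, fun g x hx => hA.mem g g.2 x hx⟩
  let φ : A →* Equiv.Perm S := MulAction.toPermHom A S
  let Q : Subgroup (Equiv.Perm S) := φ.range
  have hcard : Nat.card S = F.ncard := Nat.card_coe_set_eq F
  haveI : Nontrivial S := Finite.one_lt_card_iff_nontrivial.1 (by rw [hcard]; omega)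
  have h2 : IsMultiplyPretransitive Q S 2 := by
    refine is_two_pretransitive_iff.2 fun {x y x' y'} hxy hxy' => ?_
    obtain ⟨g, hg, e1, e2⟩ := hA.trans _ x.2 _ y.2 (fun e => hxy (Subtype.ext e)) _ x'.2 _ y'.2
      (fun e => hxy' (Subtype.ext e))
    exact ⟨⟨φ ⟨g, hg⟩, ⟨_, rfl⟩⟩, Subtype.ext e1, Subtype.ext e2⟩
  have hs : ∀ (q : Q) (x y : S), x ≠ y → q • x = x → q • y = y → q = 1 := by
    rintro ⟨_, g, rfl⟩ x y hxy hx hy
    refine Subtype.ext (Equiv.ext fun z => Subtype.ext ?_)
    exact hk g g.2 _ x.2 _ y.2 (fun e => hxy (Subtype.ext e)) (congrArg Subtype.val hx)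
      (congrArg Subtype.val hy) _ z.2
  obtain ⟨p, j, hp, hj, he, -⟩ := Perm.SharplyTwo.exists_prime_pow h2 hs
  rw [← hcard, he]
  exact hp.isPrimePow.pow (by omega)

end CfsgLib.TwoPointAltFour
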