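import Cfsg.Agent.TwoPointAltFour.Local
import Cfsg.Agent.TwoPointAltFour.KleinGroup
import Cfsg.Agent.TwoPointAltFour.PrimePow

/-!
# Even degree: the point stabiliser has four-group Sylow 2-subgroups
-/

set_option autoImplicit false
set_option linter.unusedSectionVars false
set_option linter.style.haveILetI false

universe u v

namespace CfsgLib.TwoPointAltFour

open MulAction Subgroup

variable {G : Type u} [Group G] [Finite G] {Ω : Type v} [Finite Ω] [MulAction G Ω]

theorem card_centralizer_subgroupOf (X : Subgroup G) {s : Set G} (hs : s ⊆ X) :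
    Nat.card (centralizer (((↑) : X → G) ⁻¹' s)) = Nat.card (centralizer s ⊓ X : Subgroup G) :=
  Nat.card_congr
    { toFun := fun g => ⟨(g.1 : G), mem_centralizer_iff.2 fun p hp =>
        congrArg Subtype.val (mem_centralizer_iff.1 g.2 ⟨p, hs hp⟩ hp), g.1.2⟩
      invFun := fun g => ⟨⟨g.1, g.2.2⟩, mem_centralizer_iff.2 fun p hp =>
        Subtype.ext (mem_centralizer_iff.1 g.2.1 (p : G) hp)⟩
      left_inv := fun _ => rfl
      right_inv := fun _ => rfl }

namespace Hyp

variable (h : Hyp G Ω) {x y : Ω} (hxy : x ≠ y) {t : G} (ht : t ∈ four G x y) (ht1 : t ≠ 1)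
  (hn : Even (Nat.card Ω))
include h hxy ht ht1 hn

omit ht ht1 in
theorem two_subgroup_le (p : Ω) (P : Subgroup (stabilizer G p)) (hP : IsPGroup 2 P) :
    Nat.card P ≤ 4 := by
  haveI : Fact (Nat.Prime 2) := ⟨Nat.prime_two⟩
  obtain ⟨q, hq⟩ : ∃ q, p ≠ q := by
    by_cases hp : p = x
    · exact ⟨y, hp ▸ hxy⟩
    · exact ⟨x, hp⟩
  have hd := card_subgroup_dvd_card P
  rw [h.card_stabilizer hq] at hd
  obtain ⟨m, hm⟩ := IsPGroup.iff_card.1 hP
  rw [hm] at hd ⊢
  have h2 := h.two_le_card hxy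
  have hodd : Odd ((Nat.card Ω - 1) * 3) := by
    obtain ⟨a, ha⟩ := hn
    exact ⟨3 * a - 2, by omega⟩
  rw [show (Nat.card Ω - 1) * 12 = 4 * ((Nat.card Ω - 1) * 3) by ring] at hd
  exact Nat.le_of_dvd (by norm_num)
    (((Nat.coprime_two_left.2 hodd).pow_left m).dvd_of_dvd_mul_right hd)

theorem cn_point_le_centralizer {p : Ω} (hp : p ∈ fxFour G x y) :
    cn t x y ⊓ stabilizer G p ≤ centralizer (four G x y : Set G) := by
  rintro g ⟨hg, hgp⟩
  obtain ⟨hgt, hgn⟩ := mem_cn.1 hg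
  have hVX : four G x y ≤ stabilizer G p := fun v hv => hp v hv
  refine mem_centralizer_iff.2 fun v hv => ?_
  have := centralizes_of_fix (h.two_subgroup_le hxy hn p) (V := (four G x y).subgroupOf (stabilizer G p))
    (by rw [Nat.card_congr (subgroupOfEquivOfLe hVX).toEquiv, h.card_four hxy])
    (fun w hw => Subtype.ext ((h.mem_four hxy).1 hw).2.2) (g := ⟨g, hgp⟩) (t := ⟨t, hVX ht⟩) ht
    (fun e => ht1 (congrArg Subtype.val e))
    (fun w hw => (mem_normalizer_iff.1 hgn (w : G)).1 hw) (Subtype.ext hgt) ⟨v, hVX hv⟩ hv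
  exact (congrArg Subtype.val this).symm

theorem centralizer_point_eq {p : Ω} (hp : p ∈ fxFour G x y) :
    centralizer (four G x y : Set G) ⊓ stabilizer G p = cn t x y ⊓ stabilizer G p :=
  le_antisymm (fun g hg => ⟨⟨centralizer_le (by simpa using ht) hg.1,
    centralizer_le_normalizer _ hg.1⟩, hg.2⟩)
    (le_inf (h.cn_point_le_centralizer hxy ht ht1 hn hp) inf_le_right)

theorem isPrimePow_k (hk : 3 ≤ (fxFour G x y).ncard) : IsPrimePow (fxFour G x y).ncard := by
  have hA := h.pairTrans_cn hxy ht ht1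
  have one : ∀ r ∈ fxFour G x y, ∀ p ∈ fxFour G x y, ∀ p' ∈ fxFour G x y, p ≠ r → p' ≠ r →
      ∃ g ∈ centralizer (four G x y : Set G), g • r = r ∧ g • p = p' := by
    intro r hr p hp p' hp' hpr hpr'
    obtain ⟨g, hg, e1, e2⟩ := hA.trans r hr p hp hpr.symm r hr p' hp' hpr'.symm
    exact ⟨g, h.cn_point_le_centralizer hxy ht ht1 hn hr ⟨hg, e1⟩, e1, e2⟩
  have third : ∀ p p' : Ω, ∃ r ∈ fxFour G x y, p ≠ r ∧ p' ≠ r := by
    intro p p'
    by_contra hc
    push Not at hc
    have hsub : fxFour G x y ⊆ {p, p'} := fun r hr => by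
      by_cases e : p = r
      · exact Or.inl e.symm
      · exact Or.inr (hc r hr e).symm
    have h1 := Set.ncard_le_ncard hsub (Set.toFinite _)
    have h2 := Set.ncard_insert_le p ({p'} : Set Ω)
    rw [Set.ncard_singleton] at h2
    omega
  refine isPrimePow_ncard (A := centralizer (four G x y : Set G)) (F := fxFour G x y)
    ⟨fun g hg => hA.mem g ⟨centralizer_le (by simpa using ht) hg, centralizer_le_normalizer _ hg⟩,
      fun p hp q hq hpq p' hp' q' hq' hpq' => ?_⟩ (by omega) ?_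
  · obtain ⟨r, hr, hpr, hpr'⟩ := third p p'
    obtain ⟨g, hg, -, hgp⟩ := one r hr p hp p' hp' hpr hpr'
    have hgq : g • q ∈ fxFour G x y :=
      hA.mem g ⟨centralizer_le (by simpa using ht) hg, centralizer_le_normalizer _ hg⟩ q hq
    obtain ⟨g', hg', hg'p, hg'q⟩ := one p' hp' (g • q) hgq q' hq'
      (fun e => hpq (smul_left_cancel g (hgp.trans e.symm))) hpq'.symm
    exact ⟨g' * g, mul_mem hg' hg, by rw [mul_smul, hgp, hg'p], by rw [mul_smul, hg'q]⟩
  · intro g hg p hp q hq hpq hgp hgq z hz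
    have hg4 : g ∈ four G x y := by
      rw [← h.cn_inf_pair hxy ht ht1 hp hq hpq]
      exact ⟨⟨centralizer_le (by simpa using ht) hg, centralizer_le_normalizer _ hg⟩, hgp, hgq⟩
    exact hz g hg4

/-- The equations of the even case. -/
theorem even_data : ∃ q d R f e c₀ : ℕ, Shape q d R ∧ 0 < d ∧ 0 < f ∧ 0 < e ∧ 0 < c₀ ∧ 3 ≤ q ∧
    (q = 3 → ∃ π : stabilizer G x →* alternatingGroup (Fin 4), Function.Surjective π ∧
      Odd (Nat.card π.ker)) ∧
    (fx t : Set Ω).ncard - 1 = e * d * ((fxFour G x y).ncard - 1) ∧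
    (fxFour G x y).ncard - 1 = c₀ * f ∧
    e * e * R * ((fx t : Set Ω).ncard - 1) = 6 * (Nat.card Ω - 1) ∧
    Odd ((fx t : Set Ω).ncard - 1) := by
  have htT := h.isT_of_mem hxy ht ht1
  have ht' := (h.mem_four hxy).1 ht
  set X := stabilizer G x with hX
  have hVX : four G x y ≤ X := fun v hv => ((h.mem_four hxy).1 hv).1
  have h2 := h.two_le_card hxy
  have hXcard : Nat.card X = (Nat.card Ω - 1) * 12 := h.card_stabilizer hxy
  have hV : Nat.card ((four G x y).subgroupOf X) = 4 := by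
    rw [Nat.card_congr (subgroupOfEquivOfLe hVX).toEquiv, h.card_four hxy]
  have hodd3 : Odd ((Nat.card Ω - 1) * 3) := by
    obtain ⟨a, ha⟩ := hn
    exact ⟨3 * a - 2, by omega⟩
  have hodd : Odd ((four G x y).subgroupOf X).index := by
    have h1 := ((four G x y).subgroupOf X).card_mul_index
    rw [hV, hXcard] at h1
    rwa [show ((four G x y).subgroupOf X).index = (Nat.card Ω - 1) * 3 by omega]
  obtain ⟨v, hv, hv1, hvt⟩ : ∃ v ∈ four G x y, v ≠ 1 ∧ v ≠ t := by
    by_contra hc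
    push Not at hc
    have : (four G x y : Set G) ⊆ {1, t} := fun g hg => by
      by_cases hg1 : g = 1
      · exact Or.inl hg1
      · exact Or.inr (hc g hg hg1)
    have h' := Set.ncard_le_ncard this (Set.toFinite _)
    rw [← Nat.card_coe_set_eq, SetLike.coe_sort_coe, h.card_four hxy, Set.ncard_pair ht1.symm] at h'
    omega
  have hv' := (h.mem_four hxy).1 hv
  have hne1 : t * v ≠ 1 := fun e => hvt (by
    rw [← inv_eq_of_mul_eq_one_right e, inv_eq_of_mul_eq_one_right ht'.2.2])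
  have htv := (h.mem_four hxy).1 (mul_mem ht hv)
  obtain ⟨r, hrx, hry, -, hr⟩ := h.exists_conj hxy ht'.1 ht'.2.1 hv'.1 hv'.2.1 ht'.2.2 ht1 hv'.2.2 hv1
  obtain ⟨r', hrx', -, -, hr'⟩ := h.exists_conj hxy ht'.1 ht'.2.1 htv.1 htv.2.1 ht'.2.2 ht1
    htv.2.2 hne1
  have hrV : ∀ w ∈ four G x y, r * w * r⁻¹ ∈ four G x y := fun w hw => by
    have h1 : r * w * r⁻¹ ∈ four G (r • x) (r • y) := by
      rw [h.map_four hxy]
      simpa [mul_assoc] using hw
    rwa [hrx, hry] at h1
  obtain ⟨q, d, R, f, e, c₀, hsh, hd, hf, he, hc, hq, hA, hCt, hCV, hM⟩ :=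
    structure_of_klein (V := (four G x y).subgroupOf X) hV
      (fun w hw => Subtype.ext ((h.mem_four hxy).1 hw).2.2) hodd
      (t := ⟨t, hVX ht⟩) (v := ⟨v, hVX hv⟩) ht (fun e => ht1 (congrArg Subtype.val e)) hv
      (fun e => hv1 (congrArg Subtype.val e)) (fun e => hvt (congrArg Subtype.val e))
      ⟨⟨r, hrx⟩, fun w hw => hrV _ hw, Subtype.ext hr⟩ ⟨⟨r', hrx'⟩, Subtype.ext hr'⟩
  have e1 : Nat.card (centralizer ({(⟨t, hVX ht⟩ : X)} : Set X)) =
      Nat.card (centralizer ({t} : Set G) ⊓ X : Subgroup G) := by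
    rw [← card_centralizer_subgroupOf X (s := ({t} : Set G)) (by simpa using hVX ht)]
    congr! with w
    ext w
    simp [Subtype.ext_iff]
  have e2 : Nat.card (centralizer ((four G x y).subgroupOf X : Set X)) =
      Nat.card (centralizer (four G x y : Set G) ⊓ X : Subgroup G) :=
    card_centralizer_subgroupOf X (s := (four G x y : Set G)) hVX
  rw [e1, hX, h.card_centralizer_point htT ht'.1] at hCt
  rw [e2, hX, h.centralizer_point_eq hxy ht ht1 hn (h.left_mem_fxFour hxy),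
    h.card_cn_point hxy ht ht1 (h.left_mem_fxFour hxy)] at hCV
  have ek : (fxFour G x y).ncard - 1 = c₀ * f :=
    Nat.eq_of_mul_eq_mul_right (by norm_num : 0 < 4) (hCV.trans (by ring))
  have ei : (fx t : Set Ω).ncard - 1 = e * d * ((fxFour G x y).ncard - 1) := by
    rw [ek]
    exact Nat.eq_of_mul_eq_mul_right (by norm_num : 0 < 4) (hCt.trans (by ring))
  refine ⟨q, d, R, f, e, c₀, hsh, hd, hf, he, hc, hq, hA, ei, ek, ?_, ?_⟩
  · rw [hXcard] at hM
    refine Nat.eq_of_mul_eq_mul_left (by norm_num : 0 < 2) ?_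
    calc 2 * (e * e * R * ((fx t : Set Ω).ncard - 1)) = e * e * e * c₀ * (2 * d * R * f) := by
          rw [ei, ek]; ring
      _ = 2 * (6 * (Nat.card Ω - 1)) := by rw [← hM]; ring
  · have hd' : (centralizer ({t} : Set G) ⊓ X : Subgroup G) ≤ X := inf_le_right
    have hdd := card_dvd_of_le hd'
    rw [hXcard, hX, h.card_centralizer_point htT ht'.1,
      show (Nat.card Ω - 1) * 12 = (Nat.card Ω - 1) * 3 * 4 by ring] at hdd
    exact hodd3.of_dvd_nat (Nat.dvd_of_mul_dvd_mul_right (by norm_num) hdd)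

end Hyp

end CfsgLib.TwoPointAltFour
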