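import Cfsg.Agent.TwoPointAltFour.EvenEquation

/-!
# Even degree: the numerical survivors
-/

set_option autoImplicit false
set_option linter.unusedSectionVars false
set_option linter.style.haveILetI false

universe u v

namespace CfsgLib.TwoPointAltFour

open MulAction Subgroup

theorem Shape.lower {q d R : ℕ} (h : Shape q d R) (hd : 0 < d) :
    16 * d * d + 2 ≤ R + 12 * d := by
  rcases h with ⟨hq, hR⟩ | ⟨hq, hR⟩
  · obtain ⟨p, rfl⟩ : ∃ p, q = p + 1 := ⟨q - 1, by omega⟩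
    rw [Nat.add_sub_cancel] at hR
    have hp : p + 2 = 4 * d := by omega
    have : (p + 2) * (p + 2) + 2 = (p + 1) * p + 3 * (p + 2) := by ring
    rw [hp] at this
    rw [hR]
    nlinarith
  · subst hq hR
    nlinarith

theorem Shape.one {q R : ℕ} (h : Shape q 1 R) : (q = 3 ∧ R = 6) ∨ (q = 5 ∧ R = 30) := by
  rcases h with ⟨hq, hR⟩ | ⟨hq, hR⟩
  · obtain rfl : q = 3 := by omega
    exact Or.inl ⟨rfl, hR⟩
  · obtain rfl : q = 5 := by omega
    exact Or.inr ⟨rfl, hR⟩

theorem Shape.two {q R : ℕ} (h : Shape q 2 R) : R = 42 ∨ R = 90 := by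
  rcases h with ⟨hq, hR⟩ | ⟨hq, hR⟩
  · obtain rfl : q = 7 := by omega
    exact Or.inl hR
  · obtain rfl : q = 9 := by omega
    exact Or.inr hR

theorem not_isPrimePow_six : ¬ IsPrimePow 6 := fun h => by
  obtain ⟨p, -, hp⟩ := isPrimePow_iff_unique_prime_dvd.1 h
  have h2 := hp 2 ⟨Nat.prime_two, by norm_num⟩
  have h3 := hp 3 ⟨Nat.prime_three, by norm_num⟩
  omega

theorem not_isPrimePow_twelve : ¬ IsPrimePow 12 := fun h => by
  obtain ⟨p, -, hp⟩ := isPrimePow_iff_unique_prime_dvd.1 h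
  have h2 := hp 2 ⟨Nat.prime_two, by norm_num⟩
  have h3 := hp 3 ⟨Nat.prime_three, by norm_num⟩
  omega

/-- The six-involution case. -/
theorem arith_six {n i k q d R e : ℕ} (hsh : Shape q d R) (hd : 0 < d) (he : 0 < e) (hi : 2 ≤ i)
    (hk : 2 ≤ k) (hin : i < n) (h1 : n - i = 2 * (i * (i - 1))) (h2 : k = i ∨ i = k * k)
    (h3 : i - 1 = e * d * (k - 1)) (h4 : e * e * R * (i - 1) = 6 * (n - 1)) :
    (n = 6 ∧ i = 2) ∨ (n = 28 ∧ i = 4 ∧ q = 3) := by
  obtain ⟨j, rfl⟩ : ∃ j, i = j + 1 := ⟨i - 1, by omega⟩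
  rw [Nat.add_sub_cancel] at h1 h3 h4
  have hn : n - 1 = j * (2 * j + 3) := by
    have : n - 1 = j + 2 * ((j + 1) * j) := by omega
    rw [this]; ring
  rw [hn, show 6 * (j * (2 * j + 3)) = 6 * (2 * j + 3) * j by ring] at h4
  have hR := Nat.eq_of_mul_eq_mul_right (by omega) h4
  rcases h2 with rfl | h2
  · rw [Nat.add_sub_cancel] at h3
    have hed : e * d = 1 := Nat.eq_of_mul_eq_mul_right (by omega : 0 < j) (by rw [one_mul]; exact h3.symm)
    obtain ⟨rfl, rfl⟩ := mul_eq_one.1 hed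
    rcases hsh.one with ⟨-, rfl⟩ | ⟨-, rfl⟩
    · omega
    · left
      obtain rfl : j = 1 := by omega
      omega
  · obtain ⟨l, rfl⟩ : ∃ l, k = l + 1 := ⟨k - 1, by omega⟩
    rw [Nat.add_sub_cancel] at h3
    have hj : j = (l + 2) * l := by
      have : (l + 1) * (l + 1) = (l + 2) * l + 1 := by ring
      omega
    have hed : l + 2 = e * d := Nat.eq_of_mul_eq_mul_right (by omega : 0 < l) (hj.symm.trans h3)
    have hlow := hsh.lower hd
    have hR' : e * e * R + 24 * (e * d) = 12 * ((e * d) * (e * d)) + 18 := by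
      rw [hR, hj, ← hed]; ring
    rcases (by omega : d = 1 ∨ d = 2 ∨ 3 ≤ d) with rfl | rfl | hd3
    · right
      rw [mul_one] at hed hR'
      rcases hsh.one with ⟨rfl, rfl⟩ | ⟨-, rfl⟩
      · obtain rfl : e = 3 := by
          rcases (by omega : e ≤ 3 ∨ 4 ≤ e) with h' | h'
          · interval_cases e <;> omega
          · exfalso; nlinarith
        obtain rfl : l = 1 := by omega
        subst hj
        omega
      · exfalso; nlinarith
    · exfalso
      rcases hsh.two with rfl | rfl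
      · rcases (by omega : e ≤ 8 ∨ 9 ≤ e) with h' | h'
        · interval_cases e <;> omega
        · nlinarith
      · nlinarith
    · exfalso
      have h5 : e * e * (16 * d * d + 2) ≤ e * e * (R + 12 * d) := Nat.mul_le_mul_left _ hlow
      have h6 : e * e * (12 * d) * 3 ≤ e * e * (12 * d) * d := Nat.mul_le_mul_left _ hd3
      have h7 : 3 ≤ e * d := le_trans hd3 (Nat.le_mul_of_pos_left d he)
      nlinarith

/-- The central case with four involutions with fixed points. -/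
theorem arith_four {n i k q d R e : ℕ} (hsh : Shape q d R) (hd : 0 < d) (he : 0 < e) (hi : 2 ≤ i)
    (hk : 2 ≤ k) (hin : i < n) (hodd : Odd (i - 1)) (h1 : 3 * (n - i) = 4 * (i * (i - 1)))
    (h2 : k = i ∨ i = k * k ∨ i = k * (2 * k - 1))
    (h3 : i - 1 = e * d * (k - 1)) (h4 : e * e * R * (i - 1) = 6 * (n - 1)) : k = 6 := by
  obtain ⟨j, rfl⟩ : ∃ j, i = j + 1 := ⟨i - 1, by omega⟩
  rw [Nat.add_sub_cancel] at h1 h3 h4 hodd
  have hn : 3 * (n - 1) = j * (4 * j + 7) := by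
    have : 3 * (n - 1) = 3 * j + 4 * ((j + 1) * j) := by omega
    rw [this]; ring
  have h4' : e * e * R * j = 2 * (4 * j + 7) * j := by
    rw [h4, show 6 * (n - 1) = 2 * (3 * (n - 1)) by ring, hn]; ring
  have hR := Nat.eq_of_mul_eq_mul_right (by omega) h4'
  have hlow := hsh.lower hd
  rcases h2 with rfl | h2 | h2
  · rw [Nat.add_sub_cancel] at h3
    have hed : e * d = 1 := Nat.eq_of_mul_eq_mul_right (by omega : 0 < j) (by rw [one_mul]; exact h3.symm)
    obtain ⟨rfl, rfl⟩ := mul_eq_one.1 hed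
    obtain ⟨a, ha⟩ := hodd
    rcases hsh.one with ⟨-, rfl⟩ | ⟨-, rfl⟩ <;> omega
  · obtain ⟨l, rfl⟩ : ∃ l, k = l + 1 := ⟨k - 1, by omega⟩
    rw [Nat.add_sub_cancel] at h3
    have hj : j = (l + 2) * l := by
      have : (l + 1) * (l + 1) = (l + 2) * l + 1 := by ring
      omega
    have hed : l + 2 = e * d := Nat.eq_of_mul_eq_mul_right (by omega : 0 < l) (hj.symm.trans h3)
    have hR' : e * e * R + 16 * (e * d) = 8 * ((e * d) * (e * d)) + 14 := by
      rw [hR, hj, ← hed]; ring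
    rcases (by omega : d = 1 ∨ 2 ≤ d) with rfl | hd2
    · rw [mul_one] at hed hR'
      rcases hsh.one with ⟨-, rfl⟩ | ⟨-, rfl⟩
      · rcases (by omega : e ≤ 8 ∨ 9 ≤ e) with h' | h'
        · interval_cases e <;> omega
        · exfalso; nlinarith
      · exfalso; nlinarith
    · exfalso
      have h5 : e * e * (16 * d * d + 2) ≤ e * e * (R + 12 * d) := Nat.mul_le_mul_left _ hlow
      have h6 : e * e * (8 * d) * 2 ≤ e * e * (8 * d) * d := Nat.mul_le_mul_left _ hd2
      nlinarith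
  · exfalso
    obtain ⟨l, rfl⟩ : ∃ l, k = l + 1 := ⟨k - 1, by omega⟩
    rw [Nat.add_sub_cancel] at h3
    rw [show 2 * (l + 1) - 1 = 2 * l + 1 by omega] at h2
    have hj : j = (2 * l + 3) * l := by
      have : (l + 1) * (2 * l + 1) = (2 * l + 3) * l + 1 := by ring
      omega
    have hed : 2 * l + 3 = e * d := Nat.eq_of_mul_eq_mul_right (by omega : 0 < l) (hj.symm.trans h3)
    have hR' : e * e * R + 12 * (e * d) = 4 * ((e * d) * (e * d)) + 14 := by
      rw [hR, hj, ← hed]; ring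
    have h5 : e * e * (16 * d * d + 2) ≤ e * e * (R + 12 * d) := Nat.mul_le_mul_left _ hlow
    have h6 : e * e * (12 * d) * 1 ≤ e * e * (12 * d) * d := Nat.mul_le_mul_left _ hd
    nlinarith

/-- The central case with one involution with fixed points. -/
theorem arith_one {n i k q d R e : ℕ} (hsh : Shape q d R) (hi : 2 ≤ i) (hin : i < n)
    (h1 : 3 * (n - i) = i * (i - 1)) (h2 : k = i) (h3 : i - 1 = e * d * (k - 1))
    (h4 : e * e * R * (i - 1) = 6 * (n - 1)) : k = 12 := by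
  subst h2
  obtain ⟨j, rfl⟩ : ∃ j, k = j + 1 := ⟨k - 1, by omega⟩
  rw [Nat.add_sub_cancel] at h1 h3 h4
  have hn : 3 * (n - 1) = j * (j + 4) := by
    have : 3 * (n - 1) = 3 * j + (j + 1) * j := by omega
    rw [this]; ring
  have h4' : e * e * R * j = 2 * (j + 4) * j := by
    rw [h4, show 6 * (n - 1) = 2 * (3 * (n - 1)) by ring, hn]; ring
  have hR := Nat.eq_of_mul_eq_mul_right (by omega) h4'
  have hed : e * d = 1 := Nat.eq_of_mul_eq_mul_right (by omega : 0 < j) (by rw [one_mul]; exact h3.symm)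
  obtain ⟨rfl, rfl⟩ := mul_eq_one.1 hed
  rcases hsh.one with ⟨-, rfl⟩ | ⟨-, rfl⟩ <;> omega

/-- The central case with three involutions with fixed points. -/
theorem arith_three {n i k q d R e : ℕ} (hsh : Shape q d R) (hd : 0 < d) (he : 0 < e) (hi : 2 ≤ i)
    (hk : 2 ≤ k) (h1 : n = i * i) (h2 : k = i ∨ i = k * k) (h3 : i - 1 = e * d * (k - 1))
    (h4 : e * e * R * (i - 1) = 6 * (n - 1)) : n = 16 ∧ i = 4 ∧ k = 4 := by
  obtain ⟨j, rfl⟩ : ∃ j, i = j + 1 := ⟨i - 1, by omega⟩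
  rw [Nat.add_sub_cancel] at h3 h4
  have hn : n - 1 = j * (j + 2) := by
    have : (j + 1) * (j + 1) = j * (j + 2) + 1 := by ring
    omega
  rw [hn, show 6 * (j * (j + 2)) = 6 * (j + 2) * j by ring] at h4
  have hR := Nat.eq_of_mul_eq_mul_right (by omega) h4
  rcases h2 with rfl | h2
  · rw [Nat.add_sub_cancel] at h3
    have hed : e * d = 1 := Nat.eq_of_mul_eq_mul_right (by omega : 0 < j) (by rw [one_mul]; exact h3.symm)
    obtain ⟨rfl, rfl⟩ := mul_eq_one.1 hed
    rcases hsh.one with ⟨-, rfl⟩ | ⟨-, rfl⟩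
    · omega
    · obtain rfl : j = 3 := by omega
      omega
  · exfalso
    obtain ⟨l, rfl⟩ : ∃ l, k = l + 1 := ⟨k - 1, by omega⟩
    rw [Nat.add_sub_cancel] at h3
    have hj : j = (l + 2) * l := by
      have : (l + 1) * (l + 1) = (l + 2) * l + 1 := by ring
      omega
    have hed : l + 2 = e * d := Nat.eq_of_mul_eq_mul_right (by omega : 0 < l) (hj.symm.trans h3)
    have hR' : e * e * R + 12 * (e * d) = 6 * ((e * d) * (e * d)) + 12 := by
      rw [hR, hj, ← hed]; ring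
    have hlow := hsh.lower hd
    rcases (by omega : d = 1 ∨ 2 ≤ d) with rfl | hd2
    · rw [mul_one] at hed hR'
      rcases hsh.one with ⟨-, rfl⟩ | ⟨-, rfl⟩
      · omega
      · nlinarith
    · have h5 : e * e * (16 * d * d + 2) ≤ e * e * (R + 12 * d) := Nat.mul_le_mul_left _ hlow
      have h6 : e * e * (10 * d) * 2 ≤ e * e * (10 * d) * d := Nat.mul_le_mul_left _ hd2
      have h7 : 2 ≤ e * d := le_trans hd2 (Nat.le_mul_of_pos_left d he)
      nlinarith

namespace Hyp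

variable {G : Type u} [Group G] [Finite G] {Ω : Type v} [Finite Ω] [MulAction G Ω] [FaithfulSMul G Ω]
variable (h : Hyp G Ω) {x y : Ω} (hxy : x ≠ y) (hn : Even (Nat.card Ω))
include h hxy hn

/-- The survivors in even degree. -/
theorem even_survivors :
    Nat.card Ω = 6 ∨
    (Nat.card Ω = 28 ∧ CaseS G x y ∧ (∀ t ∈ four G x y, t ≠ 1 → (fx t : Set Ω).ncard = 4) ∧
      ∃ π : stabilizer G x →* alternatingGroup (Fin 4), Function.Surjective π ∧
        Odd (Nat.card π.ker)) ∨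
    (Nat.card Ω = 16 ∧ CaseA G x y ∧ (fxFour G x y).ncard = 4 ∧
      ∀ t ∈ four G x y, t ≠ 1 → (fx t : Set Ω).ncard = 4) := by
  obtain ⟨t, ht, ht1⟩ := h.exists_ne_one hxy
  have htT := h.isT_of_mem hxy ht ht1
  obtain ⟨q, d, R, f, e, c₀, hsh, hd, hf, he, hc, hq, hA, h3, hk1, h4, hodd⟩ :=
    h.even_data hxy ht ht1 hn
  have hi := h.mem_fx_ncard htT
  have hk := h.two_le_ncard_fxFour hxy
  have hin := h.ncard_fx_lt htT
  have hall : ∀ t' ∈ four G x y, t' ≠ 1 → (fx t' : Set Ω).ncard = (fx t : Set Ω).ncard :=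
    fun t' ht' ht1' => h.ncard_fx_eq htT (h.isT_of_mem hxy ht' ht1')
  rcases h.caseA_or_caseS hxy with ⟨z, hz, hzc, hset⟩ | hS
  · rcases h.numbers_caseA hxy ht ht1 hzc hset with ⟨-, -, h1, h2⟩ | ⟨-, -, h1, h2⟩ | ⟨-, -, h1, h2⟩
    · have := arith_four hsh hd he hi hk hin hodd h1 h2 h3 h4
      exact absurd (this ▸ h.isPrimePow_k hxy ht ht1 hn (by omega)) not_isPrimePow_six
    · have := arith_one hsh hi hin h1 h2 h3 h4
      exact absurd (this ▸ h.isPrimePow_k hxy ht ht1 hn (by omega)) not_isPrimePow_twelve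
    · obtain ⟨e1, e2, e3⟩ := arith_three hsh hd he hi hk h1 h2 h3 h4
      exact Or.inr (Or.inr ⟨e1, ⟨z, hz, hzc, hset⟩, e3, fun t' ht' ht1' => (hall t' ht' ht1').trans e2⟩)
  · obtain ⟨h1, h2⟩ := h.numbers_caseS hxy ht ht1 hS
    rcases arith_six hsh hd he hi hk hin h1 h2 h3 h4 with ⟨e1, -⟩ | ⟨e1, e2, e3⟩
    · exact Or.inl e1
    · exact Or.inr (Or.inl ⟨e1, hS, fun t' ht' ht1' => (hall t' ht' ht1').trans e2, hA e3⟩)

end Hyp

end CfsgLib.TwoPointAltFour
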