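import Cfsg.Agent.TwoPointAltFour.Numbers

/-!
# The centralisers in the normaliser of a four-group
-/

set_option autoImplicit false
set_option linter.unusedSectionVars false
set_option linter.style.haveILetI false

namespace CfsgLib.TwoPointAltFour

open MulAction Subgroup

variable {G : Type*} [Group G] [Finite G] {Ω : Type*} [Finite Ω] [MulAction G Ω]

/-- The centraliser of `t` in the normaliser of the four-group of a pair. -/
def cn (t : G) (x y : Ω) : Subgroup G :=
  centralizer ({t} : Set G) ⊓ normalizer (four G x y : Set G)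

theorem mem_cn {t : G} {x y : Ω} {g : G} :
    g ∈ cn t x y ↔ g * t = t * g ∧ g ∈ normalizer (four G x y : Set G) := by
  rw [cn, mem_inf, mem_centralizer_singleton_iff]

namespace Hyp

variable (h : Hyp G Ω) {x y : Ω} (hxy : x ≠ y) {t : G} (ht : t ∈ four G x y) (ht1 : t ≠ 1)
include h hxy ht ht1

theorem pairTrans_cn : PairTrans (cn t x y) (fxFour G x y) := by
  refine ⟨fun g hg => (h.pairTrans_normalizer hxy).mem g hg.2,
    fun p hp q hq hpq p' hp' q' hq' hpq' => ?_⟩
  have h1 := h.four_eq_of_mem hxy hpq hp hq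
  have h2 := h.four_eq_of_mem hxy hpq' hp' hq'
  obtain ⟨g, e1, e2, e3⟩ := h.exists_conj_pair hpq hpq' (h1.symm ▸ ht) ht1 (h2.symm ▸ ht) ht1
  refine ⟨g, mem_cn.2 ⟨mul_inv_eq_iff_eq_mul.1 e3, mem_normalizer_iff.2 fun v => ?_⟩, e1, e2⟩
  subst e1 e2
  constructor
  · intro hv
    show g * v * g⁻¹ ∈ four G x y
    rw [← h2, h.map_four hpq]
    simpa [mul_assoc, h1] using hv
  · intro hv
    have hv' : g * v * g⁻¹ ∈ four G x y := hv
    rw [← h2, h.map_four hpq] at hv'
    simpa [mul_assoc, h1] using hv'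

theorem cn_inf_pair {p q : Ω} (hp : p ∈ fxFour G x y) (hq : q ∈ fxFour G x y) (hpq : p ≠ q) :
    cn t x y ⊓ (stabilizer G p ⊓ stabilizer G q) = four G x y := by
  have ht' := (h.mem_four hxy).1 ht
  have e := h.four_eq_of_mem hxy hpq hp hq
  refine le_antisymm ?_ fun g hg => ⟨⟨?_, ?_⟩, hp g hg, hq g hg⟩
  · rintro g ⟨⟨hg, -⟩, hg'⟩
    rw [← e, ← h.centralizer_inf_pair (h.isT_of_mem hxy ht ht1) hpq (hp t ht) (hq t ht)]
    exact ⟨hg, hg'⟩
  · have hg' := (h.mem_four hxy).1 hg
    exact mem_centralizer_singleton_iff.2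
      (h.mul_self_comm hxy hg'.1 hg'.2.1 ht'.1 ht'.2.1 hg'.2.2 ht'.2.2)
  · exact le_normalizer hg

theorem card_cn :
    Nat.card (cn t x y) = (fxFour G x y).ncard * ((fxFour G x y).ncard - 1) * 4 := by
  rw [(h.pairTrans_cn hxy ht ht1).card_eq (h.left_mem_fxFour hxy) (h.right_mem_fxFour hxy) hxy,
    h.cn_inf_pair hxy ht ht1 (h.left_mem_fxFour hxy) (h.right_mem_fxFour hxy) hxy, h.card_four hxy]

theorem card_cn_point {p : Ω} (hp : p ∈ fxFour G x y) :
    Nat.card (cn t x y ⊓ stabilizer G p : Subgroup G) = ((fxFour G x y).ncard - 1) * 4 := by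
  have h1 := (h.pairTrans_cn hxy ht ht1).card_point hp
  rw [h.card_cn hxy ht ht1, mul_assoc] at h1
  have := h.two_le_ncard_fxFour hxy
  exact (Nat.eq_of_mul_eq_mul_left (by omega) h1).symm

omit hxy ht ht1 in
theorem card_centralizer_point {t : G} (ht : IsT Ω t) {p : Ω} (hp : p ∈ (fx t : Set Ω)) :
    Nat.card (centralizer ({t} : Set G) ⊓ stabilizer G p : Subgroup G) =
      ((fx t : Set Ω).ncard - 1) * 4 := by
  have h1 := (h.pairTrans_centralizer ht).card_point hp
  rw [h.card_centralizer ht, mul_assoc] at h1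
  have := h.mem_fx_ncard ht
  exact (Nat.eq_of_mul_eq_mul_left (by omega) h1).symm

omit hxy ht ht1 in
theorem card_group' {p q : Ω} (hpq : p ≠ q) :
    Nat.card (stabilizer G p) = (Nat.card Ω - 1) * 12 := h.card_stabilizer hpq

omit ht ht1 in
theorem two_le_card : 2 ≤ Nat.card Ω := by
  rw [← Set.ncard_univ Ω, ← Set.ncard_pair hxy]
  exact Set.ncard_le_ncard (Set.subset_univ _) (Set.toFinite _)

end Hyp

end CfsgLib.TwoPointAltFour
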