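import Cfsg.Agent.TwoPointAltFour.Classes

/-!
# The numerical cases
-/

set_option autoImplicit false
set_option linter.unusedSectionVars false
set_option linter.style.haveILetI false

namespace CfsgLib.TwoPointAltFour

open MulAction Subgroup

variable {G : Type*} [Group G] [Finite G] {Ω : Type*} [Finite Ω] [MulAction G Ω] [FaithfulSMul G Ω]

namespace Hyp

variable (h : Hyp G Ω) {x y : Ω} (hxy : x ≠ y) {t : G} (ht : t ∈ four G x y) (ht1 : t ≠ 1)
include h hxy ht ht1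

theorem fxFour_eq_fx (hk : (fxFour G x y).ncard = (fx t : Set Ω).ncard) :
    fxFour G x y = fx t :=
  Set.eq_of_subset_of_ncard_le (h.fxFour_subset ht) hk.ge (Set.toFinite _)

theorem k_le_i : (fxFour G x y).ncard ≤ (fx t : Set Ω).ncard :=
  Set.ncard_le_ncard (h.fxFour_subset ht) (Set.toFinite _)

/-- The common fixed set is the whole fixed set iff `DSet` meets no exchanging involution. -/
theorem k_eq_i_iff :
    (fxFour G x y).ncard = (fx t : Set Ω).ncard ↔ {c ∈ Swap G x y | c ∈ DSet Ω t} = ∅ := by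
  have hd := h.d_formula hxy ht ht1
  have hk2 := h.two_le_ncard_fxFour hxy
  have hle := h.k_le_i hxy ht ht1
  constructor
  · intro e
    rw [e, Nat.sub_self, mul_zero] at hd
    rw [e] at hk2
    rcases mul_eq_zero.1 hd.symm with e' | e'
    · exact (Set.ncard_eq_zero (Set.toFinite _)).1 e'
    · rcases mul_eq_zero.1 e' with e'' | e'' <;> omega
  · intro e
    rw [e, Set.ncard_empty, zero_mul] at hd
    omega

theorem numbers_caseS (hS : CaseS G x y) :
    Nat.card Ω - (fx t : Set Ω).ncard = 2 * ((fx t : Set Ω).ncard * ((fx t : Set Ω).ncard - 1)) ∧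
      ((fxFour G x y).ncard = (fx t : Set Ω).ncard ∨
        (fx t : Set Ω).ncard = (fxFour G x y).ncard * (fxFour G x y).ncard) := by
  have htT := h.isT_of_mem hxy ht ht1
  constructor
  · have hf := h.t_formula htT hxy
    rw [show {c ∈ Swap G x y | IsT Ω c} = Swap G x y from Set.ext fun c =>
      ⟨fun hc => hc.1, fun hc => ⟨hc, h.isT_of_caseS hxy hS hc.2.2 fun e => hxy (by
        have := hc.1; rwa [e, one_smul] at this)⟩⟩, hS.1] at hf
    omega
  obtain ⟨w, hw, hwt, hwt', hcl, -⟩ := hS.2.2 t ht ht1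
  have hd := h.d_formula hxy ht ht1
  have ht' := (h.mem_four hxy).1 ht
  by_cases hD : w ∈ DSet Ω t
  · have hset : {c ∈ Swap G x y | c ∈ DSet Ω t} = {w, w * t} := by
      ext c
      refine ⟨fun hc => hcl c hc.1 hc.2.2.2.2.1, ?_⟩
      rintro (rfl | rfl)
      exacts [⟨hw, hD⟩, ⟨hwt', h.mul_mem_DSet ht'.2.2 ht1 hD⟩]
    rw [hset, Set.ncard_pair (fun e => ht1 (by simpa using e.symm))] at hd
    right
    have hk2 := h.two_le_ncard_fxFour hxy
    have hle := h.k_le_i hxy ht ht1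
    obtain ⟨k', hk'⟩ : ∃ k', (fxFour G x y).ncard = k' + 1 := ⟨_, (Nat.succ_pred_eq_of_pos (by omega)).symm⟩
    rw [hk'] at hd hle ⊢
    rw [Nat.add_sub_cancel] at hd
    have : (fx t : Set Ω).ncard = k' + 1 + (k' + 1) * k' := by omega
    rw [this]; ring
  · left
    refine (h.k_eq_i_iff hxy ht ht1).2 (Set.eq_empty_of_forall_notMem fun c hc => ?_)
    rcases hcl c hc.1 hc.2.2.2.2.1 with rfl | rfl
    · exact hD hc.2
    · refine hD ?_
      have := h.mul_mem_DSet ht'.2.2 ht1 hc.2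
      rwa [mul_assoc, ht'.2.2, mul_one] at this

omit ht ht1 in
/-- With a central exchanging involution `z`, the members of `z V` other than `z` behave alike. -/
theorem isT_mul_iff {z : G} (hz : ∀ g : G, g • x = x → g • y = y → z * g = g * z) {v v' : G}
    (hv : v ∈ four G x y) (hv1 : v ≠ 1) (hv' : v' ∈ four G x y) (hv1' : v' ≠ 1) :
    IsT Ω (z * v) ↔ IsT Ω (z * v') := by
  have a := (h.mem_four hxy).1 hv
  have b := (h.mem_four hxy).1 hv'
  obtain ⟨g, hgx, hgy, -, hg⟩ := h.exists_conj hxy a.1 a.2.1 b.1 b.2.1 a.2.2 hv1 b.2.2 hv1'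
  have e : g * (z * v) * g⁻¹ = z * v' := by
    rw [← hg, show g * (z * v) * g⁻¹ = (g * z) * (v * g⁻¹) by group, ← hz g hgx hgy]
    group
  refine ⟨fun hT => e ▸ h.isT_conj hT g, fun hT => ?_⟩
  have := h.isT_conj hT g⁻¹
  rw [← e] at this
  simpa [mul_assoc] using this

omit ht ht1 in
/-- The value of the swap count for a central exchanging involution. -/
theorem ncard_isT_caseA {z : G} (hz : ∀ g : G, g • x = x → g • y = y → z * g = g * z)
    (hset : Swap G x y = (z * ·) '' (four G x y : Set G)) {v : G} (hv : v ∈ four G x y)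
    (hv1 : v ≠ 1) :
    ((IsT Ω z ∧ IsT Ω (z * v)) → {c ∈ Swap G x y | IsT Ω c}.ncard = 4) ∧
      ((IsT Ω z ∧ ¬ IsT Ω (z * v)) → {c ∈ Swap G x y | IsT Ω c}.ncard = 1) ∧
      ((¬ IsT Ω z ∧ IsT Ω (z * v)) → {c ∈ Swap G x y | IsT Ω c}.ncard = 3) ∧
      ((¬ IsT Ω z ∧ ¬ IsT Ω (z * v)) → {c ∈ Swap G x y | IsT Ω c}.ncard = 0) := by
  have hcard : (four G x y : Set G).ncard = 4 := by
    rw [← Nat.card_coe_set_eq, SetLike.coe_sort_coe, h.card_four hxy]
  have himg : {c ∈ Swap G x y | IsT Ω c} = (z * ·) '' {g | g ∈ four G x y ∧ IsT Ω (z * g)} := by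
    rw [hset]
    ext c
    constructor
    · rintro ⟨⟨g, hg, rfl⟩, hT⟩
      exact ⟨g, ⟨hg, hT⟩, rfl⟩
    · rintro ⟨g, ⟨hg, hT⟩, rfl⟩
      exact ⟨⟨g, hg, rfl⟩, hT⟩
  rw [himg, Set.ncard_image_of_injective _ (mul_right_injective z)]
  refine ⟨fun ⟨h1, h2⟩ => ?_, fun ⟨h1, h2⟩ => ?_, fun ⟨h1, h2⟩ => ?_, fun ⟨h1, h2⟩ => ?_⟩
  · rw [← hcard]
    congr 1
    ext g
    refine ⟨fun hg => hg.1, fun hg => ⟨hg, ?_⟩⟩
    by_cases hg1 : g = 1
    · rw [hg1, mul_one]; exact h1
    · exact (h.isT_mul_iff hxy hz hv hv1 hg hg1).1 h2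
  · refine Set.ncard_eq_one.2 ⟨1, Set.ext fun g => ⟨fun hg => ?_, ?_⟩⟩
    · by_contra hg1
      exact h2 ((h.isT_mul_iff hxy hz hg.1 hg1 hv hv1).1 hg.2)
    · rintro rfl
      exact ⟨one_mem _, by rw [mul_one]; exact h1⟩
  · rw [show {g | g ∈ four G x y ∧ IsT Ω (z * g)} = (four G x y : Set G) \ {1} from Set.ext fun g => by
      refine ⟨fun hg => ⟨hg.1, fun e => h1 ?_⟩, fun hg => ⟨hg.1, (h.isT_mul_iff hxy hz hv hv1 hg.1
        hg.2).1 h2⟩⟩
      have := hg.2
      rwa [Set.mem_singleton_iff.1 e, mul_one] at this]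
    rw [Set.ncard_sdiff (by simp [one_mem]), hcard, Set.ncard_singleton]
  · refine (Set.ncard_eq_zero (Set.toFinite _)).2 (Set.eq_empty_of_forall_notMem fun g hg => ?_)
    by_cases hg1 : g = 1
    · exact h1 (by simpa [hg1] using hg.2)
    · exact h2 ((h.isT_mul_iff hxy hz hg.1 hg1 hv hv1).1 hg.2)

omit ht1 in
theorem numbers_caseA (ht1 : t ≠ 1) {z : G} (hz : ∀ g : G, g • x = x → g • y = y → z * g = g * z)
    (hset : Swap G x y = (z * ·) '' (four G x y : Set G)) :
    (IsT Ω z ∧ (∀ v ∈ four G x y, IsT Ω (z * v)) ∧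
        3 * (Nat.card Ω - (fx t : Set Ω).ncard) =
          4 * ((fx t : Set Ω).ncard * ((fx t : Set Ω).ncard - 1)) ∧
        ((fxFour G x y).ncard = (fx t : Set Ω).ncard ∨
          (fx t : Set Ω).ncard = (fxFour G x y).ncard * (fxFour G x y).ncard ∨
          (fx t : Set Ω).ncard = (fxFour G x y).ncard * (2 * (fxFour G x y).ncard - 1))) ∨
    (IsT Ω z ∧ (∀ v ∈ four G x y, v ≠ 1 → ¬ IsT Ω (z * v)) ∧
        3 * (Nat.card Ω - (fx t : Set Ω).ncard) = (fx t : Set Ω).ncard * ((fx t : Set Ω).ncard - 1) ∧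
        (fxFour G x y).ncard = (fx t : Set Ω).ncard) ∨
    (¬ IsT Ω z ∧ (∀ v ∈ four G x y, v ≠ 1 → IsT Ω (z * v)) ∧
        Nat.card Ω = (fx t : Set Ω).ncard * (fx t : Set Ω).ncard ∧
        ((fxFour G x y).ncard = (fx t : Set Ω).ncard ∨
          (fx t : Set Ω).ncard = (fxFour G x y).ncard * (fxFour G x y).ncard)) := by
  have htT := h.isT_of_mem hxy ht ht1
  have hf := h.t_formula htT hxy
  have hd := h.d_formula hxy ht ht1
  have ht' := (h.mem_four hxy).1 ht
  have hk2 := h.two_le_ncard_fxFour hxy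
  have hle := h.k_le_i hxy ht ht1
  have hlt := h.ncard_fx_lt htT
  obtain ⟨v, hv, hv1, hvt⟩ : ∃ v ∈ four G x y, v ≠ 1 ∧ v ≠ t := by
    by_contra hc
    push Not at hc
    have : (four G x y : Set G) ⊆ {1, t} := fun g hg => by
      by_cases hg1 : g = 1
      · exact Or.inl hg1
      · exact Or.inr (hc g hg hg1)
    have h' := Set.ncard_le_ncard this (Set.toFinite _)
    rw [← Nat.card_coe_set_eq, SetLike.coe_sort_coe, h.card_four hxy, Set.ncard_pair ht1.symm] at h'
    omega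
  have hv' := (h.mem_four hxy).1 hv
  have hfour : ∀ g ∈ four G x y, g = 1 ∨ g = t ∨ g = v ∨ g = v * t := by
    intro g hg
    by_contra hc
    push Not at hc
    have hsub : ({g, 1, t, v, v * t} : Set G) ⊆ (four G x y : Set G) := by
      rintro u (rfl | rfl | rfl | rfl | rfl)
      exacts [hg, one_mem _, ht, hv, mul_mem hv ht]
    have h' := Set.ncard_le_ncard hsub (Set.toFinite _)
    have h3 : v * t ≠ t := fun e => hv1 (by simpa using e)
    have h4 : v * t ≠ 1 := fun e => hvt (by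
      rw [eq_inv_of_mul_eq_one_left e, inv_eq_of_mul_eq_one_right ht'.2.2])
    have h5 : v * t ≠ v := fun e => ht1 (by simpa using e)
    rw [← Nat.card_coe_set_eq (four G x y : Set G), SetLike.coe_sort_coe, h.card_four hxy,
      Set.ncard_insert_of_notMem, Set.ncard_insert_of_notMem, Set.ncard_insert_of_notMem,
      Set.ncard_pair h5.symm] at h'
    · omega
    · simp [hvt.symm, h3.symm]
    · simp [ht1.symm, hv1.symm, h4.symm]
    · simp [hc.1, hc.2.1, hc.2.2.1, hc.2.2.2]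
  have hback : ∀ c, c * t ∈ DSet Ω t → c ∈ DSet Ω t := fun c hc => by
    have := h.mul_mem_DSet ht'.2.2 ht1 hc
    rwa [mul_assoc, ht'.2.2, mul_one] at this
  -- the exchanging members of `DSet` lie in the two cosets
  have hsub : {c ∈ Swap G x y | c ∈ DSet Ω t} ⊆ {z, z * t, z * v, z * (v * t)} := by
    rintro c ⟨hc, -⟩
    rw [hset] at hc
    obtain ⟨g, hg, rfl⟩ := hc
    rcases hfour g hg with rfl | rfl | rfl | rfl <;> simp
  have hDT : ∀ c ∈ DSet Ω t, IsT Ω c := fun c hc => by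
    obtain ⟨p, q, hpq, -, -, hcp, hcq⟩ := hc.2.2.2.2
    exact ⟨hc.1, hc.2.1, p, q, hpq, hcp, hcq⟩
  have hpar : ∀ c d : G, {e ∈ Swap G x y | e ∈ DSet Ω t} ⊆ {c, c * t, d, d * t} →
      c ∈ Swap G x y → c * t ∈ Swap G x y → d ∈ Swap G x y → d * t ∈ Swap G x y →
      c ≠ d → c ≠ d * t →
      {e ∈ Swap G x y | e ∈ DSet Ω t}.ncard = 0 ∨
        ({e ∈ Swap G x y | e ∈ DSet Ω t}.ncard = 2 ∧ (¬ c ∈ DSet Ω t ∨ ¬ d ∈ DSet Ω t)) ∨
        ({e ∈ Swap G x y | e ∈ DSet Ω t}.ncard = 4 ∧ c ∈ DSet Ω t ∧ d ∈ DSet Ω t) := by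
    intro c d hs hc hct hd' hdt hcd hcdt
    have hne : ∀ e : G, e ≠ e * t := fun e he => ht1 (by simpa using he.symm)
    by_cases hcD : c ∈ DSet Ω t <;> by_cases hdD : d ∈ DSet Ω t
    · right; right
      refine ⟨?_, hcD, hdD⟩
      rw [show {e ∈ Swap G x y | e ∈ DSet Ω t} = {c, c * t, d, d * t} from
        hs.antisymm (by
          rintro e (rfl | rfl | rfl | rfl)
          exacts [⟨hc, hcD⟩, ⟨hct, h.mul_mem_DSet ht'.2.2 ht1 hcD⟩, ⟨hd', hdD⟩,
            ⟨hdt, h.mul_mem_DSet ht'.2.2 ht1 hdD⟩])]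
      rw [Set.ncard_insert_of_notMem, Set.ncard_insert_of_notMem, Set.ncard_pair (hne d)]
      · have : c * t ≠ d := fun e => hcdt (by rw [← e, mul_assoc, ht'.2.2, mul_one])
        simp [this, hcd]
      · simp [hne c, hcd, hcdt]
    · right; left
      refine ⟨?_, Or.inr hdD⟩
      rw [show {e ∈ Swap G x y | e ∈ DSet Ω t} = {c, c * t} from Set.ext fun e => by
        refine ⟨fun he => ?_, ?_⟩
        · rcases hs he with rfl | rfl | rfl | rfl
          exacts [Or.inl rfl, Or.inr rfl, absurd he.2 hdD, absurd (hback d he.2) hdD]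
        · rintro (rfl | rfl)
          exacts [⟨hc, hcD⟩, ⟨hct, h.mul_mem_DSet ht'.2.2 ht1 hcD⟩], Set.ncard_pair (hne c)]
    · right; left
      refine ⟨?_, Or.inl hcD⟩
      rw [show {e ∈ Swap G x y | e ∈ DSet Ω t} = {d, d * t} from Set.ext fun e => by
        refine ⟨fun he => ?_, ?_⟩
        · rcases hs he with rfl | rfl | rfl | rfl
          exacts [absurd he.2 hcD, absurd (hback c he.2) hcD, Or.inl rfl, Or.inr rfl]
        · rintro (rfl | rfl)
          exacts [⟨hd', hdD⟩, ⟨hdt, h.mul_mem_DSet ht'.2.2 ht1 hdD⟩], Set.ncard_pair (hne d)]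
    · left
      refine (Set.ncard_eq_zero (Set.toFinite _)).2 (Set.eq_empty_of_forall_notMem fun e he => ?_)
      rcases hs he with rfl | rfl | rfl | rfl
      exacts [hcD he.2, hcD (hback c he.2), hdD he.2, hdD (hback d he.2)]
  have hmemS : ∀ g ∈ four G x y, z * g ∈ Swap G x y := fun g hg => by
    rw [hset]; exact ⟨g, hg, rfl⟩
  have hsD := hpar z (z * v) (by simpa [mul_assoc] using hsub) (by simpa using hmemS 1 (one_mem _))
    (hmemS t ht) (hmemS v hv) (by rw [mul_assoc]; exact hmemS _ (mul_mem hv ht))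
    (fun e => hv1 (by simpa using e.symm))
    (fun e => hvt (by
      rw [mul_assoc, left_eq_mul] at e
      rw [eq_inv_of_mul_eq_one_left e, inv_eq_of_mul_eq_one_right ht'.2.2]))
  obtain ⟨k', hk'⟩ : ∃ k', (fxFour G x y).ncard = k' + 1 :=
    ⟨_, (Nat.succ_pred_eq_of_pos (by omega)).symm⟩
  obtain ⟨h4, h1, h3, h0⟩ := h.ncard_isT_caseA hxy hz hset hv hv1
  generalize hs : {c ∈ Swap G x y | c ∈ DSet Ω t}.ncard = s at hd hsD
  rw [hk', Nat.add_sub_cancel] at hd
  rw [hk'] at hle ⊢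
  by_cases hzT : IsT Ω z <;> by_cases hzv : IsT Ω (z * v)
  · left
    rw [h4 ⟨hzT, hzv⟩] at hf
    refine ⟨hzT, fun g hg => ?_, hf, ?_⟩
    · by_cases hg1 : g = 1
      · rw [hg1, mul_one]; exact hzT
      · exact (h.isT_mul_iff hxy hz hv hv1 hg hg1).1 hzv
    · rcases hsD with rfl | ⟨rfl, -⟩ | ⟨rfl, -⟩
      · left; omega
      · right; left
        have : (fx t : Set Ω).ncard = k' + 1 + (k' + 1) * k' := by omega
        rw [this]; ring
      · right; right
        rw [show 2 * (k' + 1) - 1 = 2 * k' + 1 by omega]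
        have : (fx t : Set Ω).ncard = k' + 1 + 2 * ((k' + 1) * k') := by omega
        rw [this]; ring
  · right; left
    rw [h1 ⟨hzT, hzv⟩, one_mul] at hf
    refine ⟨hzT, fun g hg hg1 hT => hzv ((h.isT_mul_iff hxy hz hg hg1 hv hv1).1 hT), hf, ?_⟩
    have hzD : z ∉ DSet Ω t := fun hD => hzv ((h.isT_mul_iff hxy hz ht ht1 hv hv1).1
      (hDT _ (h.mul_mem_DSet ht'.2.2 ht1 hD)))
    have hzvD : z * v ∉ DSet Ω t := fun hD => hzv (hDT _ hD)
    rcases hsD with rfl | ⟨rfl, -⟩ | ⟨-, hD, -⟩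
    · omega
    · exfalso
      have hem : {c ∈ Swap G x y | c ∈ DSet Ω t} = ∅ := by
        refine Set.eq_empty_of_forall_notMem fun c hc => ?_
        rcases hsub hc with rfl | rfl | rfl | rfl
        · exact hzD hc.2
        · exact hzD (hback z hc.2)
        · exact hzvD hc.2
        · exact hzvD (hback _ (by rw [mul_assoc]; exact hc.2))
      rw [hem, Set.ncard_empty] at hs
      omega
    · exact absurd hD hzD
  · right; right
    rw [h3 ⟨hzT, hzv⟩] at hf
    refine ⟨hzT, fun g hg hg1 => (h.isT_mul_iff hxy hz hv hv1 hg hg1).1 hzv, ?_, ?_⟩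
    · obtain ⟨i', hi'⟩ : ∃ i', (fx t : Set Ω).ncard = i' + 1 :=
        ⟨_, (Nat.succ_pred_eq_of_pos (by omega)).symm⟩
      rw [hi', Nat.add_sub_cancel] at hf
      rw [hi'] at hlt ⊢
      have : Nat.card Ω = i' + 1 + (i' + 1) * i' := by omega
      rw [this]; ring
    · have hzD : z ∉ DSet Ω t := fun hD => hzT (hDT _ hD)
      rcases hsD with rfl | ⟨rfl, -⟩ | ⟨-, hD, -⟩
      · left; omega
      · right
        have : (fx t : Set Ω).ncard = k' + 1 + (k' + 1) * k' := by omega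
        rw [this]; ring
      · exact absurd hD hzD
  · rw [h0 ⟨hzT, hzv⟩, zero_mul] at hf
    omega

end Hyp

end CfsgLib.TwoPointAltFour
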