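import Cfsg.Agent.TwoPointAltFour.Local
import Cfsg.Agent.TwoPointAltFour.TwentyEight

/-!
# Odd degree: fixed points and the four elements of a four-group
-/

set_option autoImplicit false
set_option linter.unusedSectionVars false
set_option linter.style.haveILetI false

universe u v

namespace CfsgLib.TwoPointAltFour

open MulAction Subgroup

variable {G : Type u} [Group G] [Finite G] {Ω : Type v} [Finite Ω] [MulAction G Ω]

/-- An involutory action on a set of odd order has a fixed point. -/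
theorem exists_fixed_of_odd {g : G} (hg : g * g = 1) {F : Set Ω} (hF : ∀ z ∈ F, g • z ∈ F)
    (hodd : Odd F.ncard) : ∃ z ∈ F, g • z = z := by
  haveI : Fact (Nat.Prime 2) := ⟨Nat.prime_two⟩
  have h1 := ncard_modEq_fixed (p := 2) (g := g) (by rw [pow_two, hg]) F hF
  obtain ⟨a, ha⟩ := hodd
  have hpos : 0 < {z | z ∈ F ∧ g • z = z}.ncard := by
    unfold Nat.ModEq at h1; omega
  obtain ⟨z, hz⟩ := (Set.ncard_pos (Set.toFinite _)).1 hpos
  exact ⟨z, hz.1, hz.2⟩

/-- A 2-group has a fixed point on an invariant set of odd order. -/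
theorem exists_common_fixed_of_odd {P : Subgroup G} (hP : IsPGroup 2 P) {F : Set Ω}
    (hF : ∀ g ∈ P, ∀ z ∈ F, g • z ∈ F) (hodd : Odd F.ncard) :
    ∃ z ∈ F, ∀ g ∈ P, g • z = z := by
  haveI : Fact (Nat.Prime 2) := ⟨Nat.prime_two⟩
  let S : SubMulAction P Ω := ⟨F, fun g z hz => hF g g.2 z hz⟩
  obtain ⟨z, hz⟩ := hP.nonempty_fixed_point_of_prime_not_dvd_card S (by
    rw [show Nat.card S = F.ncard from Nat.card_coe_set_eq F]
    exact hodd.not_two_dvd_nat)
  exact ⟨z.1, z.2, fun g hg => congrArg Subtype.val (hz ⟨g, hg⟩)⟩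

theorem not_two_dvd_mul_pred {i : ℕ} (h : Odd i) : Even (i - 1) := by
  obtain ⟨a, ha⟩ := h
  exact ⟨a, by omega⟩

namespace Hyp

variable (h : Hyp G Ω) {x y : Ω} (hxy : x ≠ y) {t : G} (ht : t ∈ four G x y) (ht1 : t ≠ 1)
include h hxy ht ht1

theorem four_elems {v u : G} (hv : v ∈ four G x y) (hv1 : v ≠ 1) (hvt : v ≠ t) (hu : u ∈ four G x y) :
    u = 1 ∨ u = t ∨ u = v ∨ u = v * t := by
  have ht' := (h.mem_four hxy).1 ht
  by_contra hc
  push Not at hc
  have hsub : ({u, 1, t, v, v * t} : Set G) ⊆ (four G x y : Set G) := by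
    rintro g (rfl | rfl | rfl | rfl | rfl)
    exacts [hu, one_mem _, ht, hv, mul_mem hv ht]
  have h' := Set.ncard_le_ncard hsub (Set.toFinite _)
  have h3 : v * t ≠ t := fun e => hv1 (by simpa using e)
  have h4 : v * t ≠ 1 := fun e => hvt (by
    rw [eq_inv_of_mul_eq_one_left e, inv_eq_of_mul_eq_one_right ht'.2.2])
  have h5 : v * t ≠ v := fun e => ht1 (by simpa using e)
  rw [← Nat.card_coe_set_eq (four G x y : Set G), SetLike.coe_sort_coe, h.card_four hxy,
    Set.ncard_insert_of_notMem, Set.ncard_insert_of_notMem, Set.ncard_insert_of_notMem,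
    Set.ncard_pair h5.symm] at h'
  · omega
  · simp [hvt.symm, h3.symm]
  · simp [ht1.symm, hv1.symm, h4.symm]
  · simp [hc.1, hc.2.1, hc.2.2.1, hc.2.2.2]

theorem exists_third : ∃ v ∈ four G x y, v ≠ 1 ∧ v ≠ t := by
  by_contra hc
  push Not at hc
  have : (four G x y : Set G) ⊆ {1, t} := fun g hg => by
    by_cases hg1 : g = 1
    · exact Or.inl hg1
    · exact Or.inr (hc g hg hg1)
  have h' := Set.ncard_le_ncard this (Set.toFinite _)
  rw [← Nat.card_coe_set_eq, SetLike.coe_sort_coe, h.card_four hxy, Set.ncard_pair ht1.symm] at h'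
  omega

omit ht ht1 in
theorem swap_mem_cn {t c : G} (hc : c ∈ Swap G x y) (hct : c * t = t * c) : c ∈ cn t x y := by
  refine mem_cn.2 ⟨hct, mem_normalizer_iff.2 fun v => ⟨fun hv => h.swap_normalizes hxy hc hv, fun hv => ?_⟩⟩
  have hci : c⁻¹ = c := inv_eq_of_mul_eq_one_right hc.2.2
  have h2 := h.swap_normalizes hxy hc (show c * v * c⁻¹ ∈ four G x y from hv)
  rwa [show c * (c * v * c⁻¹) * c⁻¹ = v by
    calc c * (c * v * c⁻¹) * c⁻¹ = (c * c) * v * (c * c)⁻¹ := by group
      _ = v := by rw [hc.2.2]; group] at h2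

omit ht ht1 in
theorem conj_mem_four {t g : G} (hg : g ∈ cn t x y) {v : G} (hv : v ∈ four G x y) :
    g * v * g⁻¹ ∈ four G x y :=
  (mem_normalizer_iff.1 (mem_cn.1 hg).2 v).1 hv

theorem sq_centralizes {g : G} (hg : g ∈ cn t x y) {v : G} (hv : v ∈ four G x y) :
    g * g * v = v * (g * g) := by
  have ht' := (h.mem_four hxy).1 ht
  have hgt : g * t * g⁻¹ = t := by rw [(mem_cn.1 hg).1, mul_inv_cancel_right]
  have key : g * g * v * (g * g)⁻¹ = v := by
    rw [show g * g * v * (g * g)⁻¹ = g * (g * v * g⁻¹) * g⁻¹ by group]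
    by_cases hv1 : v = 1
    · rw [hv1]; group
    by_cases hvt : v = t
    · rw [hvt, hgt, hgt]
    rcases h.four_elems hxy ht ht1 hv hv1 hvt (h.conj_mem_four hxy hg hv) with e | e | e | e
    · exact absurd (by calc v = g⁻¹ * (g * v * g⁻¹) * g := by group
        _ = 1 := by rw [e]; group) hv1
    · exact absurd (by calc v = g⁻¹ * (g * v * g⁻¹) * g := by group
        _ = g⁻¹ * (g * t * g⁻¹) * g := by rw [e, hgt]
        _ = t := by group) hvt
    · rw [e, e]
    · rw [e, show g * (v * t) * g⁻¹ = g * v * g⁻¹ * (g * t * g⁻¹) by group, e, hgt, mul_assoc,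
        ht'.2.2, mul_one]
  exact mul_inv_eq_iff_eq_mul.1 key

end Hyp

end CfsgLib.TwoPointAltFour
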