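import Cfsg.Agent.TwoPointAltFour.Odd

/-!
# Odd degree, a central exchanging involution, all involutions with fixed points
-/

set_option autoImplicit false
set_option linter.unusedSectionVars false
set_option linter.style.haveILetI false

universe u v

namespace CfsgLib.TwoPointAltFour

open MulAction Subgroup

variable {G : Type u} [Group G] [Finite G] {Ω : Type v} [Finite Ω] [MulAction G Ω] [FaithfulSMul G Ω]

/-- The involutions commuting with `t` that share at most one fixed point with it. -/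
def NDSet (Ω : Type v) [MulAction G Ω] (t : G) : Set G :=
  {c | c * c = 1 ∧ c ≠ 1 ∧ c ≠ t ∧ c * t = t * c ∧ c ∉ DSet Ω t}

theorem dset_symm {t v : G} (ht2 : t * t = 1) (ht1 : t ≠ 1) (hv : v ∈ DSet Ω t) : t ∈ DSet Ω v := by
  obtain ⟨-, -, h3, h4, p, q, hpq, h5, h6, h7, h8⟩ := hv
  exact ⟨ht2, ht1, Ne.symm h3, h4.symm, p, q, hpq, h7, h8, h5, h6⟩

theorem dset_map {t v : G} (g : G) (hv : v ∈ DSet Ω t) : g * v * g⁻¹ ∈ DSet Ω (g * t * g⁻¹) := by
  obtain ⟨h1, h2, h3, h4, p, q, hpq, htp, htq, hvp, hvq⟩ := hv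
  refine ⟨?_, fun e => h2 ?_, fun e => h3 ?_, ?_, g • p, g • q, fun e => hpq (smul_left_cancel g e),
    (fix_conj_iff g t p).1 htp, (fix_conj_iff g t q).1 htq, (fix_conj_iff g v p).1 hvp,
    (fix_conj_iff g v q).1 hvq⟩
  · rw [show g * v * g⁻¹ * (g * v * g⁻¹) = g * (v * v) * g⁻¹ by group, h1]; group
  · calc v = g⁻¹ * (g * v * g⁻¹) * g := by group
      _ = 1 := by rw [e]; group
  · calc v = g⁻¹ * (g * v * g⁻¹) * g := by group
      _ = t := by rw [e]; group
  · calc g * v * g⁻¹ * (g * t * g⁻¹) = g * (v * t) * g⁻¹ := by group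
      _ = g * (t * v) * g⁻¹ := by rw [h4]
      _ = g * t * g⁻¹ * (g * v * g⁻¹) := by group

namespace Hyp

variable (h : Hyp G Ω) (hn : Odd (Nat.card Ω))
include h hn

/-- With four exchanging involutions with fixed points every involution has fixed points. -/
theorem all_isT {x y : Ω} (hxy : x ≠ y) (hA : CaseA G x y) {t : G} (ht : t ∈ four G x y) (ht1 : t ≠ 1)
    (heq : 3 * (Nat.card Ω - (fx t : Set Ω).ncard) =
      4 * ((fx t : Set Ω).ncard * ((fx t : Set Ω).ncard - 1))) {g : G} (hg : g * g = 1) (hg1 : g ≠ 1) :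
    IsT Ω g := by
  obtain ⟨p, hp⟩ : ∃ p : Ω, g • p ≠ p := by
    by_contra hc
    push Not at hc
    exact hg1 (eq_of_smul_eq_smul (α := Ω) fun p => by rw [hc p, one_smul])
  obtain ⟨z', hz', hzc', hset'⟩ := h.caseA_iff hxy hp.symm hA
  obtain ⟨t', ht', ht1'⟩ := h.exists_ne_one hp.symm
  have htT := h.isT_of_mem hxy ht ht1
  have hi : (fx t' : Set Ω).ncard = (fx t : Set Ω).ncard :=
    h.ncard_fx_eq htT (h.isT_of_mem hp.symm ht' ht1')
  have h2 := h.mem_fx_ncard htT
  have hlt := h.ncard_fx_lt htT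
  obtain ⟨i, hidef⟩ : ∃ i, (fx t : Set Ω).ncard = i := ⟨_, rfl⟩
  rw [hidef] at heq h2 hlt hi
  have hpos : 0 < i * (i - 1) := Nat.mul_pos (by omega) (by omega)
  rcases h.numbers_caseA hp.symm ht' ht1' hzc' hset' with ⟨-, hzv, -, -⟩ | ⟨-, -, e, -⟩ | ⟨-, -, e, -⟩
  · have hmem : g ∈ Swap G p (g • p) := ⟨rfl, by rw [← mul_smul, hg, one_smul], hg⟩
    rw [hset'] at hmem
    obtain ⟨v, hv, rfl⟩ := hmem
    exact hzv v hv
  · rw [hi] at e; omega
  · rw [hi] at e
    exfalso
    obtain ⟨j, rfl⟩ : ∃ j, i = j + 1 := ⟨i - 1, by omega⟩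
    rw [Nat.add_sub_cancel] at heq hpos
    have : (j + 1) * (j + 1) = (j + 1) * j + (j + 1) := by ring
    omega

/-- Through a fixed point of `t`: non-`D` involutions and exchanging `D` involutions add to four. -/
theorem nd_count {x y : Ω} (hxy : x ≠ y) (hA : CaseA G x y) {t : G} (ht : t ∈ four G x y) (ht1 : t ≠ 1)
    (hi : Odd (fx t : Set Ω).ncard) {p : Ω} (hp : p ∈ (fx t : Set Ω)) :
    {c ∈ NDSet Ω t | c • p = p}.ncard + {c ∈ Swap G x y | c ∈ DSet Ω t}.ncard = 4 := by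
  have htT := h.isT_of_mem hxy ht ht1
  have ht' := (h.mem_four hxy).1 ht
  have hPT := h.pairTrans_centralizer htT
  have hone : ∀ c ∈ NDSet Ω t, {z | z ∈ (fx t : Set Ω) ∧ c • z = z}.ncard = 1 := by
    rintro c ⟨hc2, hc1, hct, hcc, hcD⟩
    have hle : {z | z ∈ (fx t : Set Ω) ∧ c • z = z}.ncard ≤ 1 := by
      by_contra hlt
      obtain ⟨p', ⟨hp', hcp⟩, q', ⟨hq', hcq⟩, hpq⟩ := (Set.one_lt_ncard (Set.toFinite _)).1
        (by omega : 1 < {z | z ∈ (fx t : Set Ω) ∧ c • z = z}.ncard)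
      exact hcD ⟨hc2, hc1, hct, hcc, p', q', hpq, hp', hq', hcp, hcq⟩
    obtain ⟨z, hz, hcz⟩ := exists_fixed_of_odd hc2 (F := (fx t : Set Ω))
      (fun z hz => smul_mem_fx hcc hz) hi
    have : 0 < {z | z ∈ (fx t : Set Ω) ∧ c • z = z}.ncard := (Set.ncard_pos (Set.toFinite _)).2 ⟨z, hz, hcz⟩
    omega
  have hinv : ConjInv (centralizer ({t} : Set G)) (NDSet Ω t) := by
    rintro g hg c ⟨hc2, hc1, hct, hcc, hcD⟩
    have hgt := mem_centralizer_singleton_iff.1 hg
    have hgi : g⁻¹ * t = t * g⁻¹ := ((show Commute g t from hgt).inv_left).eq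
    refine ⟨?_, fun e => hc1 ?_, fun e => hct ?_, ?_, fun hD => hcD ?_⟩
    · rw [show g * c * g⁻¹ * (g * c * g⁻¹) = g * (c * c) * g⁻¹ by group, hc2]; group
    · calc c = g⁻¹ * (g * c * g⁻¹) * g := by group
        _ = 1 := by rw [e]; group
    · calc c = g⁻¹ * (g * c * g⁻¹) * g := by group
        _ = t := by rw [e, hgi, inv_mul_cancel_right]
    · exact ((show Commute g t from hgt).mul_left hcc).mul_left ((show Commute g t from hgt).inv_left) |>.eq
    · have := h.DSet_conj hgi hD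
      rwa [show g⁻¹ * (g * c * g⁻¹) * g⁻¹⁻¹ = c by group] at this
  obtain ⟨q, hq, hpq⟩ : ∃ q ∈ (fx t : Set Ω), p ≠ q := by
    by_cases e : p = x
    · exact ⟨y, ht'.2.1, e ▸ hxy⟩
    · exact ⟨x, ht'.1, e⟩
  obtain ⟨g, hg, e1, e2⟩ := hPT.trans x ht'.1 y ht'.2.1 hxy p hp q hq hpq
  rw [count_one_fixed hPT hinv (fun c hc => mem_centralizer_singleton_iff.2 hc.2.2.2.1)
      (fun c hc z _ => by rw [← mul_smul, hc.1, one_smul]) hone hp hq hpq,
    ← ncard_congr_conj hinv hg (fun c => c • x = y ∧ c • y = x) (fun c => c • p = q ∧ c • q = p)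
      (fun c => by rw [← e1, ← e2]; exact swap_conj_iff g c x y)]
  have hsw : {c ∈ NDSet Ω t | c • x = y ∧ c • y = x} = Swap G x y \ DSet Ω t := by
    ext c
    constructor
    · rintro ⟨hc, hcx, hcy⟩
      exact ⟨⟨hcx, hcy, hc.1⟩, hc.2.2.2.2⟩
    · rintro ⟨hc, hcD⟩
      refine ⟨⟨hc.2.2, fun e => hxy ?_, fun e => hxy ?_, ?_, hcD⟩, hc.1, hc.2.1⟩
      · have := hc.1; rwa [e, one_smul] at this
      · have := hc.1; rwa [e, ht'.1] at this
      · obtain ⟨z, -, hzc, hset⟩ := hA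
        rw [hset] at hc
        obtain ⟨v, hv, rfl⟩ := hc
        have hv' := (h.mem_four hxy).1 hv
        exact ((show Commute z t from hzc t ht'.1 ht'.2.1).mul_left
          (h.mul_self_comm hxy hv'.1 hv'.2.1 ht'.1 ht'.2.1 hv'.2.2 ht'.2.2)).eq
  rw [hsw, show {c ∈ Swap G x y | c ∈ DSet Ω t} = Swap G x y ∩ DSet Ω t from rfl, add_comm,
    Set.ncard_inter_add_ncard_sdiff_eq_ncard _ _ (Set.toFinite _), h.ncard_swap_caseA hxy hA]

/-- Only the largest of the three values of `i` occurs. -/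
theorem central_four {x y : Ω} (hxy : x ≠ y) {z : G} (hz : z ∈ Swap G x y)
    (hzc : ∀ g : G, g • x = x → g • y = y → z * g = g * z)
    (hset : Swap G x y = (z * ·) '' (four G x y : Set G))
    (hall : ∀ g : G, g * g = 1 → g ≠ 1 → IsT Ω g)
    {t : G} (ht : t ∈ four G x y) (ht1 : t ≠ 1) (hi : Odd (fx t : Set Ω).ncard)
    (hk : Odd (fxFour G x y).ncard)
    (h3 : (fxFour G x y).ncard = (fx t : Set Ω).ncard ∨
      (fx t : Set Ω).ncard = (fxFour G x y).ncard * (fxFour G x y).ncard ∨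
      (fx t : Set Ω).ncard = (fxFour G x y).ncard * (2 * (fxFour G x y).ncard - 1)) :
    (fx t : Set Ω).ncard = (fxFour G x y).ncard * (2 * (fxFour G x y).ncard - 1) ∧
      ∀ v ∈ four G x y, v ≠ 1 → ∀ c ∈ Swap G x y, c ∈ DSet Ω v := by
  have hA : CaseA G x y := ⟨z, hz, hzc, hset⟩
  have htT := h.isT_of_mem hxy ht ht1
  have ht' := (h.mem_four hxy).1 ht
  have hk2 := h.two_le_ncard_fxFour hxy
  obtain ⟨k, hkdef⟩ : ∃ k, (fxFour G x y).ncard = k := ⟨_, rfl⟩
  obtain ⟨i, hidef⟩ : ∃ i, (fx t : Set Ω).ncard = i := ⟨_, rfl⟩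
  rw [hkdef] at h3 hk2 hk
  rw [hidef] at h3 hi
  rw [hidef, hkdef]
  -- exchanging `D` involutions at any pair
  have hsD : ∀ (p q : Ω), p ≠ q → ∀ s ∈ four G p q, s ≠ 1 →
      2 * (i - k) = {c ∈ Swap G p q | c ∈ DSet Ω s}.ncard * (k * (k - 1)) := by
    intro p q hpq s hs hs1
    have := h.d_formula hpq hs hs1
    rwa [h.ncard_fx_eq htT (h.isT_of_mem hpq hs hs1), hidef, h.ncard_fxFour_eq hxy hpq, hkdef] at this
  have hodd_i : ∀ s : G, IsT Ω s → Odd (fx s : Set Ω).ncard := fun s hs => by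
    rw [h.ncard_fx_eq htT hs, hidef]; exact hi
  have hswap : ∀ v ∈ four G x y, z * v ∈ Swap G x y := fun v hv => by
    rw [hset]; exact ⟨v, hv, rfl⟩
  have hz1 : ∀ v ∈ four G x y, z * v ≠ 1 := fun v hv e => hxy (by
    have := (hswap v hv).1; rwa [e, one_smul] at this)
  have hzv : ∀ v ∈ four G x y, z * v = v * z := fun v hv =>
    hzc v ((h.mem_four hxy).1 hv).1 ((h.mem_four hxy).1 hv).2.1
  -- the common fixed point
  obtain ⟨a, ha, hza⟩ := exists_fixed_of_odd hz.2.2 ((h.pairTrans_cn hxy ht ht1).mem z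
    (h.swap_mem_cn hxy hz (hzv t ht))) (hkdef ▸ hk)
  -- elements of `E` fixing `a` and not in the `D`-set of a base count against the bound
  have hbound : ∀ s : G, IsT Ω s → s • a = a → ∀ S : Set G,
      (∀ c ∈ S, c • a = a ∧ c * c = 1 ∧ c ≠ 1 ∧ c ≠ s ∧ c * s = s * c ∧ c ∉ DSet Ω s) →
      ∀ σ, 2 * (i - k) = σ * (k * (k - 1)) → S.ncard + σ ≤ 4 := by
    intro s hsT hsa S hS σ hσ
    obtain ⟨hs2, hs1, p, q, hpq, hsp, hsq⟩ := id hsT
    have hs4 : s ∈ four G p q := (h.mem_four hpq).2 ⟨hsp, hsq, hs2⟩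
    have hc := h.nd_count hn hpq (h.caseA_iff hxy hpq hA) hs4 hs1 (hodd_i s hsT) (p := a) hsa
    have e : {c ∈ Swap G p q | c ∈ DSet Ω s}.ncard = σ :=
      Nat.eq_of_mul_eq_mul_right (Nat.mul_pos (by omega) (by omega)) ((hsD p q hpq s hs4 hs1).symm.trans hσ)
    rw [e] at hc
    have : S.ncard ≤ {c ∈ NDSet Ω s | c • a = a}.ncard :=
      Set.ncard_le_ncard (fun c hc => ⟨(hS c hc).2, (hS c hc).1⟩) (Set.toFinite _)
    omega
  obtain ⟨v, hv, hv1, hvt⟩ := h.exists_third hxy ht ht1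
  have hv' := (h.mem_four hxy).1 hv
  have hvtne : v * t ≠ 1 := fun e => hvt (by
    rw [eq_inv_of_mul_eq_one_left e, inv_eq_of_mul_eq_one_right ht'.2.2])
  have hmem3 : ∀ u ∈ four G x y, u ≠ 1 → u • a = a ∧ u * u = 1 ∧ u * z = z * u := fun u hu _ =>
    ⟨ha u hu, ((h.mem_four hxy).1 hu).2.2, (hzv u hu).symm⟩
  have hVV : ∀ u ∈ four G x y, ∀ u' ∈ four G x y, u * u' = u' * u := fun u hu u' hu' =>
    h.mul_self_comm hxy ((h.mem_four hxy).1 hu).1 ((h.mem_four hxy).1 hu).2.1 ((h.mem_four hxy).1 hu').1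
      ((h.mem_four hxy).1 hu').2.1 ((h.mem_four hxy).1 hu).2.2 ((h.mem_four hxy).1 hu').2.2
  have hzVne : ∀ u ∈ four G x y, ∀ u' ∈ four G x y, u ≠ z * u' := fun u hu u' hu' e => hxy (by
    have h1 := ((h.mem_four hxy).1 hu).1
    rw [e, (hswap u' hu').1] at h1
    exact h1.symm)
  -- the three non-trivial elements of the four-group
  have h3card : ({t, v, v * t} : Set G).ncard = 3 := by
    have e1 : t ≠ v * t := fun e => hv1 (by simpa using e.symm)
    have e2 : v ≠ v * t := fun e => ht1 (by simpa using e.symm)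
    rw [Set.ncard_insert_of_notMem, Set.ncard_pair e2]
    simp [hvt.symm, e1]
  have h3mem : ∀ u ∈ ({t, v, v * t} : Set G), u ∈ four G x y ∧ u ≠ 1 := by
    rintro u (rfl | rfl | rfl)
    exacts [⟨ht, ht1⟩, ⟨hv, hv1⟩, ⟨mul_mem hv ht, hvtne⟩]
  rcases h3 with e | e | e
  · -- no exchanging involution shares two fixed points
    exfalso
    have hσ : 2 * (i - k) = 0 * (k * (k - 1)) := by rw [e, Nat.sub_self, mul_zero, zero_mul]
    have hnD : ∀ u ∈ four G x y, u ≠ 1 → ∀ c ∈ Swap G x y, c ∉ DSet Ω u := by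
      intro u hu hu1 c hc hcD
      have h0 : {c ∈ Swap G x y | c ∈ DSet Ω u}.ncard = 0 :=
        Nat.eq_of_mul_eq_mul_right (Nat.mul_pos (by omega) (by omega)) ((hsD x y hxy u hu hu1).symm.trans hσ)
      rw [Set.ncard_eq_zero (Set.toFinite _)] at h0
      exact (Set.eq_empty_iff_forall_notMem.1 h0) c ⟨hc, hcD⟩
    have hzT := hall z hz.2.2 (by simpa using hz1 1 (one_mem _))
    have hB := hbound z hzT hza ({z * t, z * v} ∪ {t, v, v * t}) ?_ 0 hσ
    · rw [Set.ncard_union_eq, h3card, Set.ncard_pair (fun e' => hvt (mul_left_cancel e').symm)] at hB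
      · omega
      · refine Set.disjoint_left.2 fun c hc1 hc2 => ?_
        obtain ⟨hc4, -⟩ := h3mem c hc2
        rcases hc1 with rfl | rfl
        exacts [hzVne _ hc4 t ht rfl, hzVne _ hc4 v hv rfl]
    · have case1 : ∀ u ∈ four G x y, u ≠ 1 → (z * u) • a = a ∧ (z * u) * (z * u) = 1 ∧ z * u ≠ 1 ∧
          z * u ≠ z ∧ (z * u) * z = z * (z * u) ∧ z * u ∉ DSet Ω z := by
        intro u hu hu1
        refine ⟨by rw [mul_smul, ha u hu, hza], (hswap u hu).2.2, hz1 u hu,
          fun e' => hu1 (by simpa using e'), by rw [mul_assoc, ← hzv u hu], fun hD => ?_⟩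
        -- then `u` would be in the set as well
        have h1 := h.mul_mem_DSet hz.2.2 (by simpa using hz1 1 (one_mem _)) hD
        rw [mul_assoc, ← hzv u hu, ← mul_assoc, hz.2.2, one_mul] at h1
        exact hnD u hu hu1 z hz (dset_symm hz.2.2 (by simpa using hz1 1 (one_mem _)) h1)
      rintro c (hc | hc)
      · rcases hc with rfl | rfl
        exacts [case1 t ht ht1, case1 v hv hv1]
      · obtain ⟨hc4, hc1⟩ := h3mem c hc
        obtain ⟨q1, q2, q3⟩ := hmem3 c hc4 hc1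
        exact ⟨q1, q2, hc1, by have := hzVne c hc4 1 (one_mem _); rwa [mul_one] at this, q3,
          fun hD => hnD c hc4 hc1 z hz (dset_symm hz.2.2 (by simpa using hz1 1 (one_mem _)) hD)⟩
  · -- two exchanging involutions share two fixed points
    exfalso
    have hσ : 2 * (i - k) = 2 * (k * (k - 1)) := by rw [e, Nat.mul_sub_one]
    have h2D : ∀ u ∈ four G x y, u ≠ 1 → {c ∈ Swap G x y | c ∈ DSet Ω u}.ncard = 2 := fun u hu hu1 =>
      Nat.eq_of_mul_eq_mul_right (Nat.mul_pos (by omega) (by omega)) ((hsD x y hxy u hu hu1).symm.trans hσ)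
    have htrans : ∀ u ∈ four G x y, u ≠ 1 → ∀ u' ∈ four G x y, u' ≠ 1 → z ∈ DSet Ω u → z ∈ DSet Ω u' := by
      intro u hu hu1 u' hu' hu1' hD
      have a1 := (h.mem_four hxy).1 hu
      have a2 := (h.mem_four hxy).1 hu'
      obtain ⟨r, hrx, hry, -, hr⟩ := h.exists_conj hxy a1.1 a1.2.1 a2.1 a2.2.1 a1.2.2 hu1 a2.2.2 hu1'
      have := dset_map r hD
      rwa [hr, ← hzc r hrx hry, mul_inv_cancel_right] at this
    by_cases hD : z ∈ DSet Ω t
    · -- the base `z t`
      have hzD : ∀ u ∈ four G x y, u ≠ 1 → z ∈ DSet Ω u := fun u hu hu1 => htrans t ht ht1 u hu hu1 hD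
      have hnot : ∀ u ∈ four G x y, u ≠ 1 → ∀ u' ∈ four G x y, u' ≠ 1 → u' ≠ u →
          z * u' ∉ DSet Ω u := by
        intro u hu hu1 u' hu' hu1' hne hD'
        have hu2 := (h.mem_four hxy).1 hu
        have hzuD := h.mul_mem_DSet hu2.2.2 hu1 (hzD u hu hu1)
        have hsub : ({z, z * u, z * u'} : Set G) ⊆ {c ∈ Swap G x y | c ∈ DSet Ω u} := by
          rintro c (rfl | rfl | rfl)
          exacts [⟨hz, hzD u hu hu1⟩, ⟨hswap u hu, hzuD⟩, ⟨hswap u' hu', hD'⟩]
        have hle := Set.ncard_le_ncard hsub (Set.toFinite _)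
        rw [h2D u hu hu1, Set.ncard_insert_of_notMem, Set.ncard_pair (fun e' => hne (mul_left_cancel e').symm)] at hle
        · omega
        · simp [Ne.symm, hu1, hu1']
      have hB := hbound (z * t) (hall _ (hswap t ht).2.2 (hz1 t ht)) (by rw [mul_smul, ha t ht, hza])
        {v, v * t, z * v} ?_ 2 hσ
      · rw [Set.ncard_insert_of_notMem, Set.ncard_pair (hzVne _ (mul_mem hv ht) v hv)] at hB
        · omega
        · have e2 : v ≠ v * t := fun e' => ht1 (by simpa using e'.symm)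
          simp [e2, hzVne v hv v hv]
      · have case1 : ∀ u ∈ four G x y, u ≠ 1 → u ≠ t → u • a = a ∧ u * u = 1 ∧ u ≠ 1 ∧
            u ≠ z * t ∧ u * (z * t) = (z * t) * u ∧ u ∉ DSet Ω (z * t) := by
          intro u hu hu1 hut
          obtain ⟨q1, q2, q3⟩ := hmem3 u hu hu1
          refine ⟨q1, q2, hu1, hzVne u hu t ht, ?_, fun hD' => ?_⟩
          · rw [← mul_assoc, q3, mul_assoc, hVV u hu t ht, ← mul_assoc]
          · exact hnot u hu hu1 t ht ht1 (Ne.symm hut) (dset_symm (hswap t ht).2.2 (hz1 t ht) hD')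
        rintro c (rfl | rfl | rfl)
        · exact case1 _ hv hv1 hvt
        · exact case1 _ (mul_mem hv ht) hvtne (fun e' => hv1 (by simpa using e'))
        · have hc : z * v * (z * t) = z * t * (z * v) := by
            calc z * v * (z * t) = z * (v * z) * t := by group
              _ = z * (z * v) * t := by rw [hzv v hv]
              _ = z * z * (v * t) := by group
              _ = z * z * (t * v) := by rw [hVV v hv t ht]
              _ = z * (z * t) * v := by group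
              _ = z * (t * z) * v := by rw [hzv t ht]
              _ = z * t * (z * v) := by group
          have hprod : z * v * (z * t) = v * t := by
            calc z * v * (z * t) = z * (v * z) * t := by group
              _ = z * (z * v) * t := by rw [hzv v hv]
              _ = z * z * (v * t) := by group
              _ = v * t := by rw [hz.2.2, one_mul]
          refine ⟨by rw [mul_smul, ha v hv, hza], (hswap v hv).2.2, hz1 v hv,
            fun e' => hvt (mul_left_cancel e'), hc, fun hD' => ?_⟩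
          have h1 := h.mul_mem_DSet (hswap t ht).2.2 (hz1 t ht) hD'
          rw [hprod] at h1
          exact (case1 _ (mul_mem hv ht) hvtne (fun e' => hv1 (by simpa using e'))).2.2.2.2.2 h1
    · -- the base `z`
      have hz1' : z ≠ 1 := by simpa using hz1 1 (one_mem _)
      have hB := hbound z (hall z hz.2.2 hz1') hza {t, v, v * t} ?_ 2 hσ
      · omega
      · intro c hc
        obtain ⟨hc4, hc1⟩ := h3mem c hc
        obtain ⟨q1, q2, q3⟩ := hmem3 c hc4 hc1
        exact ⟨q1, q2, hc1, by have := hzVne c hc4 1 (one_mem _); rwa [mul_one] at this, q3,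
          fun hD' => hD (htrans c hc4 hc1 t ht ht1 (dset_symm hz.2.2 hz1' hD'))⟩
  · refine ⟨e, fun u hu hu1 c hc => ?_⟩
    obtain ⟨l, rfl⟩ : ∃ l, k = l + 1 := ⟨k - 1, by omega⟩
    have hσ : 2 * (i - (l + 1)) = 4 * ((l + 1) * (l + 1 - 1)) := by
      rw [e, Nat.add_sub_cancel, show 2 * (l + 1) - 1 = 2 * l + 1 by omega,
        show (l + 1) * (2 * l + 1) = l + 1 + 2 * ((l + 1) * l) by ring, Nat.add_sub_cancel_left]
      ring
    have h4 : {c ∈ Swap G x y | c ∈ DSet Ω u}.ncard = 4 :=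
      Nat.eq_of_mul_eq_mul_right (Nat.mul_pos (by omega) (by omega)) ((hsD x y hxy u hu hu1).symm.trans hσ)
    have hsub : {c ∈ Swap G x y | c ∈ DSet Ω u} = Swap G x y :=
      Set.eq_of_subset_of_ncard_le (fun c hc => hc.1) (by rw [h4, h.ncard_swap_caseA hxy hA])
        (Set.toFinite _)
    rw [← hsub] at hc
    exact hc.2

end Hyp

end CfsgLib.TwoPointAltFour
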