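import Cfsg.Agent.TwoPointAltFour.Odd
import Cfsg.Agent.TwoPointAltFour.OddGroups
import Cfsg.Agent.ZCGroup.Structure

/-!
# Odd degree, six exchanging involutions: the Sylow 2-subgroups are dihedral
-/

set_option autoImplicit false
set_option linter.unusedSectionVars false
set_option linter.style.haveILetI false

universe u v

namespace CfsgLib.TwoPointAltFour

open MulAction Subgroup

variable {G : Type u} [Group G] [Finite G] {Ω : Type v} [Finite Ω] [MulAction G Ω] [FaithfulSMul G Ω]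

namespace Hyp

variable (h : Hyp G Ω) (hn : Odd (Nat.card Ω)) {x y : Ω} (hxy : x ≠ y) (hS : CaseS G x y)
  {t : G} (ht : t ∈ four G x y) (ht1 : t ≠ 1)
include h hn hxy hS ht ht1

theorem odd_i_caseS : Odd (fx t : Set Ω).ncard ∧ Odd (fxFour G x y).ncard := by
  obtain ⟨h1, h2⟩ := h.numbers_caseS hxy ht ht1 hS
  have hlt := h.ncard_fx_lt (h.isT_of_mem hxy ht ht1)
  have hi : Odd (fx t : Set Ω).ncard := by
    obtain ⟨a, ha⟩ := hn
    exact Nat.odd_iff.2 (by omega)
  refine ⟨hi, ?_⟩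
  rcases h2 with e | e
  · rw [e]; exact hi
  · rw [e] at hi; exact (Nat.odd_mul.1 hi).1

/-- Two square roots of `t` through each of its fixed points. -/
theorem ncard_sqrt {p : Ω} (hp : p ∈ (fx t : Set Ω)) :
    {c | c * c = t ∧ c • p = p}.ncard = 2 := by
  have htT := h.isT_of_mem hxy ht ht1
  obtain ⟨hi, -⟩ := h.odd_i_caseS hn hxy hS ht ht1
  have hA := h.pairTrans_centralizer htT
  set C : Set G := {c | c * c = t} with hC
  have hcomm : ∀ c ∈ C, c * t = t * c := fun c hc => by rw [← show c * c = t from hc, mul_assoc]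
  have hsq : ∀ c ∈ C, ∀ z ∈ (fx t : Set Ω), c • c • z = z := fun c hc z hz => by
    rw [← mul_smul, show c * c = t from hc]; exact hz
  have hone : ∀ c ∈ C, {z | z ∈ (fx t : Set Ω) ∧ c • z = z}.ncard = 1 := by
    intro c hc
    have hle : {z | z ∈ (fx t : Set Ω) ∧ c • z = z}.ncard ≤ 1 := by
      by_contra hlt
      obtain ⟨p', ⟨hp', hcp⟩, q', ⟨hq', hcq⟩, hpq⟩ :=
        (Set.one_lt_ncard (Set.toFinite _)).1 (by omega : 1 < {z | z ∈ (fx t : Set Ω) ∧ c • z = z}.ncard)
      have h4 : c ∈ four G p' q' := by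
        rw [← h.centralizer_inf_pair htT hpq hp' hq']
        exact ⟨mem_centralizer_singleton_iff.2 (hcomm c hc), hcp, hcq⟩
      exact ht1 ((show c * c = t from hc).symm.trans ((h.mem_four hpq).1 h4).2.2)
    have hmod : 0 < {z | z ∈ (fx t : Set Ω) ∧ c • z = z}.ncard := by
      obtain ⟨z, hz, hcz⟩ := exists_common_fixed_of_odd (P := zpowers c) (F := (fx t : Set Ω))
        (by
          refine fun k => ⟨2, Subtype.ext ?_⟩
          obtain ⟨j, hj⟩ := k.2
          show ((k : G)) ^ 2 ^ 2 = 1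
          rw [← show c ^ j = (k : G) from hj, ← zpow_natCast (c ^ j), ← zpow_mul, mul_comm, zpow_mul,
            zpow_natCast, show c ^ 2 ^ 2 = (c * c) * (c * c) by norm_num [pow_succ, mul_assoc], show c * c = t from hc,
            ((h.mem_four hxy).1 ht).2.2, one_zpow])
        (fun g hg z hz => by
          obtain ⟨j, rfl⟩ := hg
          exact smul_mem_fx ((show Commute c t from hcomm c hc).zpow_left j).eq hz) hi
      exact (Set.ncard_pos (Set.toFinite _)).2 ⟨z, hz, hcz c (mem_zpowers c)⟩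
    omega
  obtain ⟨x', hx', y', hy', hne⟩ := (Set.one_lt_ncard (Set.toFinite _)).1
    (h.mem_fx_ncard htT : 1 < (fx t : Set Ω).ncard)
  -- the exchanging square roots at one pair
  obtain ⟨q, hq, hpq⟩ : ∃ q ∈ (fx t : Set Ω), p ≠ q := by
    by_cases e : p = x'
    · exact ⟨y', hy', e ▸ hne⟩
    · exact ⟨x', hx', e⟩
  rw [show {c | c * c = t ∧ c • p = p} = {c ∈ C | c • p = p} from rfl,
    count_one_fixed hA (fun g hg c hc => by
      show g * c * g⁻¹ * (g * c * g⁻¹) = t
      rw [show g * c * g⁻¹ * (g * c * g⁻¹) = g * (c * c) * g⁻¹ by group, show c * c = t from hc,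
        mem_centralizer_singleton_iff.1 hg, mul_inv_cancel_right])
      (fun c hc => mem_centralizer_singleton_iff.2 (hcomm c hc)) hsq hone hp hq hpq]
  have ht4 : t ∈ four G p q := (h.mem_four hpq).2 ⟨hp, hq, ((h.mem_four hxy).1 ht).2.2⟩
  obtain ⟨w, hw, hwt, -, -, hcl⟩ := (h.caseS_iff hxy hpq hS).2.2 t ht4 ht1
  obtain ⟨v, hv, hv1, hvt⟩ := h.exists_third hpq ht4 ht1
  have hwi : w⁻¹ = w := inv_eq_of_mul_eq_one_right hw.2.2
  have ht' := (h.mem_four hpq).1 ht4
  have hconj : w * v * w⁻¹ = v * t := by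
    rcases h.four_elems hpq ht4 ht1 hv hv1 hvt (h.swap_normalizes hpq hw hv) with e | e | e | e
    · exact absurd (by calc v = w⁻¹ * (w * v * w⁻¹) * w := by group
        _ = 1 := by rw [e]; group) hv1
    · exact absurd (by calc v = w⁻¹ * (w * v * w⁻¹) * w := by group
        _ = w⁻¹ * (t * w) := by rw [e]; group
        _ = t := by rw [← hwt]; group) hvt
    · rcases hcl v hv (mul_inv_eq_iff_eq_mul.1 e) with e' | e'
      · exact absurd e' hv1
      · exact absurd e' hvt
    · exact e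
  have hvv := ((h.mem_four hpq).1 hv).2.2
  have hvtc : v * t = t * v :=
    h.mul_self_comm hpq ((h.mem_four hpq).1 hv).1 ((h.mem_four hpq).1 hv).2.1 ht'.1 ht'.2.1 hvv ht'.2.2
  have hroot : w * v * (w * v) = t := by
    calc w * v * (w * v) = w * v * w⁻¹ * ((w * w) * v) := by group
      _ = v * t * v := by rw [hconj, hw.2.2, one_mul]
      _ = t * (v * v) := by rw [hvtc, mul_assoc]
      _ = t := by rw [hvv, mul_one]
  have hroot' : w * (v * t) * (w * (v * t)) = t := by
    have hc : Commute (w * v) t := (show Commute w t from hwt).mul_left hvtc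
    calc w * (v * t) * (w * (v * t)) = (w * v) * (t * (w * v)) * t := by group
      _ = (w * v * (w * v)) * (t * t) := by rw [← hc.eq]; group
      _ = t := by rw [hroot, ht'.2.2, mul_one]
  have hswap : ∀ u ∈ four G p q, (w * u) • p = q ∧ (w * u) • q = p := fun u hu => by
    have hu' := (h.mem_four hpq).1 hu
    exact ⟨by rw [mul_smul, hu'.1, hw.1], by rw [mul_smul, hu'.2.1, hw.2.1]⟩
  rw [show {c ∈ C | c • p = q ∧ c • q = p} = {w * v, w * (v * t)} from ?_, Set.ncard_pair]
  · exact fun e => ht1 (by simpa using e)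
  ext c
  constructor
  · rintro ⟨hc, hcp, hcq⟩
    have hu : w * c ∈ four G p q := by
      rw [← h.centralizer_inf_pair htT hpq hp hq]
      refine ⟨mem_centralizer_singleton_iff.2 ((show Commute w t from hwt).mul_left (hcomm c hc)).eq,
        ?_, ?_⟩
      · show (w * c) • p = p
        rw [mul_smul, hcp, hw.2.1]
      · show (w * c) • q = q
        rw [mul_smul, hcq, hw.1]
    have hce : c = w * (w * c) := by rw [← mul_assoc, hw.2.2, one_mul]
    rcases h.four_elems hpq ht4 ht1 hv hv1 hvt hu with e | e | e | e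
    · exfalso
      rw [e, mul_one] at hce
      refine ht1 ?_
      rw [← show c * c = t from hc, hce, hw.2.2]
    · exfalso
      rw [e] at hce
      refine ht1 ?_
      rw [← show c * c = t from hc, hce,
        show w * t * (w * t) = w * (t * w) * t by group, ← hwt,
        show w * (w * t) * t = (w * w) * (t * t) by group, hw.2.2, ht'.2.2, one_mul]
    · rw [e] at hce; exact Or.inl hce
    · rw [e] at hce; exact Or.inr hce
  · rintro (rfl | rfl)
    exacts [⟨hroot, hswap v hv⟩, ⟨hroot', hswap _ (mul_mem hv ht4)⟩]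

theorem mod_four : ((fxFour G x y).ncard - 1) % 4 = 2 := by
  haveI : Fact (Nat.Prime 2) := ⟨Nat.prime_two⟩
  have ht' := (h.mem_four hxy).1 ht
  obtain ⟨-, hk⟩ := h.odd_i_caseS hn hxy hS ht ht1
  obtain ⟨w, hw, hwt, hwt', hwcl, hcl⟩ := hS.2.2 t ht ht1
  have hwcn := h.swap_mem_cn hxy hw hwt
  have hA := h.pairTrans_cn hxy ht ht1
  obtain ⟨a, ha, hwa⟩ := exists_fixed_of_odd hw.2.2 (hA.mem w hwcn) hk
  set C : Set G := {c | c ∈ cn t x y ∧ c * c = 1 ∧ c ∉ four G x y} with hC
  have hone : ∀ c ∈ C, {z | z ∈ fxFour G x y ∧ c • z = z}.ncard = 1 := by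
    rintro c ⟨hc, hc2, hcV⟩
    have hle : {z | z ∈ fxFour G x y ∧ c • z = z}.ncard ≤ 1 := by
      by_contra hlt
      obtain ⟨p', ⟨hp', hcp⟩, q', ⟨hq', hcq⟩, hpq⟩ :=
        (Set.one_lt_ncard (Set.toFinite _)).1 (by omega : 1 < {z | z ∈ fxFour G x y ∧ c • z = z}.ncard)
      exact hcV (by rw [← h.cn_inf_pair hxy ht ht1 hp' hq' hpq]; exact ⟨hc, hcp, hcq⟩)
    obtain ⟨z, hz, hcz⟩ := exists_fixed_of_odd hc2 (hA.mem c hc) hk
    have : 0 < {z | z ∈ fxFour G x y ∧ c • z = z}.ncard := (Set.ncard_pos (Set.toFinite _)).2 ⟨z, hz, hcz⟩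
    omega
  have hinv : ConjInv (cn t x y) C := by
    rintro g hg c ⟨hc, hc2, hcV⟩
    refine ⟨mul_mem (mul_mem hg hc) (inv_mem hg), ?_, fun hmem => hcV ?_⟩
    · rw [show g * c * g⁻¹ * (g * c * g⁻¹) = g * (c * c) * g⁻¹ by group, hc2]; group
    · have := h.conj_mem_four hxy (inv_mem hg) hmem
      simpa [mul_assoc] using this
  have hnotV : ∀ c ∈ Swap G x y, c ∉ four G x y := fun c hc hmem => hxy (by
    rw [← hc.1, ((h.mem_four hxy).1 hmem).1])
  have hswC : {c ∈ C | c • x = y ∧ c • y = x} = {w, w * t} := by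
    ext c
    constructor
    · rintro ⟨⟨hc, hc2, -⟩, hcx, hcy⟩
      exact hwcl c ⟨hcx, hcy, hc2⟩ (mem_cn.1 hc).1
    · rintro (rfl | rfl)
      · exact ⟨⟨hwcn, hw.2.2, hnotV _ hw⟩, hw.1, hw.2.1⟩
      · exact ⟨⟨mul_mem hwcn ⟨mem_centralizer_singleton_iff.2 rfl, le_normalizer ht⟩, hwt'.2.2,
          hnotV _ hwt'⟩, hwt'.1, hwt'.2.1⟩
  have hcount : {c ∈ C | c • a = a}.ncard = 2 := by
    obtain ⟨p, hp, hap⟩ : ∃ p ∈ fxFour G x y, a ≠ p := by
      by_cases e : a = x
      · exact ⟨y, h.right_mem_fxFour hxy, e ▸ hxy⟩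
      · exact ⟨x, h.left_mem_fxFour hxy, e⟩
    rw [count_one_fixed hA hinv (fun c hc => hc.1) (fun c hc z _ => by rw [← mul_smul, hc.2.1, one_smul])
      hone ha hp hap]
    obtain ⟨g, hg, e1, e2⟩ := hA.trans x (h.left_mem_fxFour hxy) y (h.right_mem_fxFour hxy) hxy a ha p hp hap
    rw [← Set.ncard_pair (show w ≠ w * t from fun e => ht1 (by simpa using e.symm)), ← hswC]
    exact (ncard_congr_conj hinv hg (fun c => c • x = y ∧ c • y = x)
      (fun c => c • a = p ∧ c • p = a) (fun c => by rw [← e1, ← e2]; exact swap_conj_iff g c x y)).symm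
  have hCa : {c ∈ C | c • a = a} = {w, w * t} := by
    refine (Set.eq_of_subset_of_ncard_le ?_ (by
      rw [hcount, Set.ncard_pair (show w ≠ w * t from fun e => ht1 (by simpa using e.symm))])
      (Set.toFinite _)).symm
    rintro c (rfl | rfl)
    · exact ⟨⟨hwcn, hw.2.2, hnotV _ hw⟩, hwa⟩
    · exact ⟨⟨mul_mem hwcn ⟨mem_centralizer_singleton_iff.2 rfl, le_normalizer ht⟩, hwt'.2.2,
        hnotV _ hwt'⟩, by rw [mul_smul, ha t ht, hwa]⟩
  have hstep : ∀ g ∈ cn t x y, g • a = a → g * g ∈ four G x y →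
      g ∈ four G x y ∨ w * g ∈ four G x y := by
    intro g hg hga hgg
    by_cases hfix : g • x = x ∧ g • y = y
    · left
      rw [← h.cn_inf_pair hxy ht ht1 (h.left_mem_fxFour hxy) (h.right_mem_fxFour hxy) hxy]
      exact ⟨hg, hfix⟩
    right
    obtain ⟨p, hp, hgp⟩ : ∃ p ∈ fxFour G x y, g • p ≠ p := by
      rw [not_and_or] at hfix
      rcases hfix with e | e
      exacts [⟨x, h.left_mem_fxFour hxy, e⟩, ⟨y, h.right_mem_fxFour hxy, e⟩]
    have hq := hA.mem g hg p hp
    have hgq : g • g • p = p := by rw [← mul_smul]; exact hp _ hgg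
    have e4 := h.four_eq_of_mem hxy (Ne.symm hgp) hp hq
    obtain ⟨w', hw', hwt'', -, -, -⟩ :=
      (h.caseS_iff hxy (Ne.symm hgp) hS).2.2 t (e4.symm ▸ ht) ht1
    have hw'cn : w' ∈ cn t x y := by
      have := h.swap_mem_cn (Ne.symm hgp) hw' hwt''
      rwa [cn, e4] at this
    have hv : w' * g ∈ four G x y := by
      rw [← h.cn_inf_pair hxy ht ht1 hp hq (Ne.symm hgp)]
      exact ⟨mul_mem hw'cn hg, by show (w' * g) • p = p; rw [mul_smul, hw'.2.1],
        by show (w' * g) • g • p = g • p; rw [mul_smul, hgq, hw'.1]⟩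
    have hw'a : w' ∈ {c ∈ C | c • a = a} := by
      refine ⟨⟨hw'cn, hw'.2.2, fun hmem => hgp ?_⟩, ?_⟩
      · exact hw'.1.symm.trans (hp w' hmem)
      · have h1 : (w' * g) • a = a := ha _ hv
        rwa [mul_smul, hga] at h1
    rw [hCa] at hw'a
    rcases hw'a with e | e
    · exact e ▸ hv
    · have he : w * g = t * (w' * g) := by
        rw [e, show t * (w * t * g) = t * (w * t) * g by group, hwt,
          show t * (t * w) * g = (t * t) * (w * g) by group, ht'.2.2, one_mul]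
      rw [he]
      exact mul_mem ht hv
  -- no larger 2-subgroup
  by_contra hmod
  set M := cn t x y ⊓ stabilizer G a with hMdef
  have hM : Nat.card M = ((fxFour G x y).ncard - 1) * 4 := h.card_cn_point hxy ht ht1 ha
  obtain ⟨P, hP⟩ := Sylow.exists_subgroup_card_pow_prime (G := M) 2 (n := 4) (by
    rw [hM]
    obtain ⟨b, hb⟩ := hk
    obtain ⟨c, hc⟩ : 4 ∣ (fxFour G x y).ncard - 1 := by omega
    exact ⟨c, by rw [hc]; ring⟩)
  have hroot : ∀ g ∈ cn t x y, g • a = a → (g * g ∈ four G x y ∨ w * (g * g) ∈ four G x y) →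
      g ∈ four G x y ∨ w * g ∈ four G x y := by
    intro g hg hga hgg
    refine hstep g hg hga ?_
    rcases hgg with e | e
    · exact e
    exfalso
    -- then `w` would centralise the four-group
    obtain ⟨v, hv, hv1, hvt⟩ := h.exists_third hxy ht ht1
    have h1 := h.sq_centralizes hxy ht ht1 hg hv
    have h2 : w * (g * g) * v = v * (w * (g * g)) := by
      have := (h.mem_four hxy).1 e
      exact h.mul_self_comm hxy this.1 this.2.1 ((h.mem_four hxy).1 hv).1 ((h.mem_four hxy).1 hv).2.1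
        this.2.2 ((h.mem_four hxy).1 hv).2.2
    have h3 : w * v = v * w := mul_right_cancel (b := g * g) (by
      rw [mul_assoc w v, ← h1, ← mul_assoc w, h2]; group)
    rcases hcl v hv h3 with e' | e'
    exacts [hv1 e', hvt e']
  have hall : ∀ g : P, ((g : M) : G) ∈ four G x y ∨ w * ((g : M) : G) ∈ four G x y := by
    intro g
    obtain ⟨hgc, hga⟩ := (g : M).2
    have h16 : ((g : M) : G) ^ 16 = 1 := by
      have h1 : g ^ Nat.card P = 1 := pow_card_eq_one'
      rw [hP] at h1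
      exact congrArg (fun z : P => ((z : M) : G)) h1
    have step : ∀ j : ℕ,
        (((g : M) : G) ^ (2 * j) ∈ four G x y ∨ w * ((g : M) : G) ^ (2 * j) ∈ four G x y) →
        (((g : M) : G) ^ j ∈ four G x y ∨ w * ((g : M) : G) ^ j ∈ four G x y) := fun j hj =>
      hroot _ (pow_mem hgc j) (by
        have : ((g : M) : G) ^ j ∈ stabilizer G a := pow_mem hga j
        exact this) (by rwa [← pow_add, ← two_mul])
    have h8 := step 8 (Or.inl (by rw [show 2 * 8 = 16 from rfl, h16]; exact one_mem _))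
    have h4 := step 4 h8
    have h2 := step 2 h4
    simpa using step 1 h2
  let f : P → Set.Elem ((four G x y : Set G) ∪ (w * ·) '' (four G x y : Set G)) := fun g =>
    ⟨((g : M) : G), (hall g).imp id fun e => ⟨w * ((g : M) : G), e, by
      show w * (w * ((g : M) : G)) = ((g : M) : G)
      rw [← mul_assoc, hw.2.2, one_mul]⟩⟩
  have h1 := Nat.card_le_card_of_injective f (fun g g' e => Subtype.ext (Subtype.ext (congrArg Subtype.val e :)))
  have h2 : ((four G x y : Set G) ∪ (w * ·) '' (four G x y : Set G)).ncard ≤ 8 := by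
    refine le_trans (Set.ncard_union_le _ _) ?_
    rw [Set.ncard_image_of_injective _ (mul_right_injective w), ← Nat.card_coe_set_eq,
      SetLike.coe_sort_coe, h.card_four hxy]
  rw [hP, Nat.card_coe_set_eq] at h1
  omega

theorem two_mul_card_centralizer_four :
    2 * Nat.card (centralizer (four G x y : Set G)) =
      (fxFour G x y).ncard * ((fxFour G x y).ncard - 1) * 4 := by
  obtain ⟨w, hw, hwt, -, -, hcl⟩ := hS.2.2 t ht ht1
  obtain ⟨v, hv, hv1, hvt⟩ := h.exists_third hxy ht ht1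
  have ht' := (h.mem_four hxy).1 ht
  have hwcn := h.swap_mem_cn hxy hw hwt
  set D := (centralizer (four G x y : Set G)).subgroupOf (cn t x y) with hD
  have hle : centralizer (four G x y : Set G) ≤ cn t x y :=
    le_inf (centralizer_le (by simpa using ht)) (centralizer_le_normalizer _)
  -- an element of `cn` centralising `v` centralises the four-group
  have hv_iff : ∀ g : cn t x y, g ∈ D ↔ (g : G) * v * (g : G)⁻¹ = v := by
    intro g
    rw [hD, mem_subgroupOf, mem_centralizer_iff]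
    constructor
    · intro hg
      rw [← hg v hv, mul_inv_cancel_right]
    · intro hg u hu
      have hgt := (mem_cn.1 g.2).1
      have hgv : (g : G) * v = v * g := mul_inv_eq_iff_eq_mul.1 hg
      rcases h.four_elems hxy ht ht1 hv hv1 hvt hu with rfl | rfl | rfl | rfl
      · rw [one_mul, mul_one]
      · exact hgt.symm
      · exact hgv.symm
      · exact ((show Commute (g : G) v from hgv).mul_right hgt).symm.eq
  have himg : ∀ g : cn t x y, (g : G) * v * (g : G)⁻¹ = v ∨ (g : G) * v * (g : G)⁻¹ = v * t := by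
    intro g
    rcases h.four_elems hxy ht ht1 hv hv1 hvt (h.conj_mem_four hxy g.2 hv) with e | e | e | e
    · exact absurd (by calc v = (g : G)⁻¹ * ((g : G) * v * (g : G)⁻¹) * g := by group
        _ = 1 := by rw [e]; group) hv1
    · exact absurd (by calc v = (g : G)⁻¹ * ((g : G) * v * (g : G)⁻¹) * g := by group
        _ = (g : G)⁻¹ * (t * g) := by rw [e]; group
        _ = t := by rw [← (mem_cn.1 g.2).1]; group) hvt
    · exact Or.inl e
    · exact Or.inr e
  have hwne : w * v * w⁻¹ = v * t := by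
    refine (himg ⟨w, hwcn⟩).resolve_left fun e => ?_
    rcases hcl v hv (mul_inv_eq_iff_eq_mul.1 e) with e' | e'
    exacts [hv1 e', hvt e']
  have hidx : D.index = 2 := by
    refine index_eq_two_iff.2 ⟨⟨w, hwcn⟩, fun g => ?_⟩
    rw [hv_iff g, hv_iff (g * ⟨w, hwcn⟩)]
    show Xor ((g : G) * w * v * ((g : G) * w)⁻¹ = v) _
    rw [show (g : G) * w * v * ((g : G) * w)⁻¹ = (g : G) * (w * v * w⁻¹) * (g : G)⁻¹ by group, hwne,
      show (g : G) * (v * t) * (g : G)⁻¹ = (g : G) * v * (g : G)⁻¹ * ((g : G) * t * (g : G)⁻¹) by group,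
      show (g : G) * t * (g : G)⁻¹ = t by rw [(mem_cn.1 g.2).1, mul_inv_cancel_right]]
    rcases himg g with e | e
    · exact Or.inr ⟨e, by rw [e]; exact fun e' => ht1 (by simpa using e')⟩
    · exact Or.inl ⟨by rw [e, mul_assoc, ht'.2.2, mul_one],
        by rw [e]; exact fun e' => ht1 (by simpa using e')⟩
  have h1 := D.card_mul_index
  rw [hidx, h.card_cn hxy ht ht1, hD, Nat.card_congr (subgroupOfEquivOfLe hle).toEquiv] at h1
  rw [← h1, mul_comm]

theorem dihType : GW.DihType G := by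
  haveI : Fact (Nat.Prime 2) := ⟨Nat.prime_two⟩
  have hVp : IsPGroup 2 (four G x y) := IsPGroup.of_card (n := 2) (by rw [h.card_four hxy]; norm_num)
  obtain ⟨P, hP⟩ := hVp.exists_le_sylow
  have hC : (P : Subgroup G) ⊓ centralizer (four G x y : Set G) ≤ four G x y := by
    have hle : four G x y ≤ (P : Subgroup G) ⊓ centralizer (four G x y : Set G) := le_inf hP fun g hg => by
      refine mem_centralizer_iff.2 fun u hu => ?_
      have a := (h.mem_four hxy).1 hg
      have b := (h.mem_four hxy).1 hu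
      exact h.mul_self_comm hxy b.1 b.2.1 a.1 a.2.1 b.2.2 a.2.2
    refine (eq_of_le_of_card_ge hle ?_).ge
    obtain ⟨j, hj⟩ := IsPGroup.iff_card.1 (P.isPGroup'.to_le (inf_le_left :
      (P : Subgroup G) ⊓ centralizer (four G x y : Set G) ≤ P))
    have hd : Nat.card ((P : Subgroup G) ⊓ centralizer (four G x y : Set G) : Subgroup G) ∣
        Nat.card (centralizer (four G x y : Set G)) := card_dvd_of_le inf_le_right
    have hm := h.mod_four hn hxy hS ht ht1
    obtain ⟨-, hk⟩ := h.odd_i_caseS hn hxy hS ht ht1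
    obtain ⟨c, hc⟩ : ∃ c, ((fxFour G x y).ncard - 1) = 2 * (2 * c + 1) :=
      ⟨((fxFour G x y).ncard - 1) / 4, by omega⟩
    have h2 := h.two_mul_card_centralizer_four hn hxy hS ht ht1
    rw [hc, show (fxFour G x y).ncard * (2 * (2 * c + 1)) * 4 =
      2 * (4 * ((fxFour G x y).ncard * (2 * c + 1))) by ring] at h2
    rw [Nat.eq_of_mul_eq_mul_left (by norm_num) h2, hj] at hd
    rw [hj, h.card_four hxy]
    exact Nat.le_of_dvd (by norm_num)
      (((Nat.coprime_two_left.2 (hk.mul ⟨c, rfl⟩)).pow_left j).dvd_of_dvd_mul_right hd)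
  -- inside the Sylow subgroup
  haveI hKF : IsKleinFour ((four G x y).subgroupOf (P : Subgroup G)) := by
    refine ⟨by rw [Nat.card_congr (subgroupOfEquivOfLe hP).toEquiv, h.card_four hxy], ?_⟩
    refine Nat.dvd_antisymm (Monoid.exponent_dvd_of_forall_pow_eq_one fun g => ?_) ?_
    · rw [pow_two]
      exact Subtype.ext (Subtype.ext ((h.mem_four hxy).1 g.2).2.2)
    · have h1 : orderOf (⟨⟨t, hP ht⟩, ht⟩ : (four G x y).subgroupOf (P : Subgroup G)) = 2 :=
        orderOf_eq_prime (by rw [pow_two]; exact Subtype.ext (Subtype.ext ((h.mem_four hxy).1 ht).2.2))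
          (fun e => ht1 (congrArg (fun z : (four G x y).subgroupOf (P : Subgroup G) => ((z : ↥(P : Subgroup G)) : G)) e))
      have h3 := Monoid.order_dvd_exponent (⟨⟨t, hP ht⟩, ht⟩ : (four G x y).subgroupOf (P : Subgroup G))
      rwa [h1] at h3
  let S : Sylow 2 ↥(P : Subgroup G) := default
  have hS' : (S : Subgroup ↥(P : Subgroup G)) = ⊤ := by
    refine (S.is_maximal' ?_ le_top).symm
    exact P.isPGroup'.of_equiv (topEquiv (G := ↥(P : Subgroup G))).symm
  have hdq := ZCGroup.dihedral_or_quasi (H := (⊤ : Subgroup ↥(P : Subgroup G))) S hKF le_top (by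
    rintro g ⟨-, hg⟩
    refine hC ⟨g.2, mem_centralizer_iff.2 fun u hu => ?_⟩
    exact congrArg Subtype.val (mem_centralizer_iff.1 hg ⟨u, hP hu⟩ hu))
  rw [hS', inf_top_eq] at hdq
  rcases hdq with ⟨m, -, ⟨e⟩⟩ | ⟨m, hm, hcard, x₀, y₀, hx₀, hy₀, hyx⟩
  · exact GW.dihType_of_sylow P ((topEquiv (G := ↥(P : Subgroup G))).symm.trans e)
  exfalso
  set c : G := ((x₀ : ↥(P : Subgroup G)) : G) with hcdef
  set d : G := ((y₀ : ↥(P : Subgroup G)) : G) with hddef
  have hord : orderOf c = 2 ^ m := by rw [← hx₀, hcdef, Subgroup.orderOf_coe, Subgroup.orderOf_coe]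
  have hd2 : d * d = 1 := by
    have h1 := pow_orderOf_eq_one y₀
    rw [hy₀, pow_two] at h1
    exact congrArg (fun z : (⊤ : Subgroup ↥(P : Subgroup G)) => ((z : ↥(P : Subgroup G)) : G)) h1
  have hdc : d * c * d⁻¹ = c ^ (2 ^ (m - 1) - 1) :=
    congrArg (fun z : (⊤ : Subgroup ↥(P : Subgroup G)) => ((z : ↥(P : Subgroup G)) : G)) hyx
  obtain ⟨l, rfl⟩ : ∃ l, m = l + 3 := ⟨m - 3, by omega⟩
  rw [show l + 3 - 1 = l + 2 by omega] at hdc
  have hpos : 1 ≤ 2 ^ l := Nat.one_le_two_pow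
  set s := c ^ (2 ^ (l + 2)) with hsdef
  have hs2 : s * s = 1 := by
    rw [hsdef, ← pow_add, ← two_mul, ← pow_succ', ← hord, pow_orderOf_eq_one]
  have hne : ∀ j, 0 < j → j < 2 ^ (l + 3) → c ^ j ≠ 1 := fun j h1 h2' e => by
    have := Nat.le_of_dvd h1 (orderOf_dvd_of_pow_eq_one e)
    rw [hord] at this
    omega
  have hs1 : s ≠ 1 := hne _ (by positivity) (Nat.pow_lt_pow_right (by norm_num) (by omega))
  set j₀ := 2 ^ (l + 1) with hj₀
  have e22 : 2 ^ (l + 2) = 2 * j₀ := by rw [hj₀, pow_succ']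
  have e23 : 2 ^ (l + 3) = 4 * j₀ := by rw [hj₀, pow_succ', pow_succ']; ring
  have hj2 : 2 ≤ j₀ := by rw [hj₀, pow_succ]; omega
  have hr1 : c ^ j₀ * c ^ j₀ = s := by rw [hsdef, e22, ← pow_add, two_mul]
  have hr2 : c ^ (3 * j₀) * c ^ (3 * j₀) = s := by
    rw [hsdef, e22, ← pow_add, show 3 * j₀ + 3 * j₀ = 4 * j₀ + 2 * j₀ by ring, pow_add, ← e23, ← hord,
      pow_orderOf_eq_one, one_mul]
  have hr3 : c * d * (c * d) = s := by
    rw [show c * d * (c * d) = c * (d * c * d⁻¹) * (d * d) by group, hdc, hd2, mul_one, ← pow_succ',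
      hsdef, show 2 ^ (l + 2) - 1 + 1 = 2 ^ (l + 2) by omega]
  have hdiff : c ^ j₀ ≠ c ^ (3 * j₀) := fun e => hne (2 * j₀) (by omega) (by omega) (by
    have : c ^ j₀ * 1 = c ^ j₀ * c ^ (2 * j₀) := by
      rw [mul_one, ← pow_add, show j₀ + 2 * j₀ = 3 * j₀ by ring]; exact e
    exact (mul_left_cancel this).symm)
  have hnot : ∀ j, c * d ≠ c ^ j := fun j e => by
    have hdcomm : d * c = c * d := by
      have h1 : d = c⁻¹ * c ^ j := by rw [← e, inv_mul_cancel_left]
      rw [h1]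
      group
    rw [hdcomm, mul_inv_cancel_right] at hdc
    have h2' : c ^ (2 ^ (l + 2) - 2) * c = 1 * c := by
      rw [one_mul, ← pow_succ, show 2 ^ (l + 2) - 2 + 1 = 2 ^ (l + 2) - 1 by omega]
      exact hdc.symm
    exact hne _ (by omega) (by omega) (mul_right_cancel h2')
  have hsT := h.isT_of_caseS hxy hS hs2 hs1
  obtain ⟨-, -, p, q, hpq, hsp, hsq⟩ := id hsT
  have hs4 : s ∈ four G p q := (h.mem_four hpq).2 ⟨hsp, hsq, hs2⟩
  have hSpq := h.caseS_iff hxy hpq hS
  -- the Sylow subgroup centralises `s`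
  have hsd : d * s = s * d := by
    have h1 : d * s * d⁻¹ = s := by
      rw [hsdef, ← conj_pow, hdc, ← pow_mul]
      have h2' : (2 ^ (l + 2) - 1) * 2 ^ (l + 2) = 2 ^ (l + 3) * (2 ^ (l + 1) - 1) + 2 ^ (l + 2) := by
        rw [← hj₀, e22, e23]
        obtain ⟨r, hr⟩ : ∃ r, j₀ = r + 1 := ⟨j₀ - 1, by omega⟩
        rw [hr, show 2 * (r + 1) - 1 = 2 * r + 1 by omega, Nat.add_sub_cancel]
        ring
      rw [h2', pow_add, pow_mul, ← hord, pow_orderOf_eq_one, one_pow, one_mul]
    exact mul_inv_eq_iff_eq_mul.1 h1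
  set Q : Subgroup G := zpowers c ⊔ zpowers d with hQdef
  have hQP : Q ≤ (P : Subgroup G) := sup_le (zpowers_le.2 (x₀ : ↥(P : Subgroup G)).2)
    (zpowers_le.2 (y₀ : ↥(P : Subgroup G)).2)
  have hQs : ∀ g ∈ Q, g * s = s * g := by
    have hle : Q ≤ centralizer ({s} : Set G) := sup_le
      (zpowers_le.2 (mem_centralizer_singleton_iff.2 (by rw [hsdef, ← pow_succ, ← pow_succ'])))
      (zpowers_le.2 (mem_centralizer_singleton_iff.2 hsd))
    exact fun g hg => mem_centralizer_singleton_iff.1 (hle hg)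
  obtain ⟨hi, -⟩ := h.odd_i_caseS hn hpq hSpq hs4 hs1
  obtain ⟨a, ha, hfix⟩ := exists_common_fixed_of_odd (P.isPGroup'.to_le hQP)
    (F := (fx s : Set Ω)) (fun g hg z hz => smul_mem_fx (hQs g hg) hz) hi
  have h2s := h.ncard_sqrt hn hpq hSpq hs4 hs1 ha
  have hcQ : c ∈ Q := mem_sup_left (mem_zpowers c)
  have hdQ : d ∈ Q := mem_sup_right (mem_zpowers d)
  have hsub : ({c ^ j₀, c ^ (3 * j₀), c * d} : Set G) ⊆ {g | g * g = s ∧ g • a = a} := by
    rintro g (rfl | rfl | rfl)
    exacts [⟨hr1, hfix _ (pow_mem hcQ _)⟩, ⟨hr2, hfix _ (pow_mem hcQ _)⟩, ⟨hr3, hfix _ (mul_mem hcQ hdQ)⟩]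
  have h3' := Set.ncard_le_ncard hsub (Set.toFinite _)
  rw [h2s, Set.ncard_insert_of_notMem (by simp [hdiff, (hnot j₀).symm]),
    Set.ncard_pair (hnot (3 * j₀)).symm] at h3'
  omega

end Hyp

end CfsgLib.TwoPointAltFour
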