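import Cfsg.Agent.TwoPointAltFour.TwentyEight

/-!
# Degree sixteen: lines and parallel classes
-/

set_option autoImplicit false
set_option linter.unusedSectionVars false
set_option linter.style.haveILetI false

universe u v

namespace CfsgLib.TwoPointAltFour

open MulAction Subgroup

variable {G : Type u} [Group G] [Finite G] {Ω : Type v} [Finite Ω] [MulAction G Ω]

/-- The data of degree sixteen. -/
structure Sixteen (G : Type u) [Group G] (Ω : Type v) [MulAction G Ω] : Prop where
  hyp : Hyp G Ω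
  card : Nat.card Ω = 16
  line : ∀ p q : Ω, p ≠ q → (fxFour G p q).ncard = 4
  fix : ∀ p q : Ω, p ≠ q → ∀ t ∈ four G p q, t ≠ 1 → fx t = fxFour G p q

theorem Hyp.sixteen [FaithfulSMul G Ω] (h : Hyp G Ω) (hn : Nat.card Ω = 16) : Sixteen G Ω := by
  have hsurv : ∀ p q : Ω, p ≠ q → (fxFour G p q).ncard = 4 ∧
      ∀ t ∈ four G p q, t ≠ 1 → (fx t : Set Ω).ncard = 4 := by
    intro p q hpq
    rcases h.even_survivors hpq (by rw [hn]; decide) with e | ⟨e, -⟩ | ⟨-, -, e⟩
    · omega
    · omega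
    · exact e
  exact ⟨h, hn, fun p q hpq => (hsurv p q hpq).1, fun p q hpq t ht ht1 =>
    (h.fxFour_eq_fx hpq ht ht1 ((hsurv p q hpq).1.trans ((hsurv p q hpq).2 t ht ht1).symm)).symm⟩

/-- The lines. -/
def Line (G : Type u) [Group G] (Ω : Type v) [MulAction G Ω] : Type v :=
  {L : Set Ω // ∃ p q : Ω, p ≠ q ∧ L = fxFour G p q}

instance : Finite (Line G Ω) :=
  inferInstanceAs (Finite {L : Set Ω // ∃ p q : Ω, p ≠ q ∧ L = fxFour G p q})

namespace Sixteen

/-- The line through two points. -/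
def join (_hs : Sixteen G Ω) {p q : Ω} (h : p ≠ q) : Line G Ω := ⟨fxFour G p q, p, q, h, rfl⟩

/-- Parallel lines. -/
def Par (_hs : Sixteen G Ω) (L M : Line G Ω) : Prop := L = M ∨ Disjoint L.1 M.1

variable (hs : Sixteen G Ω)
include hs


theorem mem_join_left {p q : Ω} (h : p ≠ q) : p ∈ (hs.join h).1 := hs.hyp.left_mem_fxFour h

theorem mem_join_right {p q : Ω} (h : p ≠ q) : q ∈ (hs.join h).1 := hs.hyp.right_mem_fxFour h

theorem eq_join (L : Line G Ω) {p q : Ω} (h : p ≠ q) (hp : p ∈ L.1) (hq : q ∈ L.1) :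
    L = hs.join h := by
  obtain ⟨S, a, b, hab, rfl⟩ := L
  refine Subtype.ext ?_
  show fxFour G a b = fxFour G p q
  unfold fxFour
  rw [hs.hyp.four_eq_of_mem hab h hp hq]

theorem eq_of_two (L M : Line G Ω) {p q : Ω} (h : p ≠ q) (h1 : p ∈ L.1) (h2 : q ∈ L.1)
    (h3 : p ∈ M.1) (h4 : q ∈ M.1) : L = M := by
  rw [hs.eq_join L h h1 h2, hs.eq_join M h h3 h4]

theorem ncard_line (L : Line G Ω) : L.1.ncard = 4 := by
  obtain ⟨p, q, hpq, e⟩ := L.2
  rw [e]
  exact hs.line p q hpq

theorem card_lines_through (p : Ω) : Nat.card {L : Line G Ω // p ∈ L.1} = 5 := by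
  have h := double_count (α := {L : Line G Ω // p ∈ L.1}) (β := {m : Ω // m ≠ p})
    (fun L m => m.1 ∈ L.1.1) (m := 3) (l := 1) ?_ ?_
  · have h15 : Nat.card {m : Ω // m ≠ p} = 15 := by
      rw [show Nat.card {m : Ω // m ≠ p} = ({p}ᶜ : Set Ω).ncard from Nat.card_coe_set_eq _,
        Set.ncard_compl, Set.ncard_singleton, hs.card]
    rw [h15] at h
    omega
  · intro L
    rw [← Set.ncard_image_of_injective _ Subtype.val_injective,
      show Subtype.val '' {m : {m : Ω // m ≠ p} | m.1 ∈ L.1.1} = L.1.1 \ {p} by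
        ext m
        constructor
        · rintro ⟨m, hm, rfl⟩; exact ⟨hm, m.2⟩
        · rintro ⟨hm, hmp⟩; exact ⟨⟨m, hmp⟩, hm, rfl⟩,
      Set.ncard_sdiff (by simpa using L.2), hs.ncard_line, Set.ncard_singleton]
  · intro m
    refine Set.ncard_eq_one.2 ⟨⟨hs.join m.2.symm, hs.mem_join_left _⟩, Set.ext fun L => ⟨fun hL => ?_, ?_⟩⟩
    · exact Subtype.ext (hs.eq_join L.1 m.2.symm L.2 hL)
    · rintro rfl
      exact hs.mem_join_right m.2.symm


theorem par_through_unique {L M M' : Line G Ω} {p : Ω} (hpL : p ∉ L.1) (hM : p ∈ M.1)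
    (hM' : p ∈ M'.1) (hd : Disjoint L.1 M.1) (hd' : Disjoint L.1 M'.1) : M = M' := by
  by_contra hne
  have hnep : ∀ m : L.1, p ≠ (m : Ω) := fun m e => hpL (e ▸ m.2)
  let f : L.1 ⊕ Fin 2 → {N : Line G Ω // p ∈ N.1} := Sum.elim
    (fun m => ⟨hs.join (hnep m), hs.mem_join_left _⟩)
    (fun i => if i = 0 then ⟨M, hM⟩ else ⟨M', hM'⟩)
  have hoff : ∀ (m : L.1) (N : Line G Ω), Disjoint L.1 N.1 → hs.join (hnep m) ≠ N := fun m N hN e =>
    Set.disjoint_left.1 hN m.2 (e ▸ hs.mem_join_right _)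
  have hf : Function.Injective f := by
    rintro (m | i) (m' | j) e
    · congr 1
      refine Subtype.ext ?_
      by_contra hmm
      have e' : hs.join (hnep m) = hs.join (hnep m') := congrArg Subtype.val e
      have := hs.eq_of_two L (hs.join (hnep m)) hmm m.2 m'.2 (hs.mem_join_right _)
        (e' ▸ hs.mem_join_right _)
      exact hpL (this ▸ hs.mem_join_left _)
    · exfalso
      simp only [f, Sum.elim_inl, Sum.elim_inr] at e
      split at e
      · exact hoff m M hd (congrArg Subtype.val e)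
      · exact hoff m M' hd' (congrArg Subtype.val e)
    · exfalso
      simp only [f, Sum.elim_inl, Sum.elim_inr] at e
      split at e
      · exact hoff m' M hd (congrArg Subtype.val e).symm
      · exact hoff m' M' hd' (congrArg Subtype.val e).symm
    · congr 1
      simp only [f, Sum.elim_inr] at e
      fin_cases i <;> fin_cases j <;> simp_all [Subtype.ext_iff]
  have := Nat.card_le_card_of_injective f hf
  rw [Nat.card_sum, Nat.card_coe_set_eq, hs.ncard_line, Nat.card_fin, hs.card_lines_through] at this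
  omega

theorem exists_par_through (L : Line G Ω) (p : Ω) :
    ∃ M : Line G Ω, p ∈ M.1 ∧ hs.Par L M := by
  by_cases hpL : p ∈ L.1
  · exact ⟨L, hpL, Or.inl rfl⟩
  have hnep : ∀ m : L.1, p ≠ (m : Ω) := fun m e => hpL (e ▸ m.2)
  let f : L.1 → {N : Line G Ω // p ∈ N.1} := fun m => ⟨hs.join (hnep m), hs.mem_join_left _⟩
  by_contra hc
  push Not at hc
  have hf : Function.Surjective f := by
    rintro ⟨N, hN⟩
    obtain ⟨m, hmL, hmN⟩ := Set.not_disjoint_iff.1 fun hd => hc N hN (Or.inr hd)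
    exact ⟨⟨m, hmL⟩, Subtype.ext (hs.eq_join N (hnep ⟨m, hmL⟩) hN hmN).symm⟩
  have := Nat.card_le_card_of_surjective f hf
  rw [Nat.card_coe_set_eq, hs.ncard_line, hs.card_lines_through] at this
  omega

theorem par_trans {L M N : Line G Ω} (h1 : hs.Par L M) (h2 : hs.Par M N) : hs.Par L N := by
  rcases h1 with rfl | h1
  · exact h2
  rcases h2 with rfl | h2
  · exact Or.inr h1
  by_cases hLN : L = N
  · exact Or.inl hLN
  refine Or.inr (Set.disjoint_left.2 fun p hpL hpN => hLN ?_)
  exact hs.par_through_unique (Set.disjoint_right.1 h2 hpN) hpL hpN h1.symm h2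

/-- The setoid of parallel lines. -/
def setoid : Setoid (Line G Ω) where
  r := hs.Par
  iseqv :=
    ⟨fun _ => Or.inl rfl, fun h => h.imp Eq.symm fun h => h.symm, fun h1 h2 => hs.par_trans h1 h2⟩

theorem eq_of_par_of_mem {L M : Line G Ω} {p : Ω} (h : hs.Par L M) (hL : p ∈ L.1) (hM : p ∈ M.1) :
    L = M :=
  h.resolve_right fun hd => Set.disjoint_left.1 hd hL hM

theorem card_classes : Nat.card (Quotient hs.setoid) = 5 := by
  obtain ⟨p⟩ : Nonempty Ω := (Nat.card_pos_iff.1 (by rw [hs.card]; norm_num)).1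
  rw [← hs.card_lines_through p]
  refine (Nat.card_congr (Equiv.ofBijective (fun L => Quotient.mk hs.setoid L.1) ⟨?_, ?_⟩)).symm
  · intro L M e
    exact Subtype.ext (hs.eq_of_par_of_mem (Quotient.exact e) L.2 M.2)
  · intro c
    induction c using Quotient.inductionOn with
    | h L =>
      obtain ⟨M, hM, hP⟩ := hs.exists_par_through L p
      exact ⟨⟨M, hM⟩, (Quotient.sound (s := hs.setoid) hP).symm⟩

/-- The image of a line. -/
def img (g : G) (L : Line G Ω) : Line G Ω :=
  ⟨(g • ·) '' L.1, by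
    obtain ⟨p, q, hpq, e⟩ := L.2
    exact ⟨g • p, g • q, fun e' => hpq (smul_left_cancel g e'), by rw [hs.hyp.fxFour_smul hpq, e]⟩⟩

theorem img_par (g : G) {L M : Line G Ω} (h : hs.Par L M) : hs.Par (hs.img g L) (hs.img g M) := by
  rcases h with rfl | h
  · exact Or.inl rfl
  · exact Or.inr ((Set.disjoint_image_iff (MulAction.injective g)).2 h)

theorem img_img (g g' : G) (L : Line G Ω) : hs.img g (hs.img g' L) = hs.img (g * g') L := by
  refine Subtype.ext ?_
  show (g • ·) '' ((g' • ·) '' L.1) = ((g * g') • ·) '' L.1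
  rw [Set.image_image]
  simp [mul_smul]

theorem img_one (L : Line G Ω) : hs.img 1 L = L :=
  Subtype.ext (by show ((1 : G) • ·) '' L.1 = L.1; simp)

/-- The map of classes induced by an element. -/
def clsMap (g : G) : Quotient hs.setoid → Quotient hs.setoid :=
  Quotient.map (hs.img g) fun _ _ h => hs.img_par g h

theorem clsMap_clsMap (g g' : G) (c : Quotient hs.setoid) :
    hs.clsMap g (hs.clsMap g' c) = hs.clsMap (g * g') c := by
  induction c using Quotient.inductionOn with
  | h L => exact congrArg (Quotient.mk hs.setoid) (hs.img_img g g' L)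

theorem clsMap_one (c : Quotient hs.setoid) : hs.clsMap 1 c = c := by
  induction c using Quotient.inductionOn with
  | h L => exact congrArg (Quotient.mk hs.setoid) (hs.img_one L)

/-- The action on the parallel classes. -/
def clsHom : G →* Equiv.Perm (Quotient hs.setoid) where
  toFun g :=
    ⟨hs.clsMap g, hs.clsMap g⁻¹, fun c => by rw [hs.clsMap_clsMap, inv_mul_cancel, hs.clsMap_one],
      fun c => by rw [hs.clsMap_clsMap, mul_inv_cancel, hs.clsMap_one]⟩
  map_one' := Equiv.ext hs.clsMap_one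
  map_mul' g g' := Equiv.ext fun c => (hs.clsMap_clsMap g g' c).symm

theorem mem_ker_point {g : G} {p : Ω} (hg : g ∈ hs.clsHom.ker) (hp : g • p = p) (L : Line G Ω)
    (hL : p ∈ L.1) : (g • ·) '' L.1 = L.1 := by
  have h1 : hs.clsMap g (Quotient.mk _ L) = Quotient.mk _ L :=
    Equiv.ext_iff.1 (MonoidHom.mem_ker.1 hg) (Quotient.mk hs.setoid L)
  exact congrArg Subtype.val
    (hs.eq_of_par_of_mem (p := p) (Quotient.exact (s := hs.setoid) h1) ⟨p, hL, hp⟩ hL)

end Sixteen

end CfsgLib.TwoPointAltFour
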