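import Cfsg.Agent.TwoPointAltFour.SixteenLines

/-!
# Degree sixteen: the homotheties and the translations
-/

set_option autoImplicit false
set_option linter.unusedSectionVars false
set_option linter.style.haveILetI false

universe u v

namespace CfsgLib.TwoPointAltFour

open MulAction Subgroup

variable {G : Type u} [Group G] [Finite G] {Ω : Type v} [Finite Ω] [MulAction G Ω] [FaithfulSMul G Ω]

namespace Sixteen

variable (hs : Sixteen G Ω)
include hs

theorem exists_ne (p : Ω) : ∃ q, p ≠ q := by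
  by_contra hc
  push Not at hc
  have hsub : Subsingleton Ω := ⟨fun a b => (hc a).symm.trans (hc b)⟩
  have := Finite.card_le_one_iff_subsingleton.2 hsub
  rw [hs.card] at this
  omega

theorem exists_off {p q : Ω} (hpq : p ≠ q) : ∃ w, w ∉ fxFour G p q := by
  by_contra hc
  push Not at hc
  have := hs.line p q hpq
  rw [Set.eq_univ_iff_forall.2 hc, Set.ncard_univ, hs.card] at this
  omega

/-- No involution fixes a point and all lines through it. -/
theorem no_involution {g : G} {p : Ω} (hp : g • p = p) (hg : g * g = 1)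
    (hL : ∀ L : Line G Ω, p ∈ L.1 → (g • ·) '' L.1 = L.1) : g = 1 := by
  haveI : Fact (Nat.Prime 2) := ⟨Nat.prime_two⟩
  by_contra hg1
  have fixed : ∀ q, ∀ h : p ≠ q, ∃ m ∈ (hs.join h).1, m ≠ p ∧ g • m = m := by
    intro q h
    have hinv : ∀ z ∈ (hs.join h).1 \ {p}, g • z ∈ (hs.join h).1 \ {p} := by
      rintro z ⟨hz, hzp⟩
      refine ⟨?_, fun e => hzp ?_⟩
      · rw [← hL _ (hs.mem_join_left h)]
        exact ⟨z, hz, rfl⟩
      · exact smul_left_cancel g ((Set.mem_singleton_iff.1 e).trans hp.symm)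
    have h1 := ncard_modEq_fixed (p := 2) (g := g) (by rw [pow_two, hg]) _ hinv
    rw [Set.ncard_sdiff (by simpa using hs.mem_join_left h), hs.ncard_line, Set.ncard_singleton] at h1
    have hpos : 0 < {z | z ∈ (hs.join h).1 \ {p} ∧ g • z = z}.ncard := by
      unfold Nat.ModEq at h1; omega
    obtain ⟨m, ⟨hm, hmp⟩, hgm⟩ := (Set.ncard_pos (Set.toFinite _)).1 hpos
    exact ⟨m, hm, hmp, hgm⟩
  obtain ⟨q, hq⟩ := hs.exists_ne p
  obtain ⟨m, -, hmp, hgm⟩ := fixed q hq
  obtain ⟨w, hw⟩ := hs.exists_off (Ne.symm hmp)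
  have hpw : p ≠ w := fun e => hw (e ▸ hs.hyp.left_mem_fxFour (Ne.symm hmp))
  obtain ⟨m', hm', hmp', hgm'⟩ := fixed w hpw
  have hg4 : g ∈ four G p m := (hs.hyp.mem_four (Ne.symm hmp)).2 ⟨hp, hgm, hg⟩
  have hmem : m' ∈ fxFour G p m := by
    rw [← hs.fix p m (Ne.symm hmp) g hg4 hg1]
    exact hgm'
  have e := hs.eq_of_two (hs.join (Ne.symm hmp)) (hs.join hpw) (Ne.symm hmp')
    (hs.mem_join_left _) hmem (hs.mem_join_left _) hm'
  exact hw (show w ∈ (hs.join (Ne.symm hmp)).1 by rw [e]; exact hs.mem_join_right _)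

/-- The homothety group at a point. -/
def hom (p : Ω) : Subgroup G := hs.clsHom.ker ⊓ stabilizer G p

theorem hom_involution {p : Ω} {g : G} (hg : g ∈ hs.hom p) (h2 : g * g = 1) : g = 1 :=
  hs.no_involution hg.2 h2 fun L hL => hs.mem_ker_point hg.1 hg.2 L hL

theorem not_mem_hom_of_three {p q : Ω} (hpq : p ≠ q) {g : G} (hg : g ∈ hs.hom p) (hq : g • q = q) :
    g = 1 := by
  obtain ⟨t, ht, ht1⟩ := hs.hyp.exists_ne_one hpq
  have ht' := (hs.hyp.mem_four hpq).1 ht
  have hgi : ∀ z : Ω, g • z = z → g⁻¹ • z = z := fun z hz => by rw [inv_smul_eq_iff, hz]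
  have h1 : g * t * g⁻¹ ∈ four G p q := by
    have := (hs.hyp.map_four hpq (g := g) (g₀ := g * t * g⁻¹)).2 (by simpa [mul_assoc] using ht)
    rwa [show g • p = p from hg.2, hq] at this
  have h2 : g * t * g⁻¹ * t⁻¹ ∈ four G p q := mul_mem h1 (inv_mem ht)
  have h3 : g * t * g⁻¹ * t⁻¹ ∈ hs.hom p := by
    refine ⟨?_, ((hs.hyp.mem_four hpq).1 h2).1⟩
    rw [show g * t * g⁻¹ * t⁻¹ = g * (t * g⁻¹ * t⁻¹) by group]
    exact mul_mem hg.1 ((MonoidHom.normal_ker _).conj_mem _ (inv_mem hg.1) t)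
  have h4 := hs.hom_involution h3 ((hs.hyp.mem_four hpq).1 h2).2.2
  have hc : g * t = t * g := mul_inv_eq_iff_eq_mul.1 (mul_inv_eq_one.1 h4)
  exact hs.hom_involution hg
    (hs.hyp.sq_of_comm hpq ht'.1 ht'.2.1 hg.2 hq ht'.2.2 ht1 hc.symm)

theorem card_hom (p : Ω) : Nat.card (hs.hom p) = 3 := by
  classical
  haveI : Fact (Nat.Prime 2) := ⟨Nat.prime_two⟩
  haveI : Fact (Nat.Prime 3) := ⟨Nat.prime_three⟩
  obtain ⟨q, hq⟩ := hs.exists_ne p
  set X := stabilizer G p with hX
  have hXcard : Nat.card X = 180 := by rw [hX, hs.hyp.card_stabilizer hq, hs.card]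
  let ψ := hs.clsHom.comp X.subtype
  have hker : Nat.card ψ.ker = Nat.card (hs.hom p) := Nat.card_congr
    { toFun := fun g => ⟨(g.1 : G), MonoidHom.mem_ker.1 g.2, g.1.2⟩
      invFun := fun g => ⟨⟨g.1, g.2.2⟩, MonoidHom.mem_ker.2 g.2.1⟩
      left_inv := fun _ => rfl
      right_inv := fun _ => rfl }
  have h1 := ψ.ker.card_mul_index
  rw [index_ker, hker, hXcard] at h1
  have h120 : Nat.card ψ.range ∣ 120 := by
    have := card_subgroup_dvd_card ψ.range
    rwa [Nat.card_perm, hs.card_classes, show Nat.factorial 5 = 120 by decide] at this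
  have hodd : ¬ 2 ∣ Nat.card (hs.hom p) := fun h2 => by
    obtain ⟨u, hu⟩ := exists_prime_orderOf_dvd_card' 2 h2
    have hu2 : (u : G) * u = 1 := by
      rw [← pow_two, ← hu, ← Subgroup.orderOf_coe]; exact pow_orderOf_eq_one _
    rw [← Subgroup.orderOf_coe, hs.hom_involution u.2 hu2, orderOf_one] at hu
    omega
  -- the group fixes the line through `q`
  have h36 : Nat.card (hs.hom p) ∣ 36 := by
    have hle : hs.hom p ≤ normalizer (four G p q : Set G) ⊓ X := by
      intro g hg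
      have himg := hs.mem_ker_point hg.1 hg.2 (hs.join hq) (hs.mem_join_left hq)
      refine ⟨?_, hg.2⟩
      have hgq : g • q ∈ fxFour G p q := by
        rw [show fxFour G p q = (hs.join hq).1 from rfl, ← himg]
        exact ⟨q, hs.mem_join_right hq, rfl⟩
      have hne : p ≠ g • q := fun e => hq (smul_left_cancel g ((show g • p = p from hg.2).trans e))
      have h4 := hs.hyp.four_eq_of_mem hq hne (hs.hyp.left_mem_fxFour hq) hgq
      refine mem_normalizer_iff.2 fun v => ?_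
      show v ∈ four G p q ↔ g * v * g⁻¹ ∈ four G p q
      have h5 := hs.hyp.map_four hq (g := g) (g₀ := g * v * g⁻¹)
      rw [show g • p = p from hg.2, h4, show g⁻¹ * (g * v * g⁻¹) * g = v by group] at h5
      exact h5.symm
    have hc := (hs.hyp.pairTrans_normalizer hq).card_point (hs.hyp.left_mem_fxFour hq)
    rw [hs.hyp.card_normalizer hq, hs.line p q hq] at hc
    rw [show 36 = Nat.card (normalizer (four G p q : Set G) ⊓ X : Subgroup G) by rw [hX]; omega]
    exact card_dvd_of_le hle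
  have hnine : Nat.card (hs.hom p) ∣ 9 := by
    have hc2 := ((Nat.prime_two.coprime_iff_not_dvd).2 hodd).symm.pow_right 2
    exact hc2.dvd_of_dvd_mul_left (show Nat.card (hs.hom p) ∣ 2 ^ 2 * 9 from h36)
  obtain ⟨j, hj, hcj⟩ := (Nat.dvd_prime_pow Nat.prime_three).1 (show Nat.card (hs.hom p) ∣ 3 ^ 2 from hnine)
  interval_cases j
  · rw [pow_zero] at hcj
    rw [hcj, one_mul] at h1
    rw [h1] at h120
    norm_num at h120
  · exact hcj
  · exfalso
    rw [hcj] at h1
    obtain ⟨r, hrp, hrq, hr3, hr1⟩ := hs.hyp.exists_three hq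
    have hord : orderOf (ψ.rangeRestrict ⟨r, hrp⟩) ∣ 3 := orderOf_dvd_of_pow_eq_one (by
      rw [← map_pow, show (⟨r, hrp⟩ : X) ^ 3 = 1 from Subtype.ext hr3, map_one])
    rcases (Nat.dvd_prime Nat.prime_three).1 hord with e | e
    · refine hr1 (hs.not_mem_hom_of_three hq ⟨?_, hrp⟩ hrq)
      exact MonoidHom.mem_ker.2 (congrArg Subtype.val (orderOf_eq_one_iff.1 e))
    · have := orderOf_dvd_natCard (ψ.rangeRestrict ⟨r, hrp⟩)
      rw [e, show Nat.card ψ.range = 20 by omega] at this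
      norm_num at this

theorem hom_comm {p : Ω} {g k : G} (hg : g • p = p) (hk : k ∈ hs.hom p) : g * k = k * g := by
  classical
  haveI : Fact (Nat.Prime 2) := ⟨Nat.prime_two⟩
  obtain ⟨q, hq⟩ := hs.exists_ne p
  -- the four-groups at `p` centralise the homotheties
  have hfour : ∀ q', p ≠ q' → ∀ t ∈ four G p q', ∀ c ∈ hs.hom p, t * c = c * t := by
    intro q' hq' t ht c hc
    have himg := hs.mem_ker_point hc.1 hc.2 (hs.join hq') (hs.mem_join_left hq')
    have hcq : c • q' ∈ fxFour G p q' := by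
      rw [show fxFour G p q' = (hs.join hq').1 from rfl, ← himg]
      exact ⟨q', hs.mem_join_right hq', rfl⟩
    have hne : p ≠ c • q' := fun e => hq' (smul_left_cancel c ((show c • p = p from hc.2).trans e))
    have h4 := hs.hyp.four_eq_of_mem hq' hne (hs.hyp.left_mem_fxFour hq') hcq
    have h5 : c * t * c⁻¹ ∈ four G p q' := by
      have := (hs.hyp.map_four hq' (g := c) (g₀ := c * t * c⁻¹)).2 (by simpa [mul_assoc] using ht)
      rwa [show c • p = p from hc.2, h4] at this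
    have h6 : c * t * c⁻¹ * t⁻¹ ∈ four G p q' := mul_mem h5 (inv_mem ht)
    have h7 : c * t * c⁻¹ * t⁻¹ ∈ hs.hom p := by
      refine ⟨?_, ((hs.hyp.mem_four hq').1 h6).1⟩
      rw [show c * t * c⁻¹ * t⁻¹ = c * (t * c⁻¹ * t⁻¹) by group]
      exact mul_mem hc.1 ((MonoidHom.normal_ker _).conj_mem _ (inv_mem hc.1) t)
    have h8 := hs.hom_involution h7 ((hs.hyp.mem_four hq').1 h6).2.2
    exact (mul_inv_eq_iff_eq_mul.1 (mul_inv_eq_one.1 h8)).symm
  by_cases hk1 : k = 1
  · rw [hk1, mul_one, one_mul]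
  have hconj : ∀ a : G, a • p = p → ∀ c ∈ hs.hom p, a * c * a⁻¹ ∈ hs.hom p := by
    intro a ha c hc
    refine ⟨(MonoidHom.normal_ker _).conj_mem c hc.1 a, ?_⟩
    show (a * c * a⁻¹) • p = p
    rw [mul_smul, mul_smul, show a⁻¹ • p = p by rw [inv_smul_eq_iff, ha], show c • p = p from hc.2, ha]
  have hk3 : k ^ 3 = 1 := by
    have h1 : (⟨k, hk⟩ : hs.hom p) ^ Nat.card (hs.hom p) = 1 := pow_card_eq_one'
    rw [hs.card_hom p] at h1
    exact congrArg Subtype.val h1
  have hset : ∀ c ∈ hs.hom p, c = 1 ∨ c = k ∨ c = k ^ 2 := by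
    intro c hc
    by_contra hcon
    push Not at hcon
    have hsub : ({c, 1, k, k ^ 2} : Set G) ⊆ (hs.hom p : Set G) := by
      rintro w (rfl | rfl | rfl | rfl)
      exacts [hc, one_mem _, hk, pow_mem hk 2]
    have e1 : k ≠ k ^ 2 := fun e => hk1 (by rw [pow_two, left_eq_mul] at e; exact e)
    have e2 : k ^ 2 ≠ 1 := fun e => hk1 (by rw [pow_succ, e, one_mul] at hk3; exact hk3)
    have h' := Set.ncard_le_ncard hsub (Set.toFinite _)
    rw [← Nat.card_coe_set_eq (hs.hom p : Set G), SetLike.coe_sort_coe, hs.card_hom,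
      Set.ncard_insert_of_notMem, Set.ncard_insert_of_notMem, Set.ncard_pair e1] at h'
    · omega
    · simp [Ne.symm hk1, e2.symm]
    · simp [hcon.1, hcon.2.1, hcon.2.2]
  rcases hset _ (hconj g hg k hk) with e | e | e
  · exact absurd (by calc k = g⁻¹ * (g * k * g⁻¹) * g := by group
      _ = 1 := by rw [e]; group) hk1
  · exact mul_inv_eq_iff_eq_mul.1 e
  exfalso
  -- reduce to a 2-element
  obtain ⟨a, m, hm, hom⟩ := Nat.exists_eq_pow_mul_and_not_dvd (orderOf_pos g).ne' 2 (by norm_num)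
  obtain ⟨j, hj⟩ : Odd m := Nat.odd_iff.2 (by omega)
  have hg2 : g ^ 2 * k * (g ^ 2)⁻¹ = k := by
    rw [show g ^ 2 * k * (g ^ 2)⁻¹ = g * (g * k * g⁻¹) * g⁻¹ by rw [pow_two, mul_inv_rev]; group, e,
      ← conj_pow, e, ← pow_mul, show 2 * 2 = 3 + 1 by norm_num, pow_add, hk3, one_mul, pow_one]
  have hgm : g ^ m * k * (g ^ m)⁻¹ = k ^ 2 := by
    have : ∀ i : ℕ, (g ^ 2) ^ i * k * ((g ^ 2) ^ i)⁻¹ = k := fun i => by
      induction i with
      | zero => simp
      | succ i ih =>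
        rw [pow_succ', mul_inv_rev, show g ^ 2 * (g ^ 2) ^ i * k * (((g ^ 2) ^ i)⁻¹ * (g ^ 2)⁻¹) =
          g ^ 2 * ((g ^ 2) ^ i * k * ((g ^ 2) ^ i)⁻¹) * (g ^ 2)⁻¹ by group, ih, hg2]
    rw [hj, pow_succ', pow_mul, mul_inv_rev,
      show g * (g ^ 2) ^ j * k * (((g ^ 2) ^ j)⁻¹ * g⁻¹) =
        g * ((g ^ 2) ^ j * k * ((g ^ 2) ^ j)⁻¹) * g⁻¹ by group, this j, e]
  set X := stabilizer G p with hX
  have hgmX : g ^ m ∈ X := pow_mem (show g ∈ X from hg) m
  have hVX : four G p q ≤ X := fun v hv => ((hs.hyp.mem_four hq).1 hv).1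
  have hp2 : IsPGroup 2 (zpowers (⟨g ^ m, hgmX⟩ : X)) := by
    refine IsPGroup.of_card (n := a) ?_
    rw [Nat.card_zpowers, ← Subgroup.orderOf_coe, orderOf_pow, hom, Nat.gcd_mul_left_left,
      Nat.mul_div_cancel]
    omega
  obtain ⟨S, hS⟩ := hp2.exists_le_sylow
  obtain ⟨T, hT⟩ := (IsPGroup.of_card (p := 2) (n := 2) (G := (four G p q).subgroupOf X) (by
    rw [Nat.card_congr (subgroupOfEquivOfLe hVX).toEquiv, hs.hyp.card_four hq]; norm_num)).exists_le_sylow
  have hTV : (four G p q).subgroupOf X = (T : Subgroup X) := eq_of_le_of_card_ge hT (by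
    rw [Nat.card_congr (subgroupOfEquivOfLe hVX).toEquiv, hs.hyp.card_four hq]
    exact hs.hyp.two_subgroup_le hq (by rw [hs.card]; decide) p _ T.isPGroup')
  obtain ⟨b, hb⟩ := MulAction.exists_smul_eq X T S
  have hmemS : (⟨g ^ m, hgmX⟩ : X) ∈ ((b • T : Sylow 2 X) : Subgroup X) := by
    rw [hb]; exact hS (mem_zpowers _)
  rw [Sylow.coe_subgroup_smul, Subgroup.mem_pointwise_smul_iff_inv_smul_mem, ← hTV] at hmemS
  have hv : (b : G)⁻¹ * g ^ m * (b : G) ∈ four G p q := by
    have := mem_subgroupOf.1 hmemS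
    simpa [MulAut.conj_symm_apply, mul_assoc] using this
  have hne : p ≠ (b : G) • q := fun e' => hq (smul_left_cancel (b : G) ((show (b : G) • p = p from b.2).trans e'))
  have hgv : g ^ m ∈ four G p ((b : G) • q) := by
    have := (hs.hyp.map_four hq (g := (b : G)) (g₀ := g ^ m)).2 hv
    rwa [show (b : G) • p = p from b.2] at this
  rw [hfour _ hne _ hgv k hk, mul_inv_cancel_right, pow_two, left_eq_mul] at hgm
  exact hk1 hgm

theorem card_kernel : Nat.card hs.clsHom.ker = 48 := by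
  obtain ⟨p⟩ : Nonempty Ω := (Nat.card_pos_iff.1 (by rw [hs.card]; norm_num)).1
  obtain ⟨k, hk, hk1⟩ : ∃ k ∈ hs.hom p, k ≠ 1 := by
    by_contra hc
    push Not at hc
    have := hs.card_hom p
    rw [(Subgroup.eq_bot_iff_forall _).2 hc, card_bot] at this
    omega
  obtain ⟨q, hq⟩ : ∃ q : Ω, k • q ≠ q := by
    by_contra hc
    push Not at hc
    exact hk1 (eq_of_smul_eq_smul (α := Ω) fun z => by rw [hc z, one_smul])
  have horb : orbit hs.clsHom.ker q = Set.univ := by
    refine Set.eq_univ_iff_forall.2 fun w => ?_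
    by_cases hw : w = q
    · rw [hw]; exact mem_orbit_self q
    obtain ⟨g, e1, e2⟩ := hs.hyp.exists_smul hq.symm (Ne.symm hw)
    exact ⟨⟨g * k * g⁻¹, (MonoidHom.normal_ker _).conj_mem k hk.1 g⟩, by
      show (g * k * g⁻¹) • q = w
      rw [mul_smul, mul_smul, show g⁻¹ • q = q by rw [inv_smul_eq_iff, e1], e2]⟩
  have h1 := (stabilizer hs.clsHom.ker q).card_mul_index
  rw [index_stabilizer, horb, Set.ncard_univ, hs.card,
    show Nat.card (stabilizer hs.clsHom.ker q) = Nat.card (hs.hom q) from Nat.card_congr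
      { toFun := fun g => ⟨(g.1 : G), g.1.2, mem_stabilizer_iff.1 g.2⟩
        invFun := fun g => ⟨⟨g.1, g.2.1⟩, mem_stabilizer_iff.2 g.2.2⟩
        left_inv := fun _ => rfl
        right_inv := fun _ => rfl }, hs.card_hom q] at h1
  exact h1.symm

/-- The translations form a regular normal elementary abelian subgroup. -/
theorem exists_translations : ∃ E : Subgroup G, E.Normal ∧ (∀ e ∈ E, e * e = 1) ∧
    (∀ e ∈ E, ∀ p : Ω, e • p = p → e = 1) ∧ Nat.card E = 16 := by
  classical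
  haveI : Fact (Nat.Prime 2) := ⟨Nat.prime_two⟩
  obtain ⟨p⟩ : Nonempty Ω := (Nat.card_pos_iff.1 (by rw [hs.card]; norm_num)).1
  set N := hs.clsHom.ker with hN
  set A : Set G := {g | g ∈ N ∧ ∀ z : Ω, g • z ≠ z} with hA
  -- at most fifteen elements have no fixed point
  have hAle : A.ncard ≤ 15 := by
    let f : (z : Ω) × {g : G // g ∈ hs.hom z ∧ g ≠ 1} → ↥((N : Set G) \ insert 1 A) := fun a =>
      ⟨a.2.1, a.2.2.1.1, by rintro (e | e); exacts [a.2.2.2 e, e.2 a.1 a.2.2.1.2]⟩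
    have hf : Function.Injective f := by
      rintro ⟨z, g, hg, hg1⟩ ⟨z', g', hg', hg1'⟩ e
      obtain rfl : g = g' := congrArg Subtype.val e
      obtain rfl : z = z' := by
        by_contra hz
        exact hg1 (hs.not_mem_hom_of_three hz hg hg'.2)
      rfl
    have h1 := Nat.card_le_card_of_injective f hf
    haveI := Fintype.ofFinite Ω
    have h2 : ∀ z : Ω, Nat.card {g : G // g ∈ hs.hom z ∧ g ≠ 1} = 2 := fun z => by
      have : ((hs.hom z : Set G) \ {1}).ncard = 2 := by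
        rw [Set.ncard_sdiff (by simp [one_mem]), Set.ncard_singleton, ← Nat.card_coe_set_eq,
          SetLike.coe_sort_coe, hs.card_hom]
      rw [← this, ← Nat.card_coe_set_eq]
      exact Nat.card_congr (Equiv.subtypeEquivRight fun g => Iff.rfl)
    rw [Nat.card_sigma, Finset.sum_congr rfl (fun z _ => h2 z), Finset.sum_const, Finset.card_univ,
      ← Nat.card_eq_fintype_card, hs.card, smul_eq_mul, Nat.card_coe_set_eq] at h1
    have hsub : insert 1 A ⊆ (N : Set G) := Set.insert_subset (one_mem _) fun g hg => hg.1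
    have hN48 : (N : Set G).ncard = 48 := by
      rw [← Nat.card_coe_set_eq, SetLike.coe_sort_coe, hN, hs.card_kernel]
    rw [Set.ncard_sdiff hsub, hN48, Set.ncard_insert_of_notMem (fun h' => h'.2 p (one_smul G p))] at h1
    omega
  -- a 2-subgroup of order sixteen
  obtain ⟨E, hEc, hEN⟩ : ∃ E : Subgroup G, Nat.card E = 16 ∧ E ≤ N := by
    obtain ⟨P, hP⟩ := Sylow.exists_subgroup_card_pow_prime (G := N) 2 (n := 4)
      (by rw [hN, hs.card_kernel]; norm_num)
    exact ⟨P.map N.subtype, by rw [card_map_of_injective N.subtype_injective, hP]; norm_num,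
      map_subtype_le P⟩
  have hreg : ∀ g ∈ N, g ^ 16 = 1 → ∀ z : Ω, g • z = z → g = 1 := by
    intro g hg h16 z hz
    have h1 : (⟨g, hg, hz⟩ : hs.hom z) ^ Nat.card (hs.hom z) = 1 := pow_card_eq_one'
    rw [hs.card_hom] at h1
    have h3 : g ^ 3 = 1 := congrArg Subtype.val h1
    calc g = g ^ 16 * ((g ^ 3) ^ 5)⁻¹ := by group
      _ = 1 := by rw [h16, h3, one_pow, inv_one, mul_one]
  have hpow : ∀ F : Subgroup G, Nat.card F = 16 → ∀ g ∈ F, g ^ 16 = 1 := fun F hF g hg => by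
    have h1 : (⟨g, hg⟩ : F) ^ Nat.card F = 1 := pow_card_eq_one'
    rw [hF] at h1
    exact congrArg Subtype.val h1
  have hsubA : ∀ F : Subgroup G, Nat.card F = 16 → F ≤ N → (F : Set G) = insert 1 A := by
    intro F hF hFN
    refine Set.eq_of_subset_of_ncard_le (fun g hg => ?_) ?_ (Set.toFinite _)
    · by_cases hg1 : g = 1
      · exact Or.inl hg1
      · exact Or.inr ⟨hFN hg, fun z hz => hg1 (hreg g (hFN hg) (hpow F hF g hg) z hz)⟩
    · refine le_trans (Set.ncard_insert_le _ _) ?_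
      rw [← Nat.card_coe_set_eq (F : Set G), SetLike.coe_sort_coe, hF]
      omega
  have hEn : E.Normal := ⟨fun e he g => by
    have hc : Nat.card (E.map (MulAut.conj g).toMonoidHom) = 16 := by
      rw [card_map_of_injective (MulAut.conj g).injective, hEc]
    have hle : E.map (MulAut.conj g).toMonoidHom ≤ N := by
      rintro _ ⟨w, hw, rfl⟩
      exact (MonoidHom.normal_ker _).conj_mem w (hEN hw) g
    have h1 : g * e * g⁻¹ ∈ (E.map (MulAut.conj g).toMonoidHom : Set G) := ⟨e, he, rfl⟩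
    rw [hsubA _ hc hle, ← hsubA E hEc hEN] at h1
    exact h1⟩
  have hfree : ∀ e ∈ E, ∀ z : Ω, e • z = z → e = 1 := fun e he =>
    hreg e (hEN he) (hpow E hEc e he)
  -- all non-trivial translations are conjugate
  have hbij : Function.Bijective fun e : E => (e : G) • p := by
    refine (Nat.bijective_iff_injective_and_card _).2 ⟨fun e e' he => ?_, by rw [hEc, hs.card]⟩
    have h1 : ((e'⁻¹ * e : E) : G) • p = p := by
      simp only [Subgroup.coe_mul, Subgroup.coe_inv, mul_smul]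
      rw [inv_smul_eq_iff]
      exact he
    exact (inv_mul_eq_one.1 (Subtype.ext (hfree _ (e'⁻¹ * e).2 p h1))).symm
  obtain ⟨i, hi⟩ := exists_prime_orderOf_dvd_card' 2 (by rw [hEc]; norm_num : 2 ∣ Nat.card E)
  have hi1 : (i : G) ≠ 1 := fun e => by
    rw [← Subgroup.orderOf_coe, e, orderOf_one] at hi; omega
  have hi2 : (i : G) * i = 1 := by
    rw [← pow_two, ← hi, ← Subgroup.orderOf_coe]; exact pow_orderOf_eq_one _
  refine ⟨E, hEn, fun e he => ?_, hfree, hEc⟩
  by_cases he1 : e = 1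
  · rw [he1, one_mul]
  obtain ⟨g, hgp, hge⟩ := hs.hyp.exists_smul (x := p) (y := (i : G) • p) (x' := p) (y' := e • p)
    (fun h' => hi1 (hfree _ i.2 p h'.symm)) (fun h' => he1 (hfree _ he p h'.symm))
  have hc : g * (i : G) * g⁻¹ ∈ E := hEn.conj_mem _ i.2 g
  have h1 : (⟨_, hc⟩ : E) = ⟨e, he⟩ := hbij.1 (by
    show (g * (i : G) * g⁻¹) • p = e • p
    rw [mul_smul, mul_smul, show g⁻¹ • p = p by rw [inv_smul_eq_iff, hgp], hge])
  rw [← show g * (i : G) * g⁻¹ = e from congrArg Subtype.val h1,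
    show g * (i : G) * g⁻¹ * (g * (i : G) * g⁻¹) = g * ((i : G) * i) * g⁻¹ by group, hi2]
  group

end Sixteen

end CfsgLib.TwoPointAltFour
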