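import Cfsg.Agent.TwoPointAltFour.Pair

/-!
# The involutions exchanging a pair
-/

set_option autoImplicit false
set_option linter.unusedSectionVars false
set_option linter.style.haveILetI false

namespace CfsgLib.TwoPointAltFour

open MulAction Subgroup

set_option synthInstance.maxSize 2000 in
theorem alt_four_sylow : ∀ p q : alternatingGroup (Fin 4), p ^ 3 = 1 → q ^ 3 = 1 → p ≠ 1 → q ≠ 1 →
    ∃ u : alternatingGroup (Fin 4), u * p * u⁻¹ = q ∨ u * p * u⁻¹ = q⁻¹ := by decide +kernel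

set_option synthInstance.maxSize 2000 in
theorem alt_four_normalizer : ∀ g r : alternatingGroup (Fin 4), r ^ 3 = 1 → r ≠ 1 →
    (g * r * g⁻¹ = r ∨ g * r * g⁻¹ = r⁻¹) → g = 1 ∨ g = r ∨ g = r ^ 2 := by decide +kernel

set_option synthInstance.maxSize 2000 in
theorem alt_four_fixed : ∀ t r : alternatingGroup (Fin 4), r ^ 3 = 1 → r ≠ 1 → t * t = 1 →
    r * t = t * r → t = 1 := by decide +kernel

set_option synthInstance.maxSize 2000 in
theorem alt_four_decomp : ∀ g r t : alternatingGroup (Fin 4), r ^ 3 = 1 → r ≠ 1 → t * t = 1 → t ≠ 1 →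
    (g = 1 ∨ g = r ∨ g = r ^ 2) ∨ (g = t ∨ g = t * r ∨ g = t * r ^ 2) ∨
      (g = r * t * r⁻¹ ∨ g = r * t * r⁻¹ * r ∨ g = r * t * r⁻¹ * r ^ 2) ∨
      (g = r ^ 2 * t * (r ^ 2)⁻¹ ∨ g = r ^ 2 * t * (r ^ 2)⁻¹ * r ∨
        g = r ^ 2 * t * (r ^ 2)⁻¹ * r ^ 2) := by decide +kernel

set_option synthInstance.maxSize 2000 in
theorem alt_four_prod : ∀ t r : alternatingGroup (Fin 4), r ^ 3 = 1 → r ≠ 1 → t * t = 1 →
    t * (r * t * r⁻¹) = r ^ 2 * t * (r ^ 2)⁻¹ := by decide +kernel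

set_option synthInstance.maxSize 2000 in
theorem alt_four_four : ∀ q r t : alternatingGroup (Fin 4), r ^ 3 = 1 → r ≠ 1 → t * t = 1 → t ≠ 1 →
    q * q = 1 → q = 1 ∨ q = t ∨ q = r * t * r⁻¹ ∨ q = r ^ 2 * t * (r ^ 2)⁻¹ := by decide +kernel

/-- The involutions exchanging `x` and `y`. -/
def Swap (G : Type*) [Group G] {Ω : Type*} [MulAction G Ω] (x y : Ω) : Set G :=
  {c | c • x = y ∧ c • y = x ∧ c * c = 1}

variable {G : Type*} [Group G] {Ω : Type*} [MulAction G Ω]

/-- An element normalising `⟨r⟩` in the dihedral sense. -/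
theorem conj_three_cycle {g r : G} (hg : g * r * g⁻¹ = r ∨ g * r * g⁻¹ = r⁻¹) :
    g ^ 3 * r * (g ^ 3)⁻¹ = g * r * g⁻¹ ∧ g ^ 2 * r * (g ^ 2)⁻¹ = r := by
  have h2 : g ^ 2 * r * (g ^ 2)⁻¹ = r := by
    rw [show g ^ 2 * r * (g ^ 2)⁻¹ = g * (g * r * g⁻¹) * g⁻¹ by
      rw [pow_two, mul_inv_rev]; group]
    rcases hg with e | e
    · rw [e, e]
    · rw [e, show g * r⁻¹ * g⁻¹ = (g * r * g⁻¹)⁻¹ by group, e, inv_inv]
  exact ⟨by rw [show g ^ 3 * r * (g ^ 3)⁻¹ = g * (g ^ 2 * r * (g ^ 2)⁻¹) * g⁻¹ by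
    rw [pow_succ', mul_inv_rev]; group, h2], h2⟩

namespace Hyp

variable (h : Hyp G Ω) {x y : Ω} (hxy : x ≠ y)
include h hxy

/-- The coordinates of an element of a pair stabiliser. -/
theorem decomp {g r t : G} (hgx : g • x = x) (hgy : g • y = y) (hrx : r • x = x) (hry : r • y = y)
    (ht : t ∈ four G x y) (hr : r ^ 3 = 1) (hr1 : r ≠ 1) (ht1 : t ≠ 1) :
    (g = 1 ∨ g = r ∨ g = r ^ 2) ∨ (g = t ∨ g = t * r ∨ g = t * r ^ 2) ∨
      (g = r * t * r⁻¹ ∨ g = r * t * r⁻¹ * r ∨ g = r * t * r⁻¹ * r ^ 2) ∨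
      (g = r ^ 2 * t * (r ^ 2)⁻¹ ∨ g = r ^ 2 * t * (r ^ 2)⁻¹ * r ∨
        g = r ^ 2 * t * (r ^ 2)⁻¹ * r ^ 2) := by
  obtain ⟨e⟩ := h.iso x y hxy
  have ht' := (h.mem_four hxy).1 ht
  have key := alt_four_decomp (e ⟨g, hgx, hgy⟩) (e ⟨r, hrx, hry⟩) (e ⟨t, ht'.1, ht'.2.1⟩)
    (by rw [← map_pow, ← map_one e]; exact congrArg e (Subtype.ext hr))
    (fun hp => hr1 (congrArg Subtype.val (e.injective (hp.trans (map_one e).symm))))
    (by rw [← map_mul, ← map_one e]; exact congrArg e (Subtype.ext ht'.2.2))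
    (fun hp => ht1 (congrArg Subtype.val (e.injective (hp.trans (map_one e).symm))))
  simp only [← map_pow, ← map_inv, ← map_mul, e.injective.eq_iff, MulEquiv.map_eq_one_iff,
    ← Subtype.val_inj] at key
  simpa using key

theorem four_cases {q r t : G} (hrx : r • x = x) (hry : r • y = y) (ht : t ∈ four G x y)
    (hr : r ^ 3 = 1) (hr1 : r ≠ 1) (ht1 : t ≠ 1) (hq : q ∈ four G x y) :
    q = 1 ∨ q = t ∨ q = r * t * r⁻¹ ∨ q = r ^ 2 * t * (r ^ 2)⁻¹ := by
  obtain ⟨e⟩ := h.iso x y hxy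
  have ht' := (h.mem_four hxy).1 ht
  have hq' := (h.mem_four hxy).1 hq
  have key := alt_four_four (e ⟨q, hq'.1, hq'.2.1⟩) (e ⟨r, hrx, hry⟩) (e ⟨t, ht'.1, ht'.2.1⟩)
    (by rw [← map_pow, ← map_one e]; exact congrArg e (Subtype.ext hr))
    (fun hp => hr1 (congrArg Subtype.val (e.injective (hp.trans (map_one e).symm))))
    (by rw [← map_mul, ← map_one e]; exact congrArg e (Subtype.ext ht'.2.2))
    (fun hp => ht1 (congrArg Subtype.val (e.injective (hp.trans (map_one e).symm))))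
    (by rw [← map_mul, ← map_one e]; exact congrArg e (Subtype.ext hq'.2.2))
  simp only [← map_pow, ← map_inv, ← map_mul, e.injective.eq_iff, MulEquiv.map_eq_one_iff,
    ← Subtype.val_inj] at key
  simpa using key

theorem fixed_eq_one {r t : G} (hrx : r • x = x) (hry : r • y = y) (ht : t ∈ four G x y)
    (hr : r ^ 3 = 1) (hr1 : r ≠ 1) (hc : r * t = t * r) : t = 1 := by
  obtain ⟨e⟩ := h.iso x y hxy
  have ht' := (h.mem_four hxy).1 ht
  have key := alt_four_fixed (e ⟨t, ht'.1, ht'.2.1⟩) (e ⟨r, hrx, hry⟩)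
    (by rw [← map_pow, ← map_one e]; exact congrArg e (Subtype.ext hr))
    (fun hp => hr1 (congrArg Subtype.val (e.injective (hp.trans (map_one e).symm))))
    (by rw [← map_mul, ← map_one e]; exact congrArg e (Subtype.ext ht'.2.2))
    (by rw [← map_mul, ← map_mul]; exact congrArg e (Subtype.ext hc))
  exact congrArg Subtype.val (e.injective (key.trans (map_one e).symm))

theorem prod_conj {r t : G} (hrx : r • x = x) (hry : r • y = y) (ht : t ∈ four G x y)
    (hr : r ^ 3 = 1) (hr1 : r ≠ 1) : t * (r * t * r⁻¹) = r ^ 2 * t * (r ^ 2)⁻¹ := by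
  obtain ⟨e⟩ := h.iso x y hxy
  have ht' := (h.mem_four hxy).1 ht
  have key := alt_four_prod (e ⟨t, ht'.1, ht'.2.1⟩) (e ⟨r, hrx, hry⟩)
    (by rw [← map_pow, ← map_one e]; exact congrArg e (Subtype.ext hr))
    (fun hp => hr1 (congrArg Subtype.val (e.injective (hp.trans (map_one e).symm))))
    (by rw [← map_mul, ← map_one e]; exact congrArg e (Subtype.ext ht'.2.2))
  simp only [← map_pow, ← map_inv, ← map_mul, e.injective.eq_iff, ← Subtype.val_inj] at key
  simpa using key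

/-- A swapping involution normalising a cyclic subgroup of order three. -/
theorem exists_swap : ∃ r w : G, r • x = x ∧ r • y = y ∧ r ^ 3 = 1 ∧ r ≠ 1 ∧ w ∈ Swap G x y ∧
    (w * r * w⁻¹ = r ∨ w * r * w⁻¹ = r⁻¹) := by
  obtain ⟨r, hrx, hry, hr, hr1⟩ := h.exists_three hxy
  obtain ⟨g₀, hg0x, hg0y⟩ := h.exists_smul hxy hxy.symm
  have hi : ∀ {g : G} {p q : Ω}, g • p = q → g⁻¹ • q = p := fun {g p q} e => by
    rw [← e, inv_smul_smul]
  have hsx : (g₀ * r * g₀⁻¹) • x = x := by rw [mul_smul, mul_smul, hi hg0y, hry, hg0y]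
  have hsy : (g₀ * r * g₀⁻¹) • y = y := by rw [mul_smul, mul_smul, hi hg0x, hrx, hg0x]
  have hs3 : (g₀ * r * g₀⁻¹) ^ 3 = 1 := by rw [conj_pow, hr, mul_one, mul_inv_cancel]
  have hs1 : g₀ * r * g₀⁻¹ ≠ 1 := fun e => hr1 (by
    calc r = g₀⁻¹ * (g₀ * r * g₀⁻¹) * g₀ := by group
      _ = 1 := by rw [e]; group)
  obtain ⟨e⟩ := h.iso x y hxy
  obtain ⟨u, hu⟩ := alt_four_sylow (e ⟨_, hsx, hsy⟩) (e ⟨r, hrx, hry⟩)
    (by rw [← map_pow, ← map_one e]; exact congrArg e (Subtype.ext hs3))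
    (by rw [← map_pow, ← map_one e]; exact congrArg e (Subtype.ext hr))
    (fun hp => hs1 (congrArg Subtype.val (e.injective (hp.trans (map_one e).symm))))
    (fun hp => hr1 (congrArg Subtype.val (e.injective (hp.trans (map_one e).symm))))
  obtain ⟨u, rfl⟩ := e.surjective u
  simp only [← map_inv, ← map_mul, e.injective.eq_iff, ← Subtype.val_inj] at hu
  simp at hu
  set g : G := (u : G) * g₀ with hg
  have hgr : g * r * g⁻¹ = r ∨ g * r * g⁻¹ = r⁻¹ := by
    rcases hu with he | he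
    · exact Or.inl (Eq.trans (by rw [hg]; group) he)
    · exact Or.inr (Eq.trans (by rw [hg]; group) he)
  have hgx : g • x = y := by rw [hg, mul_smul, hg0x]; exact u.2.2
  have hgy : g • y = x := by rw [hg, mul_smul, hg0y]; exact u.2.1
  have h2x : (g ^ 2) • x = x := by rw [pow_two, mul_smul, hgx, hgy]
  have h2y : (g ^ 2) • y = y := by rw [pow_two, mul_smul, hgy, hgx]
  obtain ⟨h3, h2r⟩ := conj_three_cycle hgr
  have key := alt_four_normalizer (e ⟨g ^ 2, h2x, h2y⟩) (e ⟨r, hrx, hry⟩)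
    (by rw [← map_pow, ← map_one e]; exact congrArg e (Subtype.ext hr))
    (fun hp => hr1 (congrArg Subtype.val (e.injective (hp.trans (map_one e).symm))))
    (Or.inl (by rw [← map_inv, ← map_mul, ← map_mul]; exact congrArg e (Subtype.ext h2r)))
  simp only [← map_pow, ← map_inv, ← map_mul, e.injective.eq_iff, MulEquiv.map_eq_one_iff,
    ← Subtype.val_inj] at key
  simp at key
  have h6 : g ^ 6 = 1 := by
    rw [show 6 = 2 * 3 from rfl, pow_mul]
    rcases key with e' | e' | e' <;> rw [e']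
    · exact one_pow _
    · exact hr
    · rw [← pow_mul, mul_comm, pow_mul, hr, one_pow]
  refine ⟨r, g ^ 3, hrx, hry, hr, hr1, ⟨?_, ?_, by rw [← pow_add]; exact h6⟩, by rwa [h3]⟩
  · rw [pow_succ', mul_smul, h2x, hgx]
  · rw [pow_succ', mul_smul, h2y, hgy]

omit hxy in
theorem swap_conj {g c : G} {p q : Ω} (hc : c ∈ Swap G p q) :
    g * c * g⁻¹ ∈ Swap G (g • p) (g • q) := by
  obtain ⟨h1, h2, h3⟩ := hc
  refine ⟨((swap_conj_iff g c p q).1 ⟨h1, h2⟩).1, ((swap_conj_iff g c p q).1 ⟨h1, h2⟩).2, ?_⟩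
  calc g * c * g⁻¹ * (g * c * g⁻¹) = g * (c * c) * g⁻¹ := by group
    _ = 1 := by rw [h3]; group

theorem swap_normalizes {w v : G} (hw : w ∈ Swap G x y) (hv : v ∈ four G x y) :
    w * v * w⁻¹ ∈ four G x y := by
  rw [h.mem_four hxy] at hv ⊢
  have hwi : w⁻¹ = w := inv_eq_of_mul_eq_one_right hw.2.2
  refine ⟨?_, ?_, ?_⟩
  · rw [hwi, mul_smul, mul_smul, hw.1, hv.2.1, hw.2.1]
  · rw [hwi, mul_smul, mul_smul, hw.2.1, hv.1, hw.1]
  · calc w * v * w⁻¹ * (w * v * w⁻¹) = w * (v * v) * w⁻¹ := by group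
      _ = 1 := by rw [hv.2.2]; group

/-- A swapping involution centralising an element of order three centralises the pair
stabiliser. -/
theorem central_of_comm {r w : G} (hrx : r • x = x) (hry : r • y = y) (hr : r ^ 3 = 1) (hr1 : r ≠ 1)
    (hw : w ∈ Swap G x y) (hwr : w * r = r * w) :
    (∀ g : G, g • x = x → g • y = y → w * g = g * w) ∧
      Swap G x y = (w * ·) '' (four G x y : Set G) := by
  have hww := hw.2.2
  have hwi : w⁻¹ = w := inv_eq_of_mul_eq_one_right hww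
  obtain ⟨t, ht, ht1⟩ := h.exists_ne_one hxy
  have hwrc : ∀ j : ℕ, w * r ^ j = r ^ j * w := fun j => (Commute.pow_right hwr j).eq
  have hmem := h.swap_normalizes hxy hw ht
  have hm := (h.mem_four hxy).1 hmem
  -- `w` commutes with `t`
  have hwt : w * t = t * w := by
    have key : ∀ j : ℕ, w * t * w⁻¹ = r ^ j * t * (r ^ j)⁻¹ → w * t * w⁻¹ = t := by
      intro j hj
      have h2 : r ^ j * (r ^ j * t * (r ^ j)⁻¹) * (r ^ j)⁻¹ = t := by
        calc r ^ j * (r ^ j * t * (r ^ j)⁻¹) * (r ^ j)⁻¹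
            = r ^ j * (w * t * w⁻¹) * (r ^ j)⁻¹ := by rw [hj]
          _ = w * (r ^ j * t * (r ^ j)⁻¹) * w⁻¹ := by
              rw [show r ^ j * (w * t * w⁻¹) * (r ^ j)⁻¹ = (r ^ j * w) * t * (r ^ j * w)⁻¹ by group,
                ← hwrc j]
              group
          _ = w * (w * t * w⁻¹) * w⁻¹ := by rw [hj]
          _ = t := by
              rw [show w * (w * t * w⁻¹) * w⁻¹ = (w * w) * t * (w * w)⁻¹ by group, hww]; group
      have hc : r ^ (j + j) * t = t * r ^ (j + j) := by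
        rw [pow_add]
        calc r ^ j * r ^ j * t = r ^ j * (r ^ j * t * (r ^ j)⁻¹) * (r ^ j)⁻¹ * (r ^ j * r ^ j) := by
              group
          _ = t * (r ^ j * r ^ j) := by rw [h2]
      have h4 : r ^ j * t = t * r ^ j := by
        have := (Commute.pow_left (show Commute (r ^ (j + j)) t from hc) 2).eq
        rwa [← pow_mul, show (j + j) * 2 = j + 3 * j by omega, pow_add, pow_mul, hr, one_pow,
          mul_one] at this
      rw [hj, h4, mul_assoc, mul_inv_cancel, mul_one]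
    have hfix : w * t * w⁻¹ = t := by
      rcases h.four_cases hxy hrx hry ht hr hr1 ht1 hmem with e | e | e | e
      · exact absurd (by
          calc t = w⁻¹ * (w * t * w⁻¹) * w := by group
            _ = 1 := by rw [e]; group) ht1
      · exact e
      · exact key 1 (by rw [pow_one]; exact e)
      · exact key 2 e
    calc w * t = w * t * w⁻¹ * w := by group
      _ = t * w := by rw [hfix]
  have hcent : ∀ g : G, g • x = x → g • y = y → w * g = g * w := by
    intro g hgx hgy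
    have c1 : Commute w r := hwr
    have c2 : Commute w t := hwt
    have c3 : Commute w (r * t * r⁻¹) := (c1.mul_right c2).mul_right c1.inv_right
    have c4 : Commute w (r ^ 2 * t * (r ^ 2)⁻¹) :=
      ((c1.pow_right 2).mul_right c2).mul_right (c1.pow_right 2).inv_right
    rcases h.decomp hxy hgx hgy hrx hry ht hr hr1 ht1 with
      (e | e | e) | (e | e | e) | (e | e | e) | (e | e | e) <;> rw [e]
    exacts [(Commute.one_right w).eq, c1.eq, (c1.pow_right 2).eq, c2.eq, (c2.mul_right c1).eq,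
      (c2.mul_right (c1.pow_right 2)).eq, c3.eq, (c3.mul_right c1).eq,
      (c3.mul_right (c1.pow_right 2)).eq, c4.eq, (c4.mul_right c1).eq,
      (c4.mul_right (c1.pow_right 2)).eq]
  refine ⟨hcent, Set.ext fun c => ⟨fun hc => ?_, ?_⟩⟩
  · refine ⟨w * c, (h.mem_four hxy).2 ⟨?_, ?_, ?_⟩, by
      show w * (w * c) = c
      rw [← mul_assoc, hww, one_mul]⟩
    · rw [mul_smul, hc.1, hw.2.1]
    · rw [mul_smul, hc.2.1, hw.1]
    · have hcx : (w * c) • x = x := by rw [mul_smul, hc.1, hw.2.1]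
      have hcy : (w * c) • y = y := by rw [mul_smul, hc.2.1, hw.1]
      have e1 := hcent _ hcx hcy
      calc w * c * (w * c) = w * c * w * c := by group
        _ = w * (w * c) * c := by rw [e1]
        _ = (w * w) * (c * c) := by group
        _ = 1 := by rw [hww, hc.2.2, one_mul]
  · rintro ⟨v, hv, rfl⟩
    have hv' := (h.mem_four hxy).1 hv
    refine ⟨by rw [mul_smul, hv'.1, hw.1], by rw [mul_smul, hv'.2.1, hw.2.1], ?_⟩
    calc w * v * (w * v) = w * (v * w) * v := by group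
      _ = w * (w * v) * v := by rw [← hcent v hv'.1 hv'.2.1]
      _ = (w * w) * (v * v) := by group
      _ = 1 := by rw [hww, hv'.2.2, one_mul]

end Hyp

end CfsgLib.TwoPointAltFour
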