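import Cfsg.Agent.TwoPointAltFour.Swap

/-!
# The case of a swapping involution inverting an element of order three
-/

set_option autoImplicit false
set_option linter.unusedSectionVars false
set_option linter.style.haveILetI false
set_option linter.unusedSimpArgs false

namespace CfsgLib.TwoPointAltFour

open MulAction Subgroup

/-- The twelve elements `v r^j` with their images under `r ↦ r⁻¹`, `t ↦ t`. -/
def invPairs {K : Type*} [Group K] (r t : K) : List (K × K) :=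
  [(1, 1), (r, r⁻¹), (r ^ 2, r⁻¹ ^ 2), (t, t), (t * r, t * r⁻¹), (t * r ^ 2, t * r⁻¹ ^ 2),
   (r * t * r⁻¹, r⁻¹ * t * r⁻¹⁻¹), (r * t * r⁻¹ * r, r⁻¹ * t * r⁻¹⁻¹ * r⁻¹),
   (r * t * r⁻¹ * r ^ 2, r⁻¹ * t * r⁻¹⁻¹ * r⁻¹ ^ 2),
   (r ^ 2 * t * (r ^ 2)⁻¹, r⁻¹ ^ 2 * t * (r⁻¹ ^ 2)⁻¹),
   (r ^ 2 * t * (r ^ 2)⁻¹ * r, r⁻¹ ^ 2 * t * (r⁻¹ ^ 2)⁻¹ * r⁻¹),
   (r ^ 2 * t * (r ^ 2)⁻¹ * r ^ 2, r⁻¹ ^ 2 * t * (r⁻¹ ^ 2)⁻¹ * r⁻¹ ^ 2)]

set_option synthInstance.maxSize 2000 in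
theorem alt_four_invPairs : ∀ r t : alternatingGroup (Fin 4), r ^ 3 = 1 → r ≠ 1 → t * t = 1 → t ≠ 1 →
    ∀ p ∈ invPairs r t, (p.2 * p.1 = 1 → ∃ q ∈ invPairs r t, p.1 = q.2 * q.1⁻¹) ∧
      (p.2 = p.1 → p.1 = 1 ∨ p.1 = t) := by decide +kernel

theorem alt_four_inverting (ψ : alternatingGroup (Fin 4) →* alternatingGroup (Fin 4))
    {r t : alternatingGroup (Fin 4)} (hr : r ^ 3 = 1) (hr1 : r ≠ 1) (ht : t * t = 1) (ht1 : t ≠ 1)
    (hψr : ψ r = r⁻¹) (hψt : ψ t = t) (g : alternatingGroup (Fin 4)) :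
    (ψ g * g = 1 → ∃ k, g = ψ k * k⁻¹) ∧ (ψ g = g → g = 1 ∨ g = t) := by
  have hmem : ∀ k, (k, ψ k) ∈ invPairs r t := by
    intro k
    rcases alt_four_decomp k r t hr hr1 ht ht1 with
      (e | e | e) | (e | e | e) | (e | e | e) | (e | e | e) <;>
      simp [e, invPairs, map_mul, map_pow, map_inv, hψr, hψt]
  obtain ⟨h1, h2⟩ := alt_four_invPairs r t hr hr1 ht ht1 _ (hmem g)
  refine ⟨fun hg => ?_, h2⟩
  obtain ⟨⟨q1, q2⟩, hq, e⟩ := h1 hg
  refine ⟨q1, e.trans ?_⟩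
  -- the second coordinate is the image of the first
  have : q2 = ψ q1 := by
    simp only [invPairs, List.mem_cons, Prod.mk.injEq, List.not_mem_nil, or_false] at hq
    rcases hq with ⟨a, b⟩ | ⟨a, b⟩ | ⟨a, b⟩ | ⟨a, b⟩ | ⟨a, b⟩ | ⟨a, b⟩ | ⟨a, b⟩ | ⟨a, b⟩ | ⟨a, b⟩ |
      ⟨a, b⟩ | ⟨a, b⟩ | ⟨a, b⟩ <;>
      simp [a, b, map_mul, map_pow, map_inv, hψr, hψt]
  rw [this]

variable {G : Type*} [Group G] {Ω : Type*} [MulAction G Ω]

namespace Hyp

variable (h : Hyp G Ω) {x y : Ω} (hxy : x ≠ y)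
include h hxy

theorem exists_fixed_involution {r w : G} (hrx : r • x = x) (hry : r • y = y) (hr : r ^ 3 = 1)
    (hr1 : r ≠ 1) (hw : w ∈ Swap G x y) (hwr : w * r * w⁻¹ = r⁻¹) :
    ∃ t ∈ four G x y, t ≠ 1 ∧ w * t * w⁻¹ = t := by
  obtain ⟨t, ht, ht1⟩ := h.exists_ne_one hxy
  have hne : ∀ k : G, k * t * k⁻¹ ≠ 1 := fun k e => ht1 (by
    calc t = k⁻¹ * (k * t * k⁻¹) * k := by group
      _ = 1 := by rw [e]; group)
  have hmem : ∀ j : ℕ, r ^ j * t * (r ^ j)⁻¹ ∈ four G x y := fun j => by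
    have hj : ∀ z : Ω, r • z = z → r ^ j • z = z := fun z hz =>
      mem_stabilizer_iff.1 (pow_mem (mem_stabilizer_iff.2 hz : r ∈ stabilizer G z) j)
    have ht' := (h.mem_four hxy).1 ht
    have hji : ∀ z : Ω, r • z = z → (r ^ j)⁻¹ • z = z := fun z hz => by
      rw [inv_smul_eq_iff, hj z hz]
    refine (h.mem_four hxy).2 ⟨?_, ?_, ?_⟩
    · rw [mul_smul, mul_smul, hji x hrx, ht'.1, hj x hrx]
    · rw [mul_smul, mul_smul, hji y hry, ht'.2.1, hj y hry]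
    · calc r ^ j * t * (r ^ j)⁻¹ * (r ^ j * t * (r ^ j)⁻¹) = r ^ j * (t * t) * (r ^ j)⁻¹ := by group
        _ = 1 := by rw [ht'.2.2]; group
  have hw2 : ∀ j : ℕ, w * r ^ j * w⁻¹ = (r ^ j)⁻¹ := fun j => by
    rw [← conj_pow, hwr, inv_pow]
  have hcomp : ∀ j : ℕ, w * (r ^ j * t * (r ^ j)⁻¹) * w⁻¹ =
      (r ^ j)⁻¹ * (w * t * w⁻¹) * r ^ j := fun j => by
    rw [show w * (r ^ j * t * (r ^ j)⁻¹) * w⁻¹ =
      (w * r ^ j * w⁻¹) * (w * t * w⁻¹) * (w * r ^ j * w⁻¹)⁻¹ by group, hw2, inv_inv]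
  rcases h.four_cases hxy hrx hry ht hr hr1 ht1 (h.swap_normalizes hxy hw ht) with e | e | e | e
  · exact absurd e (hne w)
  · exact ⟨t, ht, ht1, e⟩
  · refine ⟨_, hmem 2, hne _, ?_⟩
    have e1 : r⁻¹ = r ^ 2 := inv_eq_of_mul_eq_one_right (by rw [← pow_succ', hr])
    rw [hcomp, e]
    calc (r ^ 2)⁻¹ * (r * t * r⁻¹) * r ^ 2 = r⁻¹ * t * r⁻¹⁻¹ := by rw [pow_two]; group
      _ = r ^ 2 * t * (r ^ 2)⁻¹ := by rw [e1]
  · refine ⟨_, hmem 1, hne _, ?_⟩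
    rw [hcomp, e, pow_one]
    rw [pow_two]
    group

/-- The structure of the swapping involutions in the inverting case. -/
theorem swap_inverting {r w t : G} (hrx : r • x = x) (hry : r • y = y) (hr : r ^ 3 = 1)
    (hr1 : r ≠ 1) (hw : w ∈ Swap G x y) (hwr : w * r * w⁻¹ = r⁻¹) (ht : t ∈ four G x y)
    (ht1 : t ≠ 1) (hwt : w * t * w⁻¹ = t) :
    (∀ c ∈ Swap G x y, ∃ k : G, k • x = x ∧ k • y = y ∧ c = k * w * k⁻¹) ∧
      (∀ g : G, g • x = x → g • y = y → w * g * w⁻¹ = g → g = 1 ∨ g = t) := by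
  obtain ⟨e⟩ := h.iso x y hxy
  have hwi : w⁻¹ = w := inv_eq_of_mul_eq_one_right hw.2.2
  have hst : ∀ g : ↥(stabilizer G x ⊓ stabilizer G y),
      w * (g : G) * w⁻¹ ∈ stabilizer G x ⊓ stabilizer G y := fun g => by
    refine mem_inf.2 ⟨?_, ?_⟩
    · rw [mem_stabilizer_iff, hwi, mul_smul, mul_smul, hw.1,
        mem_stabilizer_iff.1 g.2.2, hw.2.1]
    · rw [mem_stabilizer_iff, hwi, mul_smul, mul_smul, hw.2.1,
        mem_stabilizer_iff.1 g.2.1, hw.1]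
  let φ : ↥(stabilizer G x ⊓ stabilizer G y) →* ↥(stabilizer G x ⊓ stabilizer G y) :=
    MonoidHom.mk' (fun g => ⟨_, hst g⟩) fun a b => Subtype.ext (by
      show w * ((a : G) * b) * w⁻¹ = w * (a : G) * w⁻¹ * (w * (b : G) * w⁻¹)
      group)
  have ht' := (h.mem_four hxy).1 ht
  set ψ := e.toMonoidHom.comp (φ.comp e.symm.toMonoidHom) with hψ
  have hψe : ∀ g, ψ (e g) = e (φ g) := fun g => by simp [hψ]
  have key := alt_four_inverting ψ (r := e ⟨r, hrx, hry⟩) (t := e ⟨t, ht'.1, ht'.2.1⟩)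
    (by rw [← map_pow, ← map_one e]; exact congrArg e (Subtype.ext hr))
    (fun hp => hr1 (congrArg Subtype.val (e.injective (hp.trans (map_one e).symm))))
    (by rw [← map_mul, ← map_one e]; exact congrArg e (Subtype.ext ht'.2.2))
    (fun hp => ht1 (congrArg Subtype.val (e.injective (hp.trans (map_one e).symm))))
    (by rw [hψe, ← map_inv]; exact congrArg e (Subtype.ext hwr))
    (by rw [hψe]; exact congrArg e (Subtype.ext hwt))
  refine ⟨fun c hc => ?_, fun g hgx hgy hg => ?_⟩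
  · have hcx : (w * c) • x = x := by rw [mul_smul, hc.1, hw.2.1]
    have hcy : (w * c) • y = y := by rw [mul_smul, hc.2.1, hw.1]
    obtain ⟨k, hk⟩ := (key (e ⟨w * c, hcx, hcy⟩)).1 (by
      rw [hψe, ← map_mul, ← map_one e]
      refine congrArg e (Subtype.ext ?_)
      show w * (w * c) * w⁻¹ * (w * c) = 1
      calc w * (w * c) * w⁻¹ * (w * c) = (w * w) * (c * c) := by group
        _ = 1 := by rw [hw.2.2, hc.2.2, one_mul])
    obtain ⟨k, rfl⟩ := e.surjective k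
    rw [hψe, ← map_inv, ← map_mul, e.injective.eq_iff] at hk
    have hk' : w * c = w * (k : G) * w⁻¹ * (k : G)⁻¹ := congrArg Subtype.val hk
    refine ⟨k, k.2.1, k.2.2, ?_⟩
    calc c = w⁻¹ * (w * c) := by group
      _ = (k : G) * w⁻¹ * (k : G)⁻¹ := by rw [hk']; group
      _ = _ := by rw [hwi]
  · rcases (key (e ⟨g, hgx, hgy⟩)).2 (by rw [hψe]; exact congrArg e (Subtype.ext hg)) with he | he
    · exact Or.inl (congrArg Subtype.val (e.injective (he.trans (map_one e).symm)))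
    · exact Or.inr (congrArg Subtype.val (e.injective he))

theorem ncard_swap_inverting [Finite G] {r w t : G} (hrx : r • x = x) (hry : r • y = y)
    (hr : r ^ 3 = 1) (hr1 : r ≠ 1) (hw : w ∈ Swap G x y) (hwr : w * r * w⁻¹ = r⁻¹)
    (ht : t ∈ four G x y) (ht1 : t ≠ 1) (hwt : w * t * w⁻¹ = t) : (Swap G x y).ncard = 6 := by
  obtain ⟨h1, h2⟩ := h.swap_inverting hxy hrx hry hr hr1 hw hwr ht ht1 hwt
  have ht' := (h.mem_four hxy).1 ht
  have hwt' : w * t = t * w := mul_inv_eq_iff_eq_mul.1 hwt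
  have hd := double_count (α := ↥(stabilizer G x ⊓ stabilizer G y)) (β := Swap G x y)
    (fun g c => (c : G) = (g : G) * w * (g : G)⁻¹) (m := 1) (l := 2) ?_ ?_
  · rw [h.card_pair hxy, Nat.card_coe_set_eq] at hd
    omega
  · intro g
    have hmem : (g : G) * w * (g : G)⁻¹ ∈ Swap G x y := by
      have := h.swap_conj (g := (g : G)) hw
      rwa [mem_stabilizer_iff.1 g.2.1, mem_stabilizer_iff.1 g.2.2] at this
    exact Set.ncard_eq_one.2 ⟨⟨_, hmem⟩, Set.ext fun c => ⟨fun hc => Subtype.ext hc,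
      fun hc => congrArg Subtype.val hc⟩⟩
  · intro c
    obtain ⟨k, hkx, hky, hk⟩ := h1 c c.2
    let k' : ↥(stabilizer G x ⊓ stabilizer G y) := ⟨k, hkx, hky⟩
    let t' : ↥(stabilizer G x ⊓ stabilizer G y) := ⟨t, ht'.1, ht'.2.1⟩
    refine Set.ncard_eq_two.2 ⟨k', k' * t', fun e => ht1 ?_, Set.ext fun g => ⟨fun hg => ?_, ?_⟩⟩
    · have e' : k = k * t := congrArg Subtype.val e
      simpa using e'.symm
    · have hg' : k * w * k⁻¹ = (g : G) * w * (g : G)⁻¹ := hk.symm.trans hg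
      have : w * (k⁻¹ * (g : G)) * w⁻¹ = k⁻¹ * (g : G) := by
        calc w * (k⁻¹ * (g : G)) * w⁻¹ = k⁻¹ * (k * w * k⁻¹) * (g : G) * w⁻¹ := by group
          _ = k⁻¹ * ((g : G) * w * (g : G)⁻¹) * (g : G) * w⁻¹ := by rw [hg']
          _ = k⁻¹ * (g : G) := by group
      rcases h2 _ (k'⁻¹ * g).2.1 (k'⁻¹ * g).2.2 this with e | e
      · exact Or.inl (Subtype.ext (inv_mul_eq_one.1 e).symm)
      · exact Or.inr (Subtype.ext (inv_mul_eq_iff_eq_mul.1 e))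
    · rintro (rfl | rfl)
      · exact hk
      · show (c : G) = k * t * w * (k * t)⁻¹
        rw [hk, show k * t * w * (k * t)⁻¹ = k * (t * w * t⁻¹) * k⁻¹ by group, ← hwt',
          mul_inv_cancel_right]

end Hyp

end CfsgLib.TwoPointAltFour
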